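import Cfsg.Agent.TwoF.DC.TBD.BigV
import Cfsg.Agent.TwoF.DC.TE.Cmb

/-!
# TwoF, defining characteristic, type D: the modules which are not minuscule are large (helper78)
-/

set_option autoImplicit false
set_option linter.unusedSectionVars false

namespace Cfsg.Agent.TwoF.DC.TBD.Bg

open Finset Matrix Sum Module Cfsg.Agent.TwoF.DC.TC

theorem le_two_pow {m : ℕ} (h : 4 ≤ m) : m ≤ 2 ^ (m - 2) := by
  induction m, h using Nat.le_induction with
  | base => norm_num
  | succ n hn ih =>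
    rw [show n + 1 - 2 = n - 2 + 1 by omega, pow_succ]
    omega

variable {m : ℕ} [hm : Fact (2 ≤ m)]

theorem fst_val : (fst m).1 = 0 := rfl

theorem fw_OS {l : Fin m} (h : l.1 + 2 < m) : OS (l.1 + 1) (fw l) := by
  have h1 : fw l = vc (Iic l) ∅ := funext fun i => by
    simp only [fw, vc, if_pos h, notMem_empty, if_false, mem_Iic, Fin.le_def]
  rw [h1, ← Fin.card_Iic]
  exact vc_OS (empty_subset _)

theorem fw_pen_lst : OS (m - 2 + 1) (fw (pen m) + fw (lst m)) := by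
  have h0 := hm.out
  have h1 : fw (pen m) + fw (lst m) = vc (univ.erase (lst m)) ∅ := funext fun i => by
    have := i.2
    simp only [fw, vc, notMem_empty, if_false, mem_erase, mem_univ, and_true, Pi.add_apply, pen_val, lst_val, Ne,
      Fin.ext_iff]
    split_ifs <;> omega
  have h2 := vc_OS (empty_subset (univ.erase (lst m)))
  rwa [card_erase_of_mem (mem_univ _), card_univ, Fintype.card_fin, ← h1, show m - 1 = m - 2 + 1 by omega] at h2

theorem fw_fst_lst (h : 3 ≤ m) : fw (fst m) + fw (lst m) = x3 m := funext fun i => by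
  have := i.2
  simp only [fw, x3, Pi.add_apply, fst_val, lst_val, Fin.ext_iff]
  split_ifs <;> omega

theorem fw_fst_pen (h : 3 ≤ m) : fw (fst m) + fw (pen m) = gV (x3 m) := funext fun i => by
  have := i.2
  simp only [fw, x3, gV, Pi.add_apply, fst_val, pen_val, Fin.ext_iff]
  split_ifs <;> omega

theorem gV_of_ne (y : Fin m → ℤ) {i : Fin m} (h : i ≠ lst m) : gV y i = y i :=
  if_neg fun e => h (Fin.ext (by rw [lst_val]; omega))

theorem gV_lst (y : Fin m → ℤ) : gV y (lst m) = -y (lst m) := if_pos (by have := hm.out; rw [lst_val]; omega)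

theorem fst_lt {j : Fin m} (h : j ≠ fst m) : fst m < j :=
  Fin.lt_def.2 (Nat.pos_of_ne_zero fun e => h (Fin.ext e))

theorem lt_lst {j : Fin m} (h : j ≠ lst m) : j < lst m := by
  have := j.2
  have : j.1 ≠ m - 1 := fun e => h (Fin.ext e)
  rw [Fin.lt_def, lst_val]
  omega

theorem succ_lt {j : Fin m} (h : j ≠ lst m) : j.1 + 1 < m := by
  have := Fin.lt_def.1 (lt_lst h)
  rw [lst_val] at this
  omega

variable {p : ℕ} {k L : Type} [Field k] [AddCommGroup L] [Module k L] (H : HW (eD m).rc p k L)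

/-- the vectors with the property `O` and a negative pairing count for the codimension -/
def Cn (O : (Fin m → ℤ) → Prop) : Prop :=
  ∀ (S : Finset (PD m)) (A : Finset (Fin m → ℤ)), (∀ y ∈ A, O y ∧ ∃ b ∈ S, rd b ⬝ᵥ y < 0) → A.card ≤ H.cL S

/-- `x` is the vector of a dominant weight below the highest weight -/
def Bl (x : Fin m → ℤ) : Prop := ∃ μ, Dom μ ∧ (∀ i, μ i ≤ H.lam i) ∧ e2 μ = x

theorem bl_single {l : Fin m} (h : H.lam l ≠ 0) : Bl H (fw l) := ⟨_, HW.dom_single l, H.single_le h, e2_single l⟩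

theorem bl_pair {i j : Fin m} (h0 : i ≠ j) (h : H.lam i ≠ 0) (h' : H.lam j ≠ 0) : Bl H (fw i + fw j) := by
  refine ⟨Pi.single i 1 + Pi.single j 1, fun l => add_nonneg (HW.dom_single i l) (HW.dom_single j l), fun l => ?_,
    by rw [e2_add, e2_single, e2_single]⟩
  simp only [Pi.add_apply, Pi.single_apply]
  split_ifs with h1 h2 h2
  · exact absurd (h1.symm.trans h2) h0
  · rw [h1]; omega
  · rw [h2]; omega
  · omega

variable {H}

theorem Bl.le_d {x : Fin m → ℤ} (h : Bl H x) (A : Finset (Fin m → ℤ)) (hA : ∀ y ∈ A, WO x y) : A.card ≤ H.d := by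
  obtain ⟨μ, h1, h2, rfl⟩ := h
  exact card_le_dD H h1 h2 A hA

theorem Bl.le_fix {x : Fin m → ℤ} (h : Bl H x) {r : ℕ} (hx : OS (r + 1) x) (hr : r + 1 < m) (g : H.GOp (gN m) (gP m)) :
    (m - 1).choose r * 2 ^ r ≤ H.d - finrank k (LinearMap.ker (g.g.toLinearMap - 1)) := by
  obtain ⟨μ, h1, h2, rfl⟩ := h
  obtain ⟨A, a1, a2⟩ := exA (lst m) r
  obtain ⟨B, b1, b2⟩ := exists_wts A fun y hy => hx.wo hr (a2 y hy).1
  obtain ⟨C, c1, c2⟩ := TE.exists_ext H h1 h2 B fun ν hν => (b2 ν hν).1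
  rw [← a1, ← b1, ← c1]
  refine TE.card_le_codim_fix H g (fun ν => e2 ν (lst m) < 0) (fun ν h3 h4 => ?_) C fun ν₀ h3 => ?_
  · rw [e2_gN, gV_lst] at h4
    omega
  · obtain ⟨h4, ν, h5, h6⟩ := c2 ν₀ h3
    obtain ⟨h7, h8⟩ := a2 _ (b2 ν h5).2
    obtain ⟨j, -, hj⟩ := h7.exists_zero univ (by simpa using hr)
    have h9 : j < lst m := lt_lst fun e => by rw [e] at hj; omega
    have e1 := h6 (true, dp j (lst m) h9) ((pair_neg_iff _ _).2 (by rw [dp_dot]; omega))
    have e2' := h6 (false, dm j (lst m) h9) (by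
      have := two_pair_true ν (dm j (lst m) h9)
      rw [dm_dot] at this
      rw [RC.pair_false]
      omega)
    rw [pair_neg_iff, dp_dot] at e1
    have e3 := two_pair_true ν₀ (dm j (lst m) h9)
    rw [dm_dot] at e3
    rw [RC.pair_false] at e2'
    exact ⟨h4.isWt, by omega⟩

theorem Cn.full {r : ℕ} (h : Cn H (OS (r + 1))) (h4 : 4 ≤ m) (h1 : 1 ≤ r) (h2 : r + 1 < m) {S : Finset (PD m)}
    (hS : FullS S) : m * (m - 1) + 3 ≤ H.cL S := by
  have h3 : (univ.erase (fst m)).card = m - 1 := by rw [card_erase_of_mem (mem_univ _), card_univ, Fintype.card_fin]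
  obtain ⟨A, a1, a2⟩ := exN (fst m) _ (notMem_erase _ univ) r (by omega)
  refine (full_le h4 h1 h2).trans ?_
  rw [h3] at a1
  rw [← a1]
  obtain ⟨s1, hl, s2 | s2⟩ := hS
  · refine h S A fun y hy => ?_
    obtain ⟨h5, j, h6, h7⟩ := a2 y hy
    refine ⟨h5, dp (fst m) j (fst_lt (ne_of_mem_erase h6)), ?_, by rwa [dp_dot]⟩
    by_cases h8 : j = lst m
    · subst h8
      exact s2
    · exact s1 j _ (succ_lt h8)
  · rw [← card_image_of_injective A gV_inj]
    refine h S _ fun y hy => ?_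
    obtain ⟨z, hz, rfl⟩ := mem_image.1 hy
    obtain ⟨h5, j, h6, h7⟩ := a2 z hz
    refine ⟨h5.gV, ?_⟩
    by_cases h8 : j = lst m
    · subst h8
      exact ⟨_, s2, by rw [dm_dot, gV_lst, gV_of_ne z fst_ne_lst]; omega⟩
    · exact ⟨_, s1 j (fst_lt (ne_of_mem_erase h6)) (succ_lt h8), by rwa [dp_dot, gV_of_ne z h8, gV_of_ne z fst_ne_lst]⟩

theorem Cn.part (h : Cn H (OS (1 + 1))) {S : Finset (PD m)} {u : ℕ} (h2 : 2 ≤ u) (h1 : u + 2 ≤ m)
    (hS : ∀ j (h : fst m < j), j.1 ≤ u → dp (fst m) j h ∈ S) : (u + 1) * u + 3 ≤ H.cL S := by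
  have h3 : (Ioc (fst m) ⟨u, by omega⟩).card = u := by rw [Fin.card_Ioc]; rfl
  obtain ⟨A, a1, a2⟩ := exN (fst m) (Ioc (fst m) ⟨u, by omega⟩) left_notMem_Ioc 1 (by omega)
  refine le_trans ?_ (h S A fun y hy => ?_)
  · rw [a1, h3, Nat.choose_one_right, show (2 : ℕ) ^ (1 + 1) - 1 = 3 from rfl, show 1 + 1 = 2 from rfl]
    obtain ⟨v, rfl⟩ : ∃ v, u = v + 2 := ⟨u - 2, by omega⟩
    have h5 := Nat.choose_two_right (v + 2)
    have h6 : 2 ∣ (v + 2) * (v + 2 - 1) := (Nat.even_mul_pred_self _).two_dvd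
    rw [show v + 2 - 1 = v + 1 from rfl] at h5 h6
    have h7 : 2 * (v + 2).choose 2 = (v + 2) * (v + 1) := by omega
    have h8 : v + 3 ≤ m - 1 := by omega
    nlinarith
  · obtain ⟨h5, j, h6, h7⟩ := a2 y hy
    exact ⟨h5, _, hS j (mem_Ioc.1 h6).1 (mem_Ioc.1 h6).2, by rwa [dp_dot]⟩

variable [Fact p.Prime] [CharP k p]

theorem Bl.cn {x : Fin m → ℤ} (h : Bl H x) : Cn H (WO x) := by
  obtain ⟨μ, h1, h2, rfl⟩ := h
  exact fun S A hA => card_le_cLD H S h1 h2 A hA

theorem Bl.cn_OS {x : Fin m → ℤ} (h : Bl H x) {s : ℕ} (hx : OS s x) (hs : s < m) : Cn H (OS s) :=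
  fun S A hA => h.cn S A fun y hy => ⟨hx.wo hs (hA y hy).1, (hA y hy).2⟩

/-- a multiple of a minuscule weight -/
theorem cn_mul {l l' : Fin m} (h0 : ∀ i, i ≠ l → H.lam i = 0) (h2 : 2 ≤ H.lam l) (hl : l'.1 + 2 < m)
    (h3 : ∀ b, rd b ⬝ᵥ fw l ≤ 2) (h4 : ∀ i, (eD m).rc.C i l = if i = l then 2 else if i = l' then -1 else 0)
    (h5 : l ≠ l') : Cn H (OS (l'.1 + 1)) := fun S A hA => by
  have h6 : H.lz = (H.lam l : ℤ) • Pi.single l 1 := funext fun i => by
    rw [HW.lz_apply, Pi.smul_apply, Pi.single_apply]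
    split_ifs with h
    · rw [h, smul_eq_mul, mul_one]
    · rw [h0 i h, smul_zero, Nat.cast_zero]
  obtain ⟨B, b1, b2⟩ := exists_wts (μ := Pi.single l' 1) A fun y hy => by
    rw [e2_single]
    exact (fw_OS hl).wo (by omega) (hA y hy).1
  rw [← b1]
  refine TE.card_le_cL_wt H (M := H.lam l) (fun b => ?_) (by exact_mod_cast H.lam_lt l) S (HW.dom_single l')
    (μ' := ((H.lam l : ℤ) - 2) • Pi.single l 1) (fun i => mul_nonneg (by omega) (HW.dom_single l i)) ?_ B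
    fun ν hν => ⟨(b2 ν hν).1, ?_⟩
  · have h7 := two_pair_true H.lz b
    rw [h6, e2_smul, e2_single, dotProduct_smul, smul_eq_mul, ← h6] at h7
    nlinarith [h3 b]
  · have h7 := (xD H).isWt_sub H.ext_lz (x := (true, (eD m).rc.zi l))
      (by rw [RC.pair_zi, HW.lz_apply]; exact_mod_cast lt_of_lt_of_le two_pos h2)
    refine Eq.mp (congrArg H.IsWt (funext fun i => ?_)) h7
    rw [Pi.sub_apply, RC.wt_zi, h4, h6]
    simp only [Pi.add_apply, Pi.smul_apply, Pi.single_apply, smul_eq_mul]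
    split_ifs with e1 e2'
    · exact absurd (e1.symm.trans e2') h5
    all_goals ring
  · simp only [pair_neg_iff]
    exact (hA _ (b2 ν hν).2).2

variable (H)

theorem cases (h4 : 4 ≤ m) (hN : ¬ Nt H.lam) (hS : ¬ Spn H.lam) :
    (∃ r x, 1 ≤ r ∧ r + 1 < m ∧ OS (r + 1) x ∧ Bl H x) ∨
      (H.lam (pen m) ≠ H.lam (lst m) ∧ (Bl H (x3 m) ∨ Bl H (gV (x3 m)))) ∨
      (p ≠ 2 ∧ ∃ r, 1 ≤ r ∧ r + 1 < m ∧ Cn H (OS (r + 1))) := by
  by_cases h1 : ∃ l : Fin m, 1 ≤ l.1 ∧ l.1 + 2 < m ∧ H.lam l ≠ 0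
  · obtain ⟨l, h2, h3, h5⟩ := h1
    exact Or.inl ⟨l, _, h2, by omega, fw_OS h3, bl_single H h5⟩
  have n1 : pen m ≠ lst m := fun e => by have := congrArg Fin.val e; rw [pen_val, lst_val] at this; omega
  have n2 : fst m ≠ pen m := fun e => by have := congrArg Fin.val e; rw [pen_val, fst_val] at this; omega
  by_cases h2 : H.lam (pen m) ≠ 0 ∧ H.lam (lst m) ≠ 0
  · exact Or.inl ⟨m - 2, _, by omega, by omega, fw_pen_lst, bl_pair H n1 h2.1 h2.2⟩
  by_cases h3 : H.lam (fst m) ≠ 0 ∧ H.lam (lst m) ≠ 0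
  · exact Or.inr (Or.inl ⟨by omega, Or.inl (fw_fst_lst (m := m) (by omega) ▸ bl_pair H fst_ne_lst h3.1 h3.2)⟩)
  by_cases h5 : H.lam (fst m) ≠ 0 ∧ H.lam (pen m) ≠ 0
  · exact Or.inr (Or.inl ⟨by omega, Or.inr (fw_fst_pen (m := m) (by omega) ▸ bl_pair H n2 h5.1 h5.2)⟩)
  obtain ⟨l, hl⟩ := H.exists_lam_pos
  have h6 : ∀ i, H.lam i ≠ 0 → i = fst m ∨ i = pen m ∨ i = lst m := fun i hi => by
    have := i.2
    have h7 : ¬ (1 ≤ i.1 ∧ i.1 + 2 < m) := fun e => h1 ⟨i, e.1, e.2, hi⟩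
    simp only [Fin.ext_iff, fst_val, pen_val, lst_val]
    omega
  have h7 : ∀ i, i ≠ l → H.lam i = 0 := fun i hi => by
    by_contra h8
    rcases h6 i h8 with rfl | rfl | rfl <;> rcases h6 l hl.ne' with rfl | rfl | rfl <;> first | exact hi rfl | omega
  have h8 : 2 ≤ H.lam l := by
    by_contra h9
    have h10 : H.lam = Pi.single l 1 := funext fun i => by
      rw [Pi.single_apply]
      split_ifs with h
      · rw [h]; omega
      · exact h7 i h
    rcases h6 l hl.ne' with rfl | rfl | rfl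
    exacts [hN h10, hS (Or.inl h10), hS (Or.inr h10)]
  have h9 := H.lam_lt l
  have h10 : l.1 = 0 ∨ l.1 = m - 2 ∨ l.1 = m - 1 := by
    simpa only [Fin.ext_iff, fst_val, pen_val, lst_val] using h6 l hl.ne'
  obtain ⟨l', h11⟩ : ∃ l' : Fin m, l'.1 = if l.1 = 0 then 1 else m - 3 := 
    ⟨⟨if l.1 = 0 then 1 else m - 3, by split_ifs <;> omega⟩, rfl⟩
  refine Or.inr (Or.inr ⟨by omega, l', by split_ifs at h11 <;> omega, by split_ifs at h11 <;> omega,
    cn_mul h7 h8 (by split_ifs at h11 <;> omega) (fun b => ?_) (fun i => ?_)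
      fun e => by rw [e] at h10 h11; split_ifs at h11 <;> omega⟩)
  · have := b.2
    rw [rd_dot, xv_fw, xv_fw]
    split_ifs <;> omega
  · have := i.2
    rw [C_D_eq]
    simp only [Fin.ext_iff]
    split_ifs at h11 ⊢ <;> omega

end Cfsg.Agent.TwoF.DC.TBD.Bg

namespace Cfsg.Agent.TwoF.DC.TBD

open Finset Module Bg

/-- **the modules which are not minuscule are large** -/
theorem boxBig (hM : BoxMin) : BoxBig := by
  intro p _ m _ h4 k L _ _ _ _ H hN hS
  have h0 := le_two_pow h4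
  obtain ⟨n, hn⟩ : ∃ n, m = n + 4 := ⟨m - 4, by omega⟩
  have e1 : m - 1 = n + 3 := by omega
  have e2 : 2 ^ (m - 1) = 2 * 2 ^ (m - 2) := by rw [show m - 1 = m - 2 + 1 by omega, pow_succ']
  refine ⟨fun S hF => ?_, fun hp => ?_, fun hp hl g S hA hI => ?_⟩
  · rcases Bg.cases H h4 hN hS with ⟨r, x, h1, h2, h3, h5⟩ | ⟨-, h1⟩ | ⟨-, r, h1, h2, h3⟩
    · have := (h5.cn_OS h3 h2).full h4 h1 h2 hF
      omega
    · obtain ⟨A, a1, a2⟩ := exN3 (m := m) (by omega)
      have h2 : m * (m - 1) < A.card := a1 ▸ Nat.lt_succ_of_le (Nat.mul_le_mul_left _ (by omega))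
      refine h2.trans_le ?_
      rcases h1 with h1 | h1
      · refine h1.cn S A fun y hy => ?_
        obtain ⟨h3, j, h5, h6, h7⟩ := a2 y hy
        exact ⟨h3, _, hF.1 j (fst_lt h5) (succ_lt h6), by rwa [dp_dot]⟩
      · rw [← card_image_of_injective A gV_inj]
        refine h1.cn S _ fun y hy => ?_
        obtain ⟨z, hz, rfl⟩ := mem_image.1 hy
        obtain ⟨h3, j, h5, h6, h7⟩ := a2 z hz
        exact ⟨wo_gV h3, _, hF.1 j (fst_lt h5) (succ_lt h6), by rwa [dp_dot, gV_of_ne z h6, gV_of_ne z fst_ne_lst]⟩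
    · have := h3.full h4 h1 h2 hF
      omega
  · rcases Bg.cases H h4 hN hS with ⟨r, x, h1, h2, h3, h5⟩ | ⟨-, h1⟩ | ⟨h1, -⟩
    · obtain ⟨A, a1, a2⟩ := exO m (r + 1)
      exact (le_choose_mul (by omega) m h2).trans (a1 ▸ h5.le_d A fun y hy => h3.wo h2 (a2 y hy))
    · obtain ⟨A, a1, a2⟩ := exO3 m
      have h2 : 2 * (m * (m - 1)) ≤ A.card := by
        rw [a1, e2, mul_left_comm m]
        exact Nat.mul_le_mul_left _ (Nat.mul_le_mul_left _ (by omega))
      refine h2.trans ?_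
      rcases h1 with h1 | h1
      · exact h1.le_d A a2
      · rw [← card_image_of_injective A gV_inj]
        refine h1.le_d _ fun y hy => ?_
        obtain ⟨z, hz, rfl⟩ := mem_image.1 hy
        exact wo_gV (a2 z hz)
    · exact absurd hp h1
  · rcases Bg.cases H h4 hN hS with ⟨r, x, h1, h2, h3, h5⟩ | ⟨h1, -⟩ | ⟨h1, -⟩
    · by_cases hF : FullS S
      · have h6 := (h5.cn_OS h3 h2).full h4 h1 h2 hF
        have h7 := ((hM p m h4).2.1 S hA).1
        omega
      obtain ⟨u, u1, u2, u3⟩ := shape (Fact.out : p.Prime).ne_one hI hF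
      have h6 := h5.le_fix h3 h2 g
      rcases h1.eq_or_lt with rfl | h1
      · by_cases h7 : 2 ≤ u
        · have := (h5.cn_OS h3 h2).part h7 u1 u2
          omega
        · rw [Nat.choose_one_right] at h6
          have h8 : (u + 1) * u ≤ 2 * 1 := Nat.mul_le_mul (by omega) (by omega)
          omega
      · have h7 := le_choose_mul h1 (m - 1) (by omega)
        have h8 : (u + 1) * u ≤ (n + 3) * (n + 2) := Nat.mul_le_mul (by omega) (by omega)
        have h9 : 3 * 2 ≤ (n + 3) * (n + 2) := Nat.mul_le_mul (by omega) (by omega)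
        rw [e1, show n + 3 - 1 = n + 2 from rfl] at h7
        rw [e1] at h6
        omega
    · refine absurd ?_ h1
      have h2 := congrFun hl (pen m)
      rw [gN_symm, Function.comp_apply, show gN m (pen m) = lst m from Equiv.swap_apply_left _ _] at h2
      exact h2.symm
    · exact absurd hp h1

end Cfsg.Agent.TwoF.DC.TBD
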