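import Cfsg.Agent.TwoF.DC.TBD.CTB

/-!
# TwoF, defining characteristic, type D: `boxCT` (helper33)
-/

set_option autoImplicit false
set_option linter.unusedSectionVars false

namespace Cfsg.Agent.TwoF.DC.TBD

open Finset Matrix Sum Cfsg.Agent.TwoF.DC.TC

namespace CT

section fam

variable {p : ℕ} {ι Φ k G : Type} [Fintype ι] [DecidableEq ι] [Fintype Φ] [DecidableEq Φ] [Field k] [Group G]
  {D : RDat p ι Φ k G} {σ : Equiv.Perm ι} (F : Fam D σ) {S : Finset Φ}

theorem good_of {σ' : Equiv.Perm Φ} (hne : S.Nonempty) (hσ : ∀ b ∈ S, σ' b ∈ S)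
    (hc : ∀ b ∈ S, ∀ b' ∈ S, ∀ s t, Commute (D.z b s) (D.z b' t)) (hd : ∀ j, F.dbl j = false)
    (h3 : ∀ j, Cub3 (F.H j) S) (hv : ∑ j, (F.H j).cG S ≤ 2 * S.card) : F.Good σ' :=
  ⟨S, hne, hσ, hc, fun j _ => h3 j, fun j hj => by simp [hd j] at hj, by
    simp only [Fam.valG, hd, Bool.false_eq_true, if_false, ← mul_sum]
    omega⟩

theorem term_le (hv : F.val S ≤ 4 * S.card) (j : F.J) :
    (if F.dbl j then (F.H j).cL S * (2 * (F.H j).d - (F.H j).cL S) else 2 * (F.H j).cL S) ≤ 4 * S.card :=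
  (single_le_sum (f := fun j => if F.dbl j then (F.H j).cL S * (2 * (F.H j).d - (F.H j).cL S) else 2 * (F.H j).cL S)
    (fun _ _ => Nat.zero_le _) (mem_univ j)).trans hv

theorem sum_le (hv : F.val S ≤ 4 * S.card) (hd : ∀ j, F.dbl j = false) : ∑ j, (F.H j).cL S ≤ 2 * S.card := by
  simp only [Fam.val, hd, Bool.false_eq_true, if_false, ← mul_sum] at hv
  omega

end fam

theorem le_pow {m : ℕ} (h : 4 ≤ m) : m ≤ 2 ^ (m - 2) ∧ 2 ^ (m - 1) = 2 * 2 ^ (m - 2) := by
  obtain ⟨n, rfl⟩ : ∃ n, m = n + 4 := ⟨m - 4, by omega⟩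
  have := Nat.lt_two_pow_self (n := n)
  rw [show n + 4 - 2 = n + 2 by omega, show n + 4 - 1 = n + 2 + 1 by omega, pow_succ, pow_succ 2 (n + 1 + 1), pow_succ,
    pow_succ]
  omega

theorem eq_four {m : ℕ} (h4 : 4 ≤ m) (h : 2 * 2 ^ (m - 1) ≤ m * (m - 1) + m + 1) : m = 4 := by
  by_contra h5
  have h7 : ∀ n : ℕ, (n + 5) * (n + 5) + 1 < 2 * 2 ^ (n + 4) := fun n => by
    induction n with
    | zero => norm_num
    | succ n ih => rw [show n + 1 + 4 = n + 4 + 1 by omega, pow_succ]; nlinarith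
  obtain ⟨n, rfl⟩ : ∃ n, m = n + 5 := ⟨m - 5, by omega⟩
  have h8 := h7 n
  rw [show n + 5 - 1 = n + 4 by omega] at h
  nlinarith

variable {m : ℕ} [Fact (2 ≤ m)] {p : ℕ} [Fact p.Prime] {k L : Type} [Field k] [CharP k p] [AddCommGroup L] [Module k L]

/-- one module: natural or half spin, not a double -/
theorem one (hB : BoxBig) (hM : BoxMin) (h4 : 4 ≤ m) (H : HW (eD m).rc p k L) {S : Finset (PD m)} (hne : S.Nonempty)
    (hA : (eD m).rc.Ab p S) (hF : FullS S) (hs : Spn H.lam → 2 ^ (m - 2) ≤ H.cL S) (c : Bool)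
    (hv : (if c then H.cL S * (2 * H.d - H.cL S) else 2 * H.cL S) ≤ 4 * S.card) :
    (Nt H.lam ∨ Spn H.lam) ∧ H.Min ∧ c = false := by
  obtain ⟨-, h1, h2⟩ := hM p m h4
  obtain ⟨h3, h5, -⟩ := h1 S hA
  have h6 := H.cL_lt_d S
  have h7 : Nt H.lam ∨ Spn H.lam := by
    by_contra h
    have h8 := (hB p m h4 k L H (fun e => h (Or.inl e)) fun e => h (Or.inr e)).1 S hF
    have h9 := Nat.mul_le_mul_left (H.cL S) (show 2 ≤ 2 * H.d - H.cL S by omega)
    split_ifs at hv <;> omega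
  refine ⟨h7, h7.elim (fun h => ((h2 k L H).1 h).1) fun h => ((h2 k L H).2 h).1, ?_⟩
  cases c
  · rfl
  rw [if_pos rfl] at hv
  rcases h7 with h | h
  · obtain ⟨-, h8, -, h9⟩ := (h2 k L H).1 h
    rw [← (h9 S).1] at h5
    have h10 := Nat.mul_le_mul_left (H.cL S) (show 2 * (m - 1) + 1 ≤ 2 * H.d - H.cL S by omega)
    have h11 := card_pos.2 hne
    have h12 : H.cL S ≠ 0 := fun e => by rw [e] at h5; omega
    exact absurd hv (by nlinarith [Nat.pos_of_ne_zero h12])
  · have h8 := ((h2 k L H).2 h).2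
    have h9 := le_pow h4
    have h10 := Nat.mul_le_mul (h9.1.trans (hs h)) (show 2 * m ≤ 2 * H.d - H.cL S by omega)
    have h11 := Nat.mul_lt_mul_of_pos_left (show m - 1 < m by omega) (show 0 < m by omega)
    exact absurd hv (by nlinarith)

end CT

open CT in
/-- **type `D`: offenders inside `K`** -/
theorem boxCT (hB : BoxBig) (hM : BoxMin) : BoxCT := by
  intro p _ m _ h4 k G _ _ _ D hR σ σ' hσ F hT S hne hA hI hv
  classical
  have hp := (Fact.out : p.Prime).ne_one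
  have hcm := fun S (h : NN S) => comm_of_nn D hR h
  obtain ⟨_, R, _, _, _, _, _, _, _, _⟩ := D
  obtain rfl : R = _ := hR
  obtain ⟨⟨-, hO⟩, hS, hH⟩ := hM p m h4
  have hN := fun j => (hH k _ (F.H j)).1
  rcases cc_or hp hI with ⟨l, a, hl, hS'⟩ | hC
  swap
  · have h1 := fun j => one hB hM h4 (F.H j) hne hA (cc_full hp hI hC) (fun h => low_cc h hC ∅ (by simp)) _ (term_le F hv j)
    have h2 := sum_le F hv fun j => (h1 j).2.2
    refine Or.inl (good_of F hne (fun b hb => ?_) (hcm S (nn_of_ab hp hA)) (fun j => (h1 j).2.2) (fun j => ?_) ?_)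
    · rcases hσ with ⟨-, rfl⟩ | ⟨-, rfl⟩
      exacts [hb, cc_gP hp hA hI hC hb]
    · rcases (h1 j).1 with h | h
      · exact cub_nat (h1 j).2.1 (hN j h).2.2.1 (nn_of_ab hp hA)
      · exact cub_cc (h1 j).2.1 h hA hI hC hO
          ((single_le_sum (f := fun j => (F.H j).cL S) (fun _ _ => Nat.zero_le _) (mem_univ j)).trans h2)
    · rwa [sum_congr rfl fun j _ => (F.H j).cG_eq_cL ((h1 j).2.1.kerL_le_kerG S)]
  obtain ⟨S', h1, h2, h3, h5, h6⟩ := hT (Me a) (rad_up (cf_Me hl)) ⟨S, hS', hne, hv⟩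
  obtain rfl := eq_Me hp h3 hl h4 h1 h2 fun j hj => h6 j (rad_s (cf_Me hl) hj).1 (rad_s (cf_Me hl) hj).2
  clear hne hA hI hv hS' h1 h6 S
  have hA := ab_of_nn hp (nn_Me hl)
  have hpw := le_pow h4
  have h1 := fun j => one hB hM h4 (F.H j) h2 hA (full_Me hl) (fun h => by have := low_me h hl; omega) _ (term_le F h5 j)
  have hd := fun j => (h1 j).2.2
  have h6 := sum_le F h5 hd
  obtain ⟨h7, h8, -⟩ := hS _ hA
  rcases hσ with ⟨rfl, rfl⟩ | ⟨rfl, rfl⟩
  · refine Or.inl (good_of F h2 (fun b hb => hb) (hcm _ (nn_Me hl)) hd (fun j => ?_) ?_)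
    · rcases (h1 j).1 with h | h
      · exact cub_nat (h1 j).2.1 (hN j h).2.2.1 (nn_Me hl)
      · exact cub_me (h1 j).2.1 h hl
          (((single_le_sum (f := fun j => (F.H j).cL (Me a)) (fun _ _ => Nat.zero_le _) (mem_univ j)).trans h6).trans h7)
    · rwa [sum_congr rfl fun j _ => (F.H j).cG_eq_cL ((h1 j).2.1.kerL_le_kerG _)]
  by_cases hn : ∀ j, Nt (F.H j).lam
  · rw [sum_congr rfl fun j _ => ((hN j (hn j)).2.2.2 _).1, sum_const, card_univ, smul_eq_mul] at h6
    have h9 := card_pos.2 h2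
    have h10 : 0 < (Ix (Me a)).card := Nat.pos_of_ne_zero fun e => by rw [e] at h8; omega
    have h11 := Nat.le_of_mul_le_mul_right (h6.trans h8) h10
    rcases h11.eq_or_lt with h11 | h11
    · exact Or.inr ⟨rfl, fun j => ⟨hn j, hd j⟩, h11⟩
    obtain ⟨b, e1, e2⟩ := exists_in (m := m) (p := 0) (q := 1) (by omega) (by omega)
    have h12 := (nn_Me hl).mono (On_sub a)
    refine Or.inl (good_of F ⟨b, mem_On.2 (by omega)⟩ (fun _ => gP_On) (hcm _ h12) hd
      (fun j => cub_nat (h1 j).2.1 (hN j (hn j)).2.2.1 h12) ?_)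
    rw [sum_congr rfl fun j _ => ((hN j (hn j)).2.2.2 _).2, sum_const, card_univ, smul_eq_mul, hO, mul_comm]
    exact Nat.mul_le_mul card_Ix_On (by omega)
  obtain ⟨j, hj⟩ := not_forall.1 hn
  have hs := (h1 j).1.resolve_left hj
  have h9 : ∀ i : Fin m, (Pi.single i 1 : Fin m → ℕ) ∘ (gN m).symm = Pi.single (gN m i) 1 := fun i => funext fun x => by
    simp only [Function.comp_apply, Pi.single_apply, Equiv.symm_apply_eq]
  obtain ⟨j0, j1, e0, e1, e2⟩ : ∃ j0 j1, (F.H j0).lam = Pi.single l 1 ∧ Spn (F.H j1).lam ∧ j0 ≠ j1 := by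
    obtain ⟨i, hi, h10⟩ : ∃ i : Fin m, m ≤ i.1 + 2 ∧ (F.H j).lam = Pi.single i 1 := by
      rcases hs with h | h
      · exact ⟨_, by rw [pen_val]; omega, h⟩
      · exact ⟨_, by rw [lst_val]; omega, h⟩
    have h11 := F.lam_π j
    rw [h10, h9] at h11
    have h12 := gN_val i
    have h13 := i.2
    have h14 : F.π j ≠ j := fun e => by
      rw [e, h10] at h11
      have h15 := congrFun h11 i
      rw [Pi.single_eq_same, Pi.single_eq_of_ne (Fin.ne_of_val_ne (by split_ifs at h12 <;> omega))] at h15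
      omega
    have h15 : Spn (F.H (F.π j)).lam := by
      rw [h11]
      by_cases e : i.1 + 1 = m
      · exact Or.inl (by rw [show gN m i = pen m from Fin.ext (by rw [pen_val]; split_ifs at h12 <;> omega)])
      · exact Or.inr (by rw [show gN m i = lst m from Fin.ext (by rw [lst_val]; split_ifs at h12 <;> omega)])
    by_cases e : i = l
    · exact ⟨j, _, e ▸ h10, h15, h14.symm⟩
    · have h16 := Fin.val_ne_of_ne e
      unfold Nd at hl
      exact ⟨_, j, by rw [h11, show gN m i = l from Fin.ext (by split_ifs at h12 <;> omega)], hs, h14⟩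
  have h10 := low_node hl e0
  have h11 := low_me e1 hl
  have h12 := (sum_le_sum_of_subset (f := fun j => (F.H j).cL (Me a)) (subset_univ {j0, j1})).trans h6
  rw [sum_pair e2] at h12
  obtain rfl := eq_four h4 (by omega)
  have h13 : (univ : Finset F.J) = {j0, j1} := by
    symm
    refine eq_univ_of_forall fun i => by_contra fun hi => ?_
    have h14 := (sum_le_sum_of_subset (f := fun j => (F.H j).cL (Me a)) (subset_univ (insert i {j0, j1}))).trans h6
    rw [sum_insert hi, sum_pair e2] at h14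
    rcases (h1 i).1 with h | h
    · have := ((hN i h).2.2.2 (Me a)).1
      omega
    · have := low_me h hl
      omega
  have h14 : ∀ i, Spn (F.H i).lam := fun i => by
    have h15 := mem_univ i
    rw [h13, mem_insert, mem_singleton] at h15
    rcases h15 with rfl | rfl
    · rw [e0]
      unfold Nd at hl
      exact hl.symm.imp (fun h => by rw [show l = pen 4 from Fin.ext (by rw [pen_val]; omega)])
        fun h => by rw [show l = lst 4 from Fin.ext (by rw [lst_val]; omega)]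
    · exact e1
  have h15 := card_M1
  have h16 : ∀ i, (F.H i).cG (M1 4) ≤ 6 := fun i => by
    have := cG_M1 (h1 i).2.1 (h14 i) h4
    have := ((hH k _ (F.H i)).2 (h14 i)).2
    omega
  refine Or.inl (good_of F (card_pos.1 (by omega)) (fun _ => gP_M1) (hcm _ nn_M1) hd
    (fun i => cub_five (h1 i).2.1 (h14 i) (by omega) nn_M1) ?_)
  have := h16 j0
  have := h16 j1
  rw [h13, sum_pair e2]
  omega

end Cfsg.Agent.TwoF.DC.TBD
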