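import Cfsg.Agent.TwoF.DC.TBD.DDFlex
import Cfsg.Agent.TwoF.DC.TE.Cmb
import Cfsg.Agent.TwoF.DC.TE.Gen
import Cfsg.Agent.TwoF.DC.D2.Orb

/-!
# TwoF, defining characteristic, type D, `boxD` (3): `BG`, `CTF`, `CTG`, the main theorem (helper77)
-/

set_option autoImplicit false
set_option linter.unusedSectionVars false

namespace Cfsg.Agent.TwoF.DC.TBD

open Finset Module Matrix Sum Cfsg.Agent.TwoF.DC.TC

namespace DD

theorem pow_lb {m : ℕ} (h : 6 ≤ m) : m * (m - 1) + 2 ≤ 2 ^ (m - 1) := by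
  induction m, h using Nat.le_induction with
  | base => decide
  | succ n hn ih =>
    obtain ⟨e, rfl⟩ : ∃ e, n = e + 1 := ⟨n - 1, by omega⟩
    rw [Nat.add_sub_cancel] at ih ⊢
    rw [pow_succ]
    nlinarith

theorem two_le_pow {m : ℕ} (h : 4 ≤ m) : 2 * m ≤ 2 ^ (m - 1) := by
  induction m, h using Nat.le_induction with
  | base => decide
  | succ n hn ih =>
    obtain ⟨e, rfl⟩ : ∃ e, n = e + 1 := ⟨n - 1, by omega⟩
    rw [Nat.add_sub_cancel] at ih ⊢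
    rw [pow_succ]
    omega

theorem two_le_of {s c : ℕ} (h : 2 * s ≤ c * (c - 1)) (h0 : s ≠ 0) : 2 ≤ c := by
  rcases c with _ | _ | c <;> omega

theorem ctg_arith {m s c a b X : ℕ} (h4 : 4 ≤ m) (s1 : 2 * s ≤ m * (m - 1)) (s2 : 2 * s ≤ (m - 1) * c)
    (s3 : 2 * s ≤ c * (c - 1)) (ha : 1 ≤ a) (h1 : a * (2 * c) + (b * 2 ^ (m - 1) + X) ≤ 4 * s + 4)
    (h2 : a * 2 + b * 2 ^ (m - 1) ≤ 4 * s + 4) (h3 : X + b ≤ b * 2 ^ (m - 1)) :
    (s ≠ 0 ∧ a * (2 * c) + 2 * X ≤ 4 * s) ∨ a * (2 * m) + b * (2 * 2 ^ (m - 1)) ≤ 2 * (m * (m - 1)) + b * 2 := by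
  by_contra h
  push Not at h
  obtain ⟨n1, n2⟩ := h
  have d1 := two_le_pow h4
  obtain ⟨n, rfl⟩ : ∃ n, m = n + 1 := ⟨m - 1, by omega⟩
  rcases Nat.eq_zero_or_pos b with rfl | hb
  · rw [Nat.add_sub_cancel] at *
    have e1 : n + 1 ≤ a := by
      by_contra e
      have := Nat.mul_le_mul_right (2 * (n + 1)) (show a ≤ n by omega)
      nlinarith
    have e2 : s ≠ 0 := by omega
    have e3 := two_le_of s3 e2
    have e4 := Nat.mul_le_mul_right (2 * c) e1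
    obtain rfl : c = 2 := by nlinarith
    omega
  have e0 := Nat.mul_le_mul_right (2 ^ (n + 1 - 1)) hb
  have e2 : s ≠ 0 := by omega
  have e3 := two_le_of s3 e2
  have e4 := n1 e2
  have e5 := Nat.mul_le_mul_right (2 * c) ha
  by_cases e6 : 6 ≤ n + 1
  · have := pow_lb e6
    omega
  have e7 : b = 1 := by
    by_contra e
    have := Nat.mul_le_mul_right (2 ^ (n + 1 - 1)) (show 2 ≤ b by omega)
    obtain rfl | rfl : n = 3 ∨ n = 4 := by omega
    all_goals omega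
  subst e7
  have e8 : 2 ≤ a := by
    by_contra e
    obtain rfl : a = 1 := by omega
    obtain rfl | rfl : n = 3 ∨ n = 4 := by omega
    all_goals omega
  have e9 := Nat.mul_le_mul_right (2 * c) e8
  obtain rfl | rfl : n = 3 ∨ n = 4 := by omega
  all_goals omega

theorem ctg_sum {J : Type} [Fintype J] {m s c : ℕ} (nt : J → Prop) (cost cS cM : J → ℕ) (h4 : 4 ≤ m)
    (s1 : 2 * s ≤ m * (m - 1)) (s2 : 2 * s ≤ (m - 1) * c) (s3 : 2 * s ≤ c * (c - 1))
    (hn : ∀ j, nt j → cS j = c ∧ cM j ≤ m ∧ 2 * c ≤ cost j ∧ 2 ≤ cost j)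
    (hs : ∀ j, ¬ nt j → cS j < 2 ^ (m - 1) ∧ cM j < 2 ^ (m - 1) ∧ 2 ^ (m - 1) + cS j ≤ cost j)
    (h0 : ∃ j, nt j) (h : ∑ j, cost j ≤ 4 * s + 4) :
    (s ≠ 0 ∧ ∑ j, 2 * cS j ≤ 4 * s) ∨ ∑ j, 2 * cM j ≤ 2 * (m * (m - 1)) := by
  classical
  obtain ⟨A, B, hA, hB, hA', sp⟩ : ∃ A B : Finset J, (∀ j ∈ A, nt j) ∧ (∀ j ∈ B, ¬ nt j) ∧ (∀ j, nt j → j ∈ A) ∧
      ∀ f : J → ℕ, ∑ j, f j = ∑ j ∈ A, f j + ∑ j ∈ B, f j :=
    ⟨univ.filter nt, univ.filter fun j => ¬ nt j, fun j hj => (mem_filter.1 hj).2, fun j hj => (mem_filter.1 hj).2,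
      fun j hj => mem_filter.2 ⟨mem_univ _, hj⟩, fun f => (sum_filter_add_sum_filter_not _ _ _).symm⟩
  have a1 : A.card * (2 * c) ≤ ∑ j ∈ A, cost j := card_nsmul_le_sum _ cost (2 * c) fun j hj => (hn j (hA j hj)).2.2.1
  have a2 : A.card * 2 ≤ ∑ j ∈ A, cost j := card_nsmul_le_sum _ cost 2 fun j hj => (hn j (hA j hj)).2.2.2
  have a3 : ∑ j ∈ A, 2 * cS j ≤ A.card * (2 * c) := sum_le_card_nsmul _ _ (2 * c) fun j hj => by rw [(hn j (hA j hj)).1]
  have a4 : ∑ j ∈ A, 2 * cM j ≤ A.card * (2 * m) :=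
    sum_le_card_nsmul _ _ (2 * m) fun j hj => Nat.mul_le_mul_left 2 (hn j (hA j hj)).2.1
  have b1 : B.card * 2 ^ (m - 1) + ∑ j ∈ B, cS j ≤ ∑ j ∈ B, cost j := by
    rw [← smul_eq_mul, ← sum_const, ← sum_add_distrib]
    exact sum_le_sum fun j hj => (hs j (hB j hj)).2.2
  have b2 : ∑ j ∈ B, cS j + B.card ≤ B.card * 2 ^ (m - 1) := by
    rw [card_eq_sum_ones, ← sum_add_distrib, ← card_eq_sum_ones]
    exact sum_le_card_nsmul _ _ _ fun j hj => (hs j (hB j hj)).1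
  have b3 : ∑ j ∈ B, 2 * cM j + B.card * 2 ≤ B.card * (2 * 2 ^ (m - 1)) := by
    rw [← smul_eq_mul B.card 2, ← sum_const, ← sum_add_distrib]
    refine sum_le_card_nsmul _ _ _ fun j hj => ?_
    have := (hs j (hB j hj)).2.1
    omega
  have b4 : ∑ j ∈ B, 2 * cS j = 2 * ∑ j ∈ B, cS j := (mul_sum _ _ _).symm
  rw [sp] at h
  rw [sp, sp fun j => 2 * cM j]
  obtain ⟨j, hj⟩ := h0
  rcases ctg_arith (a := A.card) (X := ∑ j ∈ B, cS j) h4 s1 s2 s3 (card_pos.2 ⟨j, hA' j hj⟩) (by omega) (by omega) b2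
    with e | e
  · exact Or.inl ⟨e.1, by omega⟩
  · exact Or.inr (by omega)

variable {m : ℕ} [hm : Fact (2 ≤ m)]

theorem mem_Me {b : PD m} : b ∈ Me (inl (lst m)) ↔ ps b.1.2 < m := by
  have := hm.out
  rw [Me, mem_filter, ps_eq, ps_inl, lst_val]
  simp only [mem_univ, true_and]
  omega

omit hm in
theorem xv_one (a : II m) : xv 1 a = if ps a < m then 1 else -1 := by
  rcases a with i | i <;> have := i.2 <;> simp only [xv, ps, Pi.one_apply] <;> split_ifs <;> omega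

omit hm in
theorem rd_one (b : PD m) : rd b ⬝ᵥ 1 = if ps b.1.2 < m then 2 else 0 := by
  have := b.lt
  rw [rd_dot, xv_one, xv_one]
  split_ifs <;> omega

theorem ab_Me {p : ℕ} (hp : p ≠ 1) : (eD m).rc.Ab p (Me (inl (lst m))) := (abD hp).2 fun b hb b' hb' x y _ _ e => by
  have h := congrArg (· ⬝ᵥ (1 : Fin m → ℤ)) e
  simp only [add_dotProduct, rd_one, mem_Me.1 hb, mem_Me.1 hb', if_true, wv_dot, xv_one] at h
  split_ifs at h <;> omega

theorem idl_Me (p : ℕ) : (eD m).rc.Idl p (Me (inl (lst m))) := fun b hb β a e _ => by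
  have h := congrArg (· ⬝ᵥ (1 : Fin m → ℤ)) (cfD_add.1 e)
  simp only [add_dotProduct, rd_one, mem_Me.1 hb, if_true] at h
  rw [mem_Me]
  split_ifs at h <;> omega

theorem ix_Me : (Ix (Me (inl (lst m)))).card ≤ m := by
  refine (card_le_card_of_injOn (t := range m) ps (fun a ha => ?_) fun a _ b _ => ps_inj).trans (card_range m).le
  obtain ⟨b, hb, h⟩ := mem_biUnion.1 ha
  have := mem_Me.1 hb
  have := b.lt
  rw [mem_insert, mem_singleton] at h
  rw [mem_coe, mem_range]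
  rcases h with rfl | rfl <;> omega

theorem nt_inv (h4 : 4 ≤ m) {l : Fin m → ℕ} (h : Nt l) : l ∘ (gN m).symm = l := funext fun i => by
  rw [h, gN_symm, Function.comp_apply, Pi.single_apply, Pi.single_apply]
  simp only [Fin.ext_iff, gN_val, fst]
  split_ifs <;> omega

theorem spn_not_inv {l : Fin m → ℕ} (h : Spn l) : l ∘ (gN m).symm ≠ l := fun e => by
  have h0 := hm.out
  have h1 := congrFun e (lst m)
  rw [gN_symm, Function.comp_apply, show gN m (lst m) = pen m from Equiv.swap_apply_right _ _] at h1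
  have h2 : pen m ≠ lst m := fun e => by have := congrArg Fin.val e; rw [pen_val, lst_val] at this; omega
  rcases h with rfl | rfl
  · rw [Pi.single_eq_same, Pi.single_eq_of_ne h2.symm] at h1; omega
  · rw [Pi.single_eq_same, Pi.single_eq_of_ne h2] at h1; omega

variable {p : ℕ} [Fact p.Prime] {k : Type} [Field k] [CharP k p]

section mod

variable (hB : BoxBig) (hM : BoxMin) (h4 : 4 ≤ m) {R : RC (Fin m) (PD m)} (hR : R = (eD m).rc)
include h4 hR

include hM in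
theorem ab_card {S : Finset (PD m)} (h : R.Ab p S) :
    2 * S.card ≤ m * (m - 1) ∧ 2 * S.card ≤ (m - 1) * (Ix S).card ∧ 2 * S.card ≤ (Ix S).card * ((Ix S).card - 1) := by
  obtain ⟨h1, h2, h3, -⟩ := (hM p m h4).2.1 S (hR ▸ h)
  exact ⟨h1, h2, h3⟩

variable {L : Type} [AddCommGroup L] [Module k L] (H : HW R p k L)

include hM in
theorem spn_d (h : Spn H.lam) : H.d = 2 ^ (m - 1) := by
  subst hR
  exact (((hM p m h4).2.2 k L H).2 h).2

include hB in
theorem big_d (hp : p = 2) (h1 : ¬ Nt H.lam) (h2 : ¬ Spn H.lam) : 2 * (m * (m - 1)) ≤ H.d := by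
  subst hR
  exact (hB p m h4 k L H h1 h2).2.1 hp

include hB in
theorem big_g (hp : p = 2) (h1 : ¬ Nt H.lam) (h2 : H.lam ∘ (gN m).symm = H.lam) (g : H.GOp (gN m) (gP m))
    {S : Finset (PD m)} (hA : R.Ab p S) (hI : R.Idl p S) :
    2 * S.card + 3 ≤ H.cL S ∨ 2 * S.card + 3 ≤ H.d - finrank k (LinearMap.ker (g.g.toLinearMap - 1)) := by
  subst hR
  exact (hB p m h4 k L H h1 fun e => spn_not_inv e h2).2.2 hp h2 g S hA hI

include hB hM in
theorem le_d (hp : p = 2) : 2 * m ≤ H.d := by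
  by_cases h1 : Nt H.lam
  · exact (natM_of hM h4 hR h1).1.d.ge
  by_cases h2 : Spn H.lam
  · rw [spn_d hM h4 hR H h2]; exact two_le_pow h4
  · exact le_trans (Nat.mul_le_mul_left 2 (Nat.le_mul_of_pos_right _ (by omega))) (big_d hB h4 hR H hp h1 h2)

omit h4 hR in
theorem one_le_cod {H : HW R p k L} (h : NatM H) (g : H.GOp (gN m) (gP m)) :
    1 ≤ H.d - finrank k (LinearMap.ker (g.g.toLinearMap - 1)) := by
  have h0 := hm.out
  refine (card_singleton _).ge.trans (TE.card_le_codim_fix H g (fun ν => 0 < e2 ν (lst m)) (fun ν h1 h2 => ?_)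
    {om (inl (lst m))} fun ν hν => ?_)
  · rw [e2_gN, gV, if_pos (by rw [lst_val]; omega)] at h2
    omega
  · rw [mem_singleton.1 hν, e2_om]
    exact ⟨h.isWt _, by simp [wv]⟩

include hB hM in
theorem bg_D (hp : p = 2) : BG R p k (gN m) := fun L _ _ H hH => by
  refine ⟨by have := le_d hB hM h4 hR H hp; omega, fun S hS hA _ => ?_⟩
  obtain ⟨s1, s2, s3⟩ := ab_card hM h4 hR hA
  have c1 := H.cL_lt_d S
  obtain ⟨e, he⟩ : ∃ e, 2 * H.d = H.cL S + e := ⟨2 * H.d - H.cL S, by omega⟩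
  rw [he, Nat.add_sub_cancel_left]
  obtain ⟨n, rfl⟩ : ∃ n, m = n + 1 := ⟨m - 1, by omega⟩
  rw [Nat.add_sub_cancel] at s1 s2
  by_cases h1 : Nt H.lam
  · obtain ⟨a1, a2⟩ := natM_of hM h4 hR h1
    have a3 := two_le_of s3 hS.card_pos.ne'
    rw [← a2] at s2 a3
    rw [a1.d] at c1 he
    obtain ⟨e', rfl⟩ : ∃ e', e = 2 * n + 3 + e' := ⟨e - (2 * n + 3), by omega⟩
    nlinarith
  · have a1 := big_d hB h4 hR H hp h1 fun e => spn_not_inv e hH
    have a2 := H.one_le_cL' hS fun b => E_ne h4 hR H _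
    rw [Nat.add_sub_cancel] at a1
    nlinarith

end mod

variable (hB : BoxBig) (hM : BoxMin) (h4 : 4 ≤ m) {G : Type} [Group G] {D : RDat p (Fin m) (PD m) k G}
  (hR : D.R = (eD m).rc) (hp : p = 2) {σ : Equiv.Perm (Fin m)}
include hB hM h4 hR hp

theorem ctf_D (Q : Fam D σ → Prop) : CTF D (fun _ => True) σ Q := by
  intro J _ _ L _ _ H rep _ S hA hI sl hsl _ h1
  exfalso
  obtain ⟨j⟩ := ‹Nonempty J›
  have h2 := le_trans (single_le_sum (f := fun j => (H j).d * ((H j).d - 1) + if S.Nonempty then 2 else 0)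
    (fun _ _ => Nat.zero_le _) (mem_univ j)) h1
  have h3 := le_d hB hM h4 hR (H j) hp
  have h5 := (ab_card hM h4 hR hA).1
  have h6 := Nat.mul_le_mul h3 (Nat.sub_le_sub_right h3 1)
  obtain ⟨n, rfl⟩ : ∃ n, m = n + 1 := ⟨m - 1, by omega⟩
  rw [Nat.add_sub_cancel] at h5
  rw [show 2 * (n + 1) - 1 = 2 * n + 1 by omega] at h6
  have h7 : 2 * (n + 1) * (2 * n + 1) ≤ 4 * S.card + 4 := by omega
  nlinarith

theorem ctg_D (Q : Fam D σ → Prop)
    (hQ : ∀ (F : Fam D σ) S, S.Nonempty → D.R.Ab p S → D.R.Idl p S → F.val S ≤ 4 * S.card → Q F) :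
    CTG D σ (gN m) (gP m) Q := by
  intro F hd g ⟨j₀, hj₀⟩ _ O u _ _ _ _ _ S h1 hA hI h2 h3
  rw [← h1] at h3
  obtain ⟨s1, s2, s3⟩ := ab_card hM h4 hR hA
  have hv : ∀ S, F.val S = ∑ j, 2 * (F.H j).cL S := fun S => sum_congr rfl fun j _ => by rw [hd j, if_neg (by simp)]
  generalize hc : (fun j => if hj : (F.H j).lam ∘ (gN m).symm = (F.H j).lam then
    2 * ((F.H j).d - finrank k ↥(LinearMap.ker ((g j hj).g.toLinearMap - 1) ⊓ ⨅ o ∈ O, LinearMap.ker ((F.H j).op (u o))))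
    else 2 * (F.H j).d - finrank k ↥(⨅ o ∈ O, LinearMap.ker ((F.H j).op (u o)))) = cost at h3
  have c1 : ∀ j hj, 2 * (F.H j).cL S ≤ cost j ∧
      2 * ((F.H j).d - finrank k (LinearMap.ker ((g j hj).g.toLinearMap - 1))) ≤ cost j := fun j hj => by
    have := (F.H j).fd
    have a1 := (Submodule.finrank_mono (inf_le_right (a := LinearMap.ker ((g j hj).g.toLinearMap - 1)))).trans (h2 j)
    have a2 := Submodule.finrank_mono (inf_le_left (a := LinearMap.ker ((g j hj).g.toLinearMap - 1))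
      (b := ⨅ o ∈ O, LinearMap.ker ((F.H j).op (u o))))
    have a3 := (F.H j).cL_add S
    rw [← hc]
    simp only [dif_pos hj]
    omega
  have c2 : ∀ j, (F.H j).lam ∘ (gN m).symm ≠ (F.H j).lam → (F.H j).d + (F.H j).cL S ≤ cost j := fun j hj => by
    have a1 := h2 j
    have a3 := (F.H j).cL_add S
    rw [← hc]
    simp only [dif_neg hj]
    omega
  have c3 : ∀ j, (F.H j).lam ∘ (gN m).symm = (F.H j).lam → Nt (F.H j).lam := fun j hj => by
    by_contra e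
    have a1 := big_g hB h4 hR (F.H j) hp e hj (g j hj) hA hI
    have a2 := c1 j hj
    have a3 := (single_le_sum (f := cost) (fun _ _ => Nat.zero_le _) (mem_univ j)).trans h3
    omega
  have c4 : ∀ j, Nt (F.H j).lam → (F.H j).cL S = (Ix S).card ∧ (F.H j).cL (Me (inl (lst m))) ≤ m ∧
      2 * (Ix S).card ≤ cost j ∧ 2 ≤ cost j := fun j hj => by
    obtain ⟨a1, a2⟩ := natM_of hM h4 hR hj
    have a3 := c1 j (nt_inv h4 hj)
    have a4 := one_le_cod a1 (g j (nt_inv h4 hj))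
    exact ⟨a2 S, a2 _ ▸ ix_Me, a2 S ▸ a3.1, by omega⟩
  have c5 : ∀ j, ¬ Nt (F.H j).lam → (F.H j).d = 2 ^ (m - 1) := fun j hj => spn_d hM h4 hR _ (by
    by_contra e
    have a1 := big_d hB h4 hR (F.H j) hp hj e
    have a2 := c2 j fun e' => hj (c3 j e')
    have a3 := (c4 j₀ (c3 j₀ hj₀)).2.2
    have a4 := (add_le_sum (f := cost) (fun _ _ => Nat.zero_le _) (mem_univ j) (mem_univ j₀)
      fun e' => hj (e' ▸ c3 j₀ hj₀)).trans h3
    rcases S.eq_empty_or_nonempty with rfl | hS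
    · have := Nat.mul_le_mul h4 (show 1 ≤ m - 1 by omega)
      rw [card_empty] at a4
      omega
    · have a5 := (F.H j).one_le_cL' hS fun b => E_ne h4 hR _ _
      have a6 := two_le_of s3 hS.card_pos.ne'
      omega)
  rcases ctg_sum (fun j => Nt (F.H j).lam) cost (fun j => (F.H j).cL S) (fun j => (F.H j).cL (Me (inl (lst m)))) h4
    s1 s2 s3 c4 (fun j hj => ⟨c5 j hj ▸ (F.H j).cL_lt_d _, c5 j hj ▸ (F.H j).cL_lt_d _,
      c5 j hj ▸ c2 j fun e' => hj (c3 j e')⟩) ⟨j₀, c3 j₀ hj₀⟩ h3 with e | e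
  · exact hQ F S (card_pos.1 (Nat.pos_of_ne_zero e.1)) hA hI (hv S ▸ e.2)
  · have a1 := (hM p m h4).1.1
    have a2 := Nat.mul_le_mul h4 (show 1 ≤ m - 1 by omega)
    exact hQ F (Me (inl (lst m))) (card_pos.1 (by omega)) (hR ▸ ab_Me (Fact.out : p.Prime).ne_one) (hR ▸ idl_Me p)
      (by rw [hv]; omega)

end DD

open DD in
/-- **type `D`: the combinatorial statements** -/
theorem boxD (h1 : BoxBig) (h2 : BoxMin) (h3 : BoxCT) : BoxD := by
  intro p _ m _ h4 k G _ _ _ _ D hR P hG hS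
  have hF : Faith D.R p k fun _ => True := hR ▸ faithD (by omega) p k
  have sq : ∀ γ : P.Gr, γ * γ = 1 := fun γ => P.gι_inj (by
    rcases hG γ with rfl | e
    · rw [mul_one]
    · rw [map_mul, map_one, e.1]; exact Equiv.ext gN_gN)
  have two : ∀ γ : P.Gr, γ ≠ 1 → γ ^ p = 1 → p = 2 := fun γ e1 e2 =>
    (Nat.prime_dvd_prime_iff_eq Fact.out Nat.prime_two).1
      (orderOf_eq_prime e2 e1 ▸ orderOf_dvd_of_pow_eq_one (by rw [pow_two, sq]))
  have ct : ∀ F : Fam D (P.gι P.σ), (p ≠ 2 → P.gΦ P.σ * P.gΦ P.σ = 1 → (∀ j, F.dbl j = false) → F.Flex (P.gΦ P.σ)) →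
      ∀ S : Finset (PD m), S.Nonempty → D.R.Ab p S → D.R.Idl p S → F.val S ≤ 4 * S.card → P.Q F := by
    intro F hX S a1 a2 a3 a4
    rcases h3 p m h4 k G D hR (P.gι P.σ) (P.gΦ P.σ) ((hG P.σ).imp_left fun e => by rw [e]; exact ⟨map_one _, map_one _⟩) F
      ((boxDeg2 p _ _ k G D (TE.fa_of_faith hF (fst m))).top _ F) S a1 a2 a3 a4 with e | ⟨e1, e2, e3⟩
    · exact Or.inl e
    have e4 : P.σ ≠ 1 := fun e => gN_ne_one (by rw [← e1, e, map_one])
    by_cases hp : p = 2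
    · exact Or.inr (goodT hp P (hS hp e4) F (fun j => (natM_of h2 h4 hR (e2 j).1).1) (fun j => (e2 j).2) e3)
    · exact (no_flex h2 h4 hR hp F (fun j => (e2 j).1) e3
        (((hG _).resolve_left e4).2 ▸ hX hp (by rw [← map_mul, sq, map_one]) fun j => (e2 j).2)).elim
  refine ⟨TE.ex_true (fst m), fun _ _ _ => trivial, hF, fun F _ _ hX => ct F fun _ => hX, fun γ e1 e2 _ => ?_,
    fun γ e1 e2 _ => ?_, fun hp => ctf_D h1 h2 h4 hR hp _, fun ⟨γ, γ', h⟩ => ?_⟩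
  · rw [((hG γ).resolve_left e1).1]
    exact bg_D h1 h2 h4 hR (two γ e1 e2)
  · rw [((hG γ).resolve_left e1).1, ((hG γ).resolve_left e1).2]
    exact ctg_D h1 h2 h4 hR (two γ e1 e2) _ fun F => ct F fun e => (e (two γ e1 e2)).elim
  · exfalso
    rcases hG γ with rfl | e1
    · exact h (Commute.one_left _)
    rcases hG γ' with rfl | e2
    · exact h (Commute.one_right _)
    exact h (P.gι_inj (e1.1.trans e2.1.symm) ▸ Commute.refl _)

end Cfsg.Agent.TwoF.DC.TBD
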