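import Cfsg.Agent.TwoF.DC.TBD.MinW

/-!
# TwoF, defining characteristic, type D: abelian sets of roots, `boxMin` (helper57)

* `AbG S` : an abelian set of roots as a graph on signed indices; `AbG.le₁`, `le₂`, `eq_case`, `extra`;
* `spn_two`, `spn_Me`, `spn_Me'`, `spn_nine`, `spn_cG_M1` : bounds for the half spin modules;
* `boxMin`.
-/

set_option autoImplicit false
set_option linter.unusedSectionVars false

namespace Cfsg.Agent.TwoF.DC.TBD

open Finset Matrix Sum Cfsg.Agent.TwoF.DC.TC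

variable {m : ℕ}

/-! ### counting roots -/

theorem card_pairs (S : Finset (PD m)) :
    (S.image (fun b => b.1) ∪ S.image fun b => b.1.swap).card = 2 * S.card := by
  rw [card_union_of_disjoint, card_image_of_injective _ Subtype.val_injective,
    card_image_of_injective _ fun a b e => Subtype.ext (Prod.swap_injective e), two_mul S.card]
  refine disjoint_left.2 fun x h1 h2 => ?_
  obtain ⟨a, -, rfl⟩ := mem_image.1 h1
  obtain ⟨b, -, e⟩ := mem_image.1 h2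
  have h3 := a.2
  have h4 := b.2
  rw [← e] at h3
  simp only [Prod.fst_swap, Prod.snd_swap] at h3
  omega

theorem mem_pairs {S : Finset (PD m)} {x : II m × II m} :
    x ∈ S.image (fun b => b.1) ∪ S.image (fun b => b.1.swap) ↔ ∃ b ∈ S, IsD b x.1 x.2 := by
  simp only [mem_union, mem_image, IsD, and_or_left, exists_or, Prod.swap_eq_iff_eq_swap]
  rfl

theorem card_offDiag' (X : Finset (II m)) : X.offDiag.card = X.card * (X.card - 1) := by
  rw [offDiag_card, Nat.mul_sub_one]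

/-- roots with both indices in `X` -/
theorem card_inside {S : Finset (PD m)} {X : Finset (II m)} (h : ∀ b ∈ S, b.1.1 ∈ X ∧ b.1.2 ∈ X) :
    2 * S.card ≤ X.card * (X.card - 1) := by
  rw [← card_pairs, ← card_offDiag']
  refine card_le_card fun x hx => ?_
  obtain ⟨b, hb, e⟩ := mem_pairs.1 hx
  have h1 := h b hb
  rw [mem_offDiag]
  refine ⟨?_, ?_, e.ne'⟩ <;> rcases e with e | e <;> rw [e] at h1
  exacts [h1.1, h1.2, h1.2, h1.1]

theorem card_full {S : Finset (PD m)} {X : Finset (II m)} (h : ∀ x ∈ X, ∀ y ∈ X, x ≠ y → ∃ b ∈ S, IsD b x y) :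
    X.card * (X.card - 1) ≤ 2 * S.card := by
  rw [← card_pairs, ← card_offDiag']
  refine card_le_card fun x hx => ?_
  rw [mem_offDiag] at hx
  exact mem_pairs.2 (h _ hx.1 _ hx.2.1 hx.2.2)

theorem card_ps_lt {t : ℕ} (ht : t ≤ m) : (univ.filter fun a : II m => ps a < t).card = t := by
  refine (card_bij (fun a _ => ps a) (fun a ha => mem_range.2 (mem_filter.1 ha).2) (fun a _ b _ => ps_inj)
    fun n hn => ?_).trans (card_range t)
  rw [mem_range] at hn
  exact ⟨inl ⟨n, hn.trans_le ht⟩, mem_filter.2 ⟨mem_univ _, hn⟩, rfl⟩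

/-- the roots `ε_i + ε_j`, `i < j ≤ t` -/
theorem card_lt {t : ℕ} (ht : t ≤ m) : 2 * (univ.filter fun b : PD m => ps b.1.2 < t).card = t * (t - 1) := by
  have h1 := card_ps_lt ht
  rw [← h1]
  conv_lhs => rw [h1]
  refine le_antisymm (card_inside fun b hb => ?_) (card_full fun x hx y hy e => ?_)
  · have := b.2
    simp only [mem_filter, mem_univ, true_and] at hb ⊢
    omega
  · simp only [mem_filter, mem_univ, true_and] at hx hy ⊢
    obtain ⟨b, hb⟩ := exists_isD e (by omega)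
    refine ⟨b, ?_, hb⟩
    rcases hb with hb | hb <;> rw [hb] <;> assumption

theorem card_On : 2 * (On m).card = (m - 1) * (m - 2) := by
  rw [show m - 2 = m - 1 - 1 from rfl, ← card_lt (Nat.sub_le m 1), On]
  congr 2
  exact filter_congr fun b _ => by omega

theorem mem_On {b : PD m} : b ∈ On m ↔ ps b.1.2 + 1 < m := by simp [On]
theorem mem_Me {a : II m} {b : PD m} : b ∈ Me a ↔ ps b.1.2 + 1 < m ∨ b.1.2 = a := by simp [Me]
theorem mem_M1 {b : PD m} : b ∈ M1 m ↔ ps b.1.1 = 0 := by simp [M1]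

theorem fst_mem_Ix {S : Finset (PD m)} {b : PD m} (h : b ∈ S) : b.1.1 ∈ Ix S := mem_Ix.2 ⟨b, h, Or.inl rfl⟩
theorem snd_mem_Ix {S : Finset (PD m)} {b : PD m} (h : b ∈ S) : b.1.2 ∈ Ix S := mem_Ix.2 ⟨b, h, Or.inr rfl⟩
theorem IsD.mem_Ix {S : Finset (PD m)} {b : PD m} {x y : II m} (e : IsD b x y) (h : b ∈ S) : x ∈ Ix S :=
  mem_Ix'.2 ⟨b, h, y, e⟩

theorem IsD.iff {b : PD m} {x : II m} : (∃ y, IsD b x y) ↔ x = b.1.1 ∨ x = b.1.2 := by
  refine ⟨?_, ?_⟩
  · rintro ⟨y, h | h⟩ <;> rw [h] <;> simp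
  · rintro (rfl | rfl)
    exacts [⟨_, IsD.self b⟩, ⟨_, (IsD.self b).symm⟩]

/-! ### abelian sets of roots -/

/-- an abelian set of roots: the roots through `x` and through `-x` are `u + x`, `u - x` -/
def AbG (S : Finset (PD m)) : Prop := ∀ b ∈ S, ∀ b' ∈ S, ∀ x u v : II m, IsD b u x → IsD b' v x.swap → u = v

theorem abG [Fact (2 ≤ m)] {p : ℕ} (hp : p ≠ 1) {S : Finset (PD m)} (h : (eD m).rc.Ab p S) : AbG S :=
  fun b hb b' hb' x u v h1 h2 => by
  by_contra e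
  refine (abD hp).1 h b hb b' hb' u v e ?_ ?_
  · have := h1.lt
    have := h2.lt
    have := ps_swap x
    rw [Ne, eq_swap_iff]
    omega
  · rw [h1.rd, h2.rd, wv_swap]; abel

/-- the indices `x` with `-x` not an index -/
def I1 (S : Finset (PD m)) : Finset (II m) := (Ix S).filter fun x => x.swap ∉ Ix S
/-- the indices `x` with `-x` an index -/
def I2 (S : Finset (PD m)) : Finset (II m) := (Ix S).filter fun x => x.swap ∈ Ix S

theorem card_I (S : Finset (PD m)) : (I2 S).card + (I1 S).card = (Ix S).card := card_filter_add_card_filter_not _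

theorem card_I_le (S : Finset (PD m)) : (Ix S).card + (I1 S).card ≤ 2 * m := by
  rw [← card_image_of_injective (I1 S) fun a b (e : a.swap = b.swap) => swap_inj.1 e, ← card_union_of_disjoint]
  · exact (card_le_univ _).trans (by rw [Fintype.card_sum, Fintype.card_fin, two_mul])
  refine disjoint_right.2 fun x hx => ?_
  obtain ⟨y, hy, rfl⟩ := mem_image.1 hx
  exact (mem_filter.1 hy).2

namespace AbG

variable {S : Finset (PD m)} (h : AbG S)
include h

/-- there is one root through `x` -/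
theorem uniq {x : II m} (hx : x.swap ∈ Ix S) {b b' : PD m} (hb : b ∈ S) (hb' : b' ∈ S) {y y' : II m}
    (e : IsD b x y) (e' : IsD b' x y') : b = b' := by
  obtain ⟨c, hc, z, e''⟩ := mem_Ix'.1 hx
  rw [h b hb c hc x y z e.symm e''.symm] at e
  rw [h b' hb' c hc x y' z e'.symm e''.symm] at e'
  exact e.uniq e'

theorem I1_pos (h2 : 0 < (I2 S).card) : 0 < (I1 S).card := by
  obtain ⟨x, hx⟩ := card_pos.1 h2
  obtain ⟨b, hb, y, e⟩ := mem_Ix'.1 (mem_filter.1 hx).1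
  obtain ⟨b', hb', y', e'⟩ := mem_Ix'.1 (mem_filter.1 hx).2
  obtain rfl := h b hb b' hb' x y y' e.symm e'.symm
  refine card_pos.2 ⟨y, mem_filter.2 ⟨e.symm.mem_Ix hb, fun hy => ?_⟩⟩
  obtain ⟨c, hc, z, e''⟩ := mem_Ix'.1 hy
  exact swap_ne x ((h b' hb' c hc y _ z e' e''.symm).trans (h b hb c hc y _ z e e''.symm).symm)

/-- the basic bound -/
theorem le₀ : 2 * S.card ≤ (I1 S).card * ((I1 S).card - 1) + 2 * (I2 S).card := by
  rw [← card_filter_add_card_filter_not (s := S) fun b => b.1.1 ∈ I1 S ∧ b.1.2 ∈ I1 S, mul_add]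
  refine add_le_add (card_inside fun b hb => (mem_filter.1 hb).2) (Nat.mul_le_mul_left 2 ?_)
  refine (card_le_card (t := (I2 S).biUnion fun x => S.filter fun b => x = b.1.1 ∨ x = b.1.2) fun b hb => ?_).trans
    ((card_biUnion_le_card_mul _ _ 1 fun x hx => card_le_one.2 fun b hb b' hb' => ?_).trans (mul_one _).le)
  · obtain ⟨h1, h2⟩ := mem_filter.1 hb
    have h3 := fst_mem_Ix h1
    have h4 := snd_mem_Ix h1
    simp only [I1, mem_filter, h3, h4, true_and, not_and_or, not_not] at h2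
    rcases h2 with h2 | h2
    · exact mem_biUnion.2 ⟨_, mem_filter.2 ⟨h3, h2⟩, mem_filter.2 ⟨h1, Or.inl rfl⟩⟩
    · exact mem_biUnion.2 ⟨_, mem_filter.2 ⟨h4, h2⟩, mem_filter.2 ⟨h1, Or.inr rfl⟩⟩
  · rw [mem_filter, ← IsD.iff] at hb hb'
    obtain ⟨h1, y, e⟩ := hb
    obtain ⟨h2, y', e'⟩ := hb'
    exact h.uniq (mem_filter.1 hx).2 h1 h2 e e'

theorem num : ∃ u r : ℕ, u = (I1 S).card ∧ r = (I2 S).card ∧ (Ix S).card = r + u ∧ r + 2 * u ≤ 2 * m ∧ (0 < r → 0 < u) ∧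
    2 * S.card + u ≤ u * u + 2 * r := by
  have h1 := card_I S
  have h2 := card_I_le S
  have h3 := h.le₀
  rw [Nat.mul_sub_one] at h3
  have h4 := Nat.le_mul_self (I1 S).card
  exact ⟨_, _, rfl, rfl, h1.symm, by omega, h.I1_pos, by omega⟩

theorem le₁ (h4 : 4 ≤ m) : 2 * S.card ≤ m * (m - 1) := by
  obtain ⟨u, r, -, -, -, h1, h2, h3⟩ := h.num
  obtain ⟨n, rfl⟩ := Nat.exists_eq_add_of_le' (show 1 ≤ m by omega)
  rw [Nat.add_sub_cancel]
  rcases r.eq_zero_or_pos with rfl | h0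
  · nlinarith
  · have := h2 h0
    nlinarith [Nat.zero_le ((u - 1) * (n - u)), mul_nonneg (show (0 : ℤ) ≤ u - 1 by omega) (show (0 : ℤ) ≤ n - u by omega)]

theorem le₂ (h4 : 3 ≤ m) : 2 * S.card ≤ (m - 1) * (Ix S).card := by
  obtain ⟨u, r, -, -, h0, h1, -, h3⟩ := h.num
  obtain ⟨n, rfl⟩ := Nat.exists_eq_add_of_le' (show 1 ≤ m by omega)
  rw [Nat.add_sub_cancel, h0]
  nlinarith

/-- the extra bound -/
theorem extra (h5 : 5 ≤ m) {x : II m} (hx : x ∈ Ix S) (hx' : x.swap ∈ Ix S) : 2 * S.card ≤ (m - 1) * (m - 2) + 4 := by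
  obtain ⟨u, r, -, hr, -, h1, h2, h3⟩ := h.num
  have h0 : 0 < r := hr ▸ card_pos.2 ⟨x, mem_filter.2 ⟨hx, hx'⟩⟩
  have := h2 h0
  obtain ⟨n, rfl⟩ := Nat.exists_eq_add_of_le' (show 2 ≤ m by omega)
  rw [Nat.add_sub_cancel, show n + 2 - 1 = n + 1 from rfl]
  nlinarith [mul_nonneg (show (0 : ℤ) ≤ u - 1 by omega) (show (0 : ℤ) ≤ n + 1 - u by omega)]

theorem eq_case [Fact (2 ≤ m)] (h4 : 4 ≤ m) (h0 : S.Nonempty) (he : (m - 1) * (Ix S).card ≤ 2 * S.card) :
    ∃ a : II m, (a = inl (lst m) ∨ a = inr (lst m)) ∧ a.swap ∉ Ix S ∧ m - 1 ≤ (S.filter fun b => b.1.2 = a).card := by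
  obtain ⟨u, r, hu, hr, h1, h2, -, h3⟩ := h.num
  have h5 : 0 < (Ix S).card := card_pos.2 ⟨_, fst_mem_Ix h0.choose_spec⟩
  obtain ⟨n, hn⟩ := Nat.exists_eq_add_of_le' (show 1 ≤ m by omega)
  have hn' : m - 1 = n := by omega
  rw [hn', h1] at he
  have h6 : r = 0 := by
    by_contra e
    nlinarith [Nat.pos_of_ne_zero e]
  have h7 : u = m := by
    by_contra e
    nlinarith [show u ≤ n by omega]
  have h8 : ∀ x ∈ Ix S, x.swap ∉ Ix S := fun x hx hx' => by
    have : 0 < (I2 S).card := card_pos.2 ⟨x, mem_filter.2 ⟨hx, hx'⟩⟩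
    omega
  have h9 : ∃ a : II m, (a = inl (lst m) ∨ a = inr (lst m)) ∧ a ∈ Ix S := by
    by_contra e
    have e1 : inl (lst m) ∉ Ix S := fun e' => e ⟨_, Or.inl rfl, e'⟩
    have e2 : inr (lst m) ∉ Ix S := fun e' => e ⟨_, Or.inr rfl, e'⟩
    have e3 : (Ix S ∪ (Ix S).image Sum.swap).card = 2 * m := by
      rw [card_union_of_disjoint, card_image_of_injective _ fun a b e => swap_inj.1 e]
      · omega
      refine disjoint_right.2 fun x hx => ?_
      obtain ⟨y, hy, rfl⟩ := mem_image.1 hx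
      exact h8 y hy
    have e4 := eq_univ_of_card _ (e3.trans (by rw [Fintype.card_sum, Fintype.card_fin, two_mul]))
    rcases mem_union.1 (e4 ▸ mem_univ (inl (lst m))) with e5 | e5
    · exact e1 e5
    · obtain ⟨y, hy, e6⟩ := mem_image.1 e5
      rw [eq_swap_comm.1 e6.symm] at hy
      exact e2 hy
  obtain ⟨a, ha, ha'⟩ := h9
  refine ⟨a, ha, h8 a ha', ?_⟩
  have h10 := card_filter_add_card_filter_not (s := S) fun b => b.1.2 = a
  have h11 := card_inside (S := S.filter fun b => ¬ b.1.2 = a) (X := (Ix S).erase a) fun b hb => by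
    obtain ⟨e1, e2⟩ := mem_filter.1 hb
    refine ⟨mem_erase.2 ⟨fun e => ?_, fst_mem_Ix e1⟩, mem_erase.2 ⟨e2, snd_mem_Ix e1⟩⟩
    have := b.lt
    rw [e] at this
    rcases ha with rfl | rfl <;> simp only [ps, lst_val] at this <;> omega
  rw [card_erase_of_mem ha', h1, h6, h7, zero_add, hn', Nat.mul_sub_one] at h11
  have h12 := Nat.le_mul_self n
  rw [h6, h7.trans hn, zero_add, Nat.mul_succ] at he
  omega

end AbG

variable [hm : Fact (2 ≤ m)]

theorem card_Me : 2 * (Me (inl (lst m))).card = m * (m - 1) := by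
  rw [← card_lt (le_refl m), Me]
  congr 2
  refine filter_congr fun b _ => ?_
  have := hm.out
  rw [ps_eq, ps_inl, lst_val]
  omega

theorem ab_extra {p : ℕ} (hp : p ≠ 1) (h5 : 5 ≤ m) {S : Finset (PD m)} (h : (eD m).rc.Ab p S) {x : II m} (hx : x ∈ Ix S)
    (hx' : x.swap ∈ Ix S) : 2 * S.card ≤ (m - 1) * (m - 2) + 4 := (abG hp h).extra h5 hx hx'

/-! ### bounds for the half spin modules -/

theorem lt_lst {i : Fin m} (h : i ≠ lst m) : i < lst m := by
  have := i.2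
  rw [Ne, Fin.ext_iff, lst_val] at h
  rw [Fin.lt_def, lst_val]
  omega

/-- the sets which contain `i` -/
def Thr (i : Fin m) : Finset (Finset (Fin m)) := (univ.erase (lst m)).powerset.filter (i ∈ ·)

theorem mem_Thr {i : Fin m} {T : Finset (Fin m)} : T ∈ Thr i ↔ lst m ∉ T ∧ i ∈ T := by rw [Thr, mem_filter, mem_pow]

theorem card_Thr {i : Fin m} (h : i ≠ lst m) : (Thr i).card = 2 ^ (m - 2) := by
  have h1 : ((univ.erase (lst m)).erase i).powerset.card = 2 ^ (m - 2) := by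
    rw [card_powerset, card_erase_of_mem (mem_erase.2 ⟨h, mem_univ _⟩), card_erase_of_mem (mem_univ _), card_univ,
      Fintype.card_fin]
    rfl
  rw [← h1]
  refine card_nbij' (·.erase i) (insert i) (fun T hT => ?_) (fun T hT => ?_) (fun T hT => ?_) fun T hT => ?_
  · exact mem_powerset.2 (erase_subset_erase _ (mem_powerset.1 (mem_filter.1 hT).1))
  · have h2 := mem_powerset.1 hT
    exact mem_Thr.2 ⟨fun e => (mem_insert.1 e).elim h.symm fun e => by simpa using h2 e, mem_insert_self _ _⟩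
  · exact insert_erase (mem_Thr.1 hT).2
  · exact erase_insert fun e => by simpa using mem_powerset.1 hT e

theorem exists_dp {T : Finset (Fin m)} (h0 : lst m ∉ T) (h : 1 < T.card) : ∃ i ∈ T, ∃ j ∈ T, ∃ hij, dp i j hij ∈ On m := by
  have h1 : ∀ j ∈ T, ∀ i hij, dp i j hij ∈ On m := fun j hj i hij => mem_On.2 (by
    have := Fin.lt_def.1 (lt_lst (ne_of_mem_of_not_mem hj h0))
    rw [lst_val] at this
    show j.1 + 1 < m
    omega)
  obtain ⟨i, hi, j, hj, e⟩ := one_lt_card.1 h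
  rcases lt_or_gt_of_ne e with e | e
  exacts [⟨i, hi, j, hj, e, h1 j hj i e⟩, ⟨j, hj, i, hi, e, h1 i hi j e⟩]

theorem On_subset (a : II m) : On m ⊆ Me a := fun _ hb => mem_Me.2 (Or.inl (mem_On.1 hb))

section HW

variable {p : ℕ} {k L : Type} [Field k] [AddCommGroup L] [Module k L] {H : HW (eD m).rc p k L}

/-- all roots of `S` have the first index `ε_i` -/
theorem spn_cG_fst (h : Spn H.lam) {S : Finset (PD m)} {i : Fin m} (hi : i ≠ lst m) (hS : ∀ b ∈ S, b.1.1 = inl i) :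
    H.cG S ≤ 2 ^ (m - 2) := by
  obtain ⟨η, h⟩ := h.exists
  rw [← card_Thr hi]
  refine h.cG_le S _ fun T hT ⟨b, hb, e⟩ => mem_Thr.2 ⟨hT, ?_⟩
  have h1 := (((sgn_sv h.sign T).neg_iff b).1 e).1
  rw [hS b hb] at h1
  have h2 := (sv_ne η T hi).symm.trans h1
  by_contra e'
  rw [if_neg e'] at h2
  omega

theorem fst_ne_lst : fst m ≠ lst m := fun e => by
  have h1 : 0 = m - 1 := congrArg Fin.val e
  have := hm.out
  omega

theorem spn_cG_M1 (h : Spn H.lam) : H.cG (M1 m) ≤ 2 ^ (m - 2) :=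
  spn_cG_fst h fst_ne_lst fun _ hb => ps_inj (mem_M1.1 hb)

variable [Fact p.Prime] [CharP k p]

/-- `S` contains `ε_i ± ε_m` -/
theorem spn_two (h : Spn H.lam) {S : Finset (PD m)} {i : Fin m} {hi : i < lst m} (h1 : dp i (lst m) hi ∈ S)
    (h2 : dm i (lst m) hi ∈ S) : 2 ^ (m - 2) ≤ H.cL S := by
  rw [← card_Thr hi.ne]
  exact h.le_cL S _ fun T hT => ⟨(mem_Thr.1 hT).1, Or.inr ⟨i, (mem_Thr.1 hT).2, hi, h1, h2⟩⟩

/-- `S` contains `On m` -/
theorem spn_On (h : Spn H.lam) {S : Finset (PD m)} (hS : On m ⊆ S) : 2 ^ (m - 1) ≤ H.cL S + m := by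
  obtain ⟨η, h⟩ := h.exists
  refine (h.le_cL_add S (insert ∅ ((univ.erase (lst m)).image singleton)) fun T hT h1 => ?_).trans
    (Nat.add_le_add_left ((card_insert_le _ _).trans ?_) _)
  · obtain ⟨i, hi, j, hj, hij, e⟩ := exists_dp hT (not_le.1 fun e => h1 (by
      rcases (Nat.le_one_iff_eq_zero_or_eq_one.1 e).imp card_eq_zero.1 card_eq_one.1 with rfl | ⟨i, rfl⟩
      · exact mem_insert_self _ _
      · exact mem_insert_of_mem (mem_image_of_mem _ (mem_erase.2 ⟨fun e => hT (by simp [e]), mem_univ _⟩))))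
    exact ⟨_, hS e, by rw [dp_dot, sv_mem η hT hi, sv_mem η hT hj]; norm_num⟩
  · have := hm.out
    have h1 := card_image_le (s := univ.erase (lst m)) (f := (singleton : Fin m → Finset (Fin m)))
    rw [card_erase_of_mem (mem_univ _), card_univ, Fintype.card_fin] at h1
    omega

theorem spn_Me (h : Spn H.lam) (a : II m) : 2 ^ (m - 1) ≤ H.cL (Me a) + m := spn_On h (On_subset a)

/-- the half spin module of the node of `a` -/
theorem spn_Me' {a : II m} (h : (a = inl (lst m) ∧ H.lam = Pi.single (lst m) 1) ∨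
    (a = inr (lst m) ∧ H.lam = Pi.single (pen m) 1)) : 2 ^ (m - 1) ≤ H.cL (Me a) + 1 := by
  obtain ⟨η, h1, h2⟩ : ∃ η, SpnE H η ∧ ((a = inl (lst m) ∧ η = 1) ∨ (a = inr (lst m) ∧ η = -1)) :=
    h.elim (fun h => ⟨1, Or.inl ⟨rfl, h.2⟩, Or.inl ⟨h.1, rfl⟩⟩) fun h => ⟨-1, Or.inr ⟨rfl, h.2⟩, Or.inr ⟨h.1, rfl⟩⟩
  refine h1.le_cL_add (Me a) {∅} fun T hT h3 => ?_
  by_cases e : 1 < T.card
  · obtain ⟨i, hi, j, hj, hij, e⟩ := exists_dp hT e
    exact ⟨_, On_subset a e, by rw [dp_dot, sv_mem η hT hi, sv_mem η hT hj]; norm_num⟩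
  have h4 : T.card = 1 := by
    have := card_pos.2 (nonempty_iff_ne_empty.2 fun e => h3 (mem_singleton.2 e))
    omega
  obtain ⟨i, hi⟩ := card_pos.1 (h4 ▸ Nat.one_pos)
  have h5 := lt_lst (ne_of_mem_of_not_mem hi hT)
  rcases h2 with ⟨rfl, rfl⟩ | ⟨rfl, rfl⟩
  · exact ⟨dp i _ h5, mem_Me.2 (Or.inr rfl), by rw [dp_dot, sv_mem _ hT hi, sv_lst, h4]; norm_num⟩
  · exact ⟨dm i _ h5, mem_Me.2 (Or.inr rfl), by rw [dm_dot, sv_mem _ hT hi, sv_lst, h4]; norm_num⟩

/-- `S` contains `ε_i ± ε_m`, `ε_a + ε_b`, `ε_a + ε_c`, `ε_a + ε_d`, `ε_b + ε_c` -/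
theorem spn_nine (h : Spn H.lam) {S : Finset (PD m)} {i a b c d : Fin m} (h0 : i < a) {h1 : a < b} {h2 : b < c}
    (h3 : c < d) (h4 : d < lst m) {hi : i < lst m} {hac : a < c} {had : a < d} (e1 : dp i (lst m) hi ∈ S)
    (e2 : dm i (lst m) hi ∈ S) (e3 : dp a b h1 ∈ S) (e4 : dp a c hac ∈ S) (e5 : dp a d had ∈ S) (e6 : dp b c h2 ∈ S) :
    2 ^ (m - 2) + 9 ≤ H.cL S := by
  have h5 : ∀ x : Fin 4, i < ![a, b, c, d] x ∧ ![a, b, c, d] x < lst m := fun x => by
    fin_cases x <;> simp <;> omega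
  have h6 : Function.Injective ![a, b, c, d] := fun x y => by
    fin_cases x <;> fin_cases y <;> simp <;> omega
  have h7 : ((univ.filter fun T : Finset (Fin 4) => (0 ∈ T ∧ (1 ∈ T ∨ 2 ∈ T ∨ 3 ∈ T)) ∨ (1 ∈ T ∧ 2 ∈ T)).image
      (image ![a, b, c, d])).card = 9 := (card_image_of_injective _ (image_injective h6)).trans (by decide)
  rw [← card_Thr hi.ne, ← h7, ← card_union_of_disjoint]
  · refine h.le_cL S _ fun T hT => ?_
    rcases mem_union.1 hT with hT | hT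
    · exact ⟨(mem_Thr.1 hT).1, Or.inr ⟨i, (mem_Thr.1 hT).2, hi, e1, e2⟩⟩
    obtain ⟨U, hU, rfl⟩ := mem_image.1 hT
    refine ⟨fun e => ?_, Or.inl ?_⟩
    · obtain ⟨x, -, e⟩ := mem_image.1 e
      exact (h5 x).2.ne e
    rcases (mem_filter.1 hU).2 with ⟨u, v | v | v⟩ | ⟨u, v⟩
    exacts [⟨_, mem_image_of_mem _ u, _, mem_image_of_mem _ v, h1, e3⟩,
      ⟨_, mem_image_of_mem _ u, _, mem_image_of_mem _ v, hac, e4⟩,
      ⟨_, mem_image_of_mem _ u, _, mem_image_of_mem _ v, had, e5⟩,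
      ⟨_, mem_image_of_mem _ u, _, mem_image_of_mem _ v, h2, e6⟩]
  refine disjoint_right.2 fun T hT e => ?_
  obtain ⟨U, -, rfl⟩ := mem_image.1 hT
  obtain ⟨x, -, e⟩ := mem_image.1 (mem_Thr.1 e).2
  exact (h5 x).1.ne' e

end HW

/-- **abelian sets of roots, natural and half spin modules** -/
theorem boxMin : BoxMin := fun p _ m _ h4 =>
  ⟨⟨card_Me, card_On⟩, fun _ h =>
    have h1 := abG (Fact.out : p.Prime).ne_one h
    ⟨h1.le₁ h4, h1.le₂ (by omega), card_inside fun _ hb => ⟨fst_mem_Ix hb, snd_mem_Ix hb⟩, h1.eq_case h4⟩,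
    fun _ _ _ _ _ _ _ =>
    have h3 : 3 ≤ m := by omega
    ⟨fun h => ⟨nat_min h3 h, nat_d h3 h, nat_isWt h3 h, nat_c h3 h⟩, fun h => ⟨h.min, h.d_eq⟩⟩⟩

end Cfsg.Agent.TwoF.DC.TBD
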