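import Cfsg.Agent.TwoF.DC.TBD.IfD

/-!
# TwoF, defining characteristic, type D: abelian sets of roots as graphs (helper93, task 523)

`ES S` the edges (ordered pairs of signed indices), `ab_count` the structure of an abelian set, `ab_le`, `ab_le_Ix`,
`le_Ix`, `ab_eq`, `ab_extra` the bounds.
-/

set_option autoImplicit false
set_option linter.unusedSectionVars false

namespace Cfsg.Agent.TwoF.DC.TBD.Mn

open Finset Matrix Sum Cfsg.Agent.TwoF.DC.TC

variable {m : ℕ}

/-- the ordered pairs of indices of the roots in `S` -/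
def ES (S : Finset (PD m)) : Finset (II m × II m) := S.image (fun b => b.1) ∪ S.image fun b => b.1.swap

theorem mem_ES {S : Finset (PD m)} {z : II m × II m} : z ∈ ES S ↔ ∃ b ∈ S, IsD b z.1 z.2 := by
  simp only [ES, mem_union, mem_image]
  constructor
  · rintro (⟨b, hb, rfl⟩ | ⟨b, hb, rfl⟩)
    · exact ⟨b, hb, Or.inl rfl⟩
    · exact ⟨b, hb, Or.inr rfl⟩
  · rintro ⟨b, hb, h | h⟩
    · exact Or.inl ⟨b, hb, h⟩
    · exact Or.inr ⟨b, hb, by rw [h]; rfl⟩

theorem card_ES (S : Finset (PD m)) : (ES S).card = 2 * S.card := by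
  rw [ES, card_union_of_disjoint, card_image_of_injective _ Subtype.val_injective,
    card_image_of_injective _ fun a b h => Subtype.ext (Prod.swap_injective h), two_mul S.card]
  rw [disjoint_left]
  intro z h1 h2
  obtain ⟨a, -, rfl⟩ := mem_image.1 h1
  obtain ⟨b, -, h⟩ := mem_image.1 h2
  have h3 := a.2.1
  have h4 := b.2.1
  rw [← h] at h3
  simp only [Prod.fst_swap, Prod.snd_swap] at h3
  omega

theorem mem_Ix {S : Finset (PD m)} {x : II m} : x ∈ Ix S ↔ ∃ b ∈ S, ∃ y, IsD b x y := by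
  simp only [Ix, mem_biUnion, mem_insert, mem_singleton]
  constructor
  · rintro ⟨b, hb, rfl | rfl⟩
    · exact ⟨b, hb, _, IsD.self b⟩
    · exact ⟨b, hb, _, (IsD.self b).symm⟩
  · rintro ⟨b, hb, y, h | h⟩
    · exact ⟨b, hb, Or.inl (by rw [h])⟩
    · exact ⟨b, hb, Or.inr (by rw [h])⟩

theorem mem_Ix' {S : Finset (PD m)} {x : II m} : x ∈ Ix S ↔ ∃ b ∈ S, x = b.1.1 ∨ x = b.1.2 := by
  simp only [Ix, mem_biUnion, mem_insert, mem_singleton]

theorem _root_.Cfsg.Agent.TwoF.DC.TBD.IsD.memIx {S : Finset (PD m)} {b : PD m} {x y : II m} (h : IsD b x y) (hb : b ∈ S) : x ∈ Ix S :=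
  mem_Ix.2 ⟨b, hb, y, h⟩

theorem Ix_mono {S S' : Finset (PD m)} (h : S ⊆ S') : Ix S ⊆ Ix S' := fun _ hx => by
  obtain ⟨b, hb, y, h1⟩ := mem_Ix.1 hx
  exact h1.memIx (h hb)

theorem two_le_Ix {S : Finset (PD m)} (h : S.Nonempty) : 2 ≤ (Ix S).card := by
  obtain ⟨b, hb⟩ := h
  exact one_lt_card.2 ⟨_, (IsD.self b).memIx hb, _, (IsD.self b).symm.memIx hb, b.ne'⟩

theorem card_II : Fintype.card (II m) = 2 * m := by simp [two_mul]

theorem ES_sub (S : Finset (PD m)) : ES S ⊆ (Ix S).offDiag := fun z hz => by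
  obtain ⟨b, hb, h⟩ := mem_ES.1 hz
  exact mem_offDiag.2 ⟨h.memIx hb, h.symm.memIx hb, h.ne'⟩

theorem card_offDiag' {α : Type} (s : Finset α) : s.offDiag.card = s.card * (s.card - 1) := by
  rw [offDiag_card, Nat.mul_sub_one]

/-- a graph has at most all edges -/
theorem le_Ix (S : Finset (PD m)) : 2 * S.card ≤ (Ix S).card * ((Ix S).card - 1) := by
  rw [← card_ES, ← card_offDiag']
  exact card_le_card (ES_sub S)

/-- the indices at a position `< n` -/
theorem card_ps_lt {n : ℕ} (h : n ≤ m) : (univ.filter fun x : II m => ps x < n).card = n := by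
  have h1 : (univ.filter fun x : II m => ps x < n).image ps = range n := by
    ext i
    simp only [mem_image, mem_filter, mem_univ, true_and, mem_range]
    exact ⟨fun ⟨x, h1, h2⟩ => h2 ▸ h1, fun hi => ⟨inl ⟨i, by omega⟩, hi, rfl⟩⟩
  rw [← card_image_of_injective _ fun _ _ => ps_inj, h1, card_range]

/-- the roots `ε_i + ε_j`, `i < j < n` -/
theorem card_lt {n : ℕ} (h : n ≤ m) : 2 * (univ.filter fun b : PD m => ps b.1.2 < n).card = n * (n - 1) := by
  rw [← card_ES]
  have h1 : ES (univ.filter fun b : PD m => ps b.1.2 < n) = (univ.filter fun x : II m => ps x < n).offDiag := by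
    ext z
    simp only [mem_ES, mem_offDiag, mem_filter, mem_univ, true_and]
    constructor
    · rintro ⟨b, hb, h1⟩
      have h2 := b.2.1
      refine ⟨?_, ?_, h1.ne'⟩ <;> rcases h1 with h1 | h1 <;> rw [h1] at hb h2 <;> simp only at hb h2 <;> omega
    · rintro ⟨h1, h2, h3⟩
      obtain ⟨b, hb⟩ := exists_isD h3 (by omega)
      refine ⟨b, ?_, hb⟩
      rcases hb with hb | hb <;> rw [hb] <;> assumption
  rw [h1, card_offDiag', card_ps_lt h]

theorem mem_M1 {b : PD m} : b ∈ M1 m ↔ ps b.1.1 = 0 := by simp [M1]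
theorem mem_On {b : PD m} : b ∈ On m ↔ ps b.1.2 + 1 < m := by simp [On]
theorem mem_Me {a : II m} {b : PD m} : b ∈ Me a ↔ ps b.1.2 + 1 < m ∨ b.1.2 = a := by simp [Me]
theorem On_sub_Me (a : II m) : On m ⊆ Me a := fun _ h => mem_Me.2 (Or.inl (mem_On.1 h))

theorem card_On : 2 * (On m).card = (m - 1) * (m - 2) := by
  have h := card_lt (m := m) (n := m - 1) (by omega)
  rw [show m - 1 - 1 = m - 2 by omega] at h
  rw [← h, On]
  congr 2
  exact filter_congr fun b _ => by omega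

variable [hm : Fact (2 ≤ m)]

theorem ps_inl_lst : ps (inl (lst m) : II m) = m - 1 := rfl
theorem ps_inr_lst : ps (inr (lst m) : II m) = m := by
  have := hm.out
  rw [ps_inr, lst_val]
  omega
theorem ps_inl_fst : ps (inl (fst m) : II m) = 0 := rfl
theorem fst_val : (fst m).1 = 0 := rfl

theorem card_Me : 2 * (Me (inl (lst m) : II m)).card = m * (m - 1) := by
  have := hm.out
  rw [← card_lt (m := m) le_rfl, Me]
  congr 2
  exact filter_congr fun b _ => by rw [ps_eq, ps_inl_lst]; omega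

theorem gP_mem_Me {b : PD m} : gP m b ∈ Me (inr (lst m) : II m) ↔ b ∈ Me (inl (lst m) : II m) := by
  have := hm.out
  rw [mem_Me, mem_Me, gP_val, ps_eq, ps_eq, ps_gI, ps_inl_lst, ps_inr_lst]
  split_ifs <;> omega

theorem card_Me' : 2 * (Me (inr (lst m) : II m)).card = m * (m - 1) := by
  rw [← card_Me]
  congr 1
  refine (card_bijective (gP m) (gP m).bijective fun b => gP_mem_Me.symm).symm

theorem card_M1 : (M1 m).card = 2 * (m - 1) := by
  have := hm.out
  have h1 : (M1 m).image (fun b => ps b.1.2) = Ico 1 (2 * m - 1) := by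
    ext i
    simp only [mem_image, mem_M1, mem_Ico]
    constructor
    · rintro ⟨b, h1, rfl⟩
      have := b.2
      omega
    · intro hi
      by_cases h : i < m
      · exact ⟨⟨(inl (fst m), inl ⟨i, h⟩), by simp only [ps, fst_val]; omega⟩, rfl, rfl⟩
      · exact ⟨⟨(inl (fst m), inr ⟨2 * m - 1 - i, by omega⟩), by simp only [ps, fst_val]; omega⟩, rfl,
          by simp only [ps]; omega⟩
  rw [← card_image_of_injOn (f := fun b : PD m => ps b.1.2) fun a ha b hb h =>
    PD.ext' ((mem_M1.1 ha).trans (mem_M1.1 hb).symm) h, h1, Nat.card_Ico]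
  omega

theorem num_le {n u t s : ℕ} (h4 : 4 ≤ n) (h1 : 2 * u + t ≤ 2 * n) (h2 : 0 < t → 0 < u) (h3 : s + u ≤ u * u + 2 * t) :
    s ≤ n * (n - 1) := by
  obtain ⟨r, rfl⟩ : ∃ r, n = u + r := ⟨n - u, by omega⟩
  obtain ⟨n, hn⟩ : ∃ n, u + r = n + 1 := ⟨u + r - 1, by omega⟩
  rw [hn, Nat.add_sub_cancel]
  rcases Nat.eq_zero_or_pos t with rfl | ht
  · nlinarith
  · have := h2 ht
    nlinarith

section ab

variable {p : ℕ} (hp : p ≠ 1) {S : Finset (PD m)} (hA : (eD m).rc.Ab p S)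
include hp hA

/-- roots through `x` and `-x` have the same second index -/
theorem ab_nb {b b' : PD m} (hb : b ∈ S) (hb' : b' ∈ S) {x a a' : II m} (h : IsD b x a) (h' : IsD b' x.swap a') :
    a = a' := by
  by_contra hne
  have h1 := h.lt
  have h2 := h'.lt
  have h3 := ps_swap x
  refine (abD hp).1 hA b hb b' hb' a a' hne (by rw [Ne, eq_swap_iff]; omega) ?_
  rw [h.rd, h'.rd, wv_swap]
  abel

theorem ab_uniq {b b' : PD m} (hb : b ∈ S) (hb' : b' ∈ S) {x a a' : II m} (hx : x.swap ∈ Ix S) (h : IsD b x a)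
    (h' : IsD b' x a') : a = a' := by
  obtain ⟨c, hc, y, hy⟩ := mem_Ix.1 hx
  exact (ab_nb hp hA hb hc h hy).trans (ab_nb hp hA hb' hc h' hy).symm

/-- the common neighbour of `x` and `-x` -/
theorem ab_swap {b : PD m} (hb : b ∈ S) {x a : II m} (hx : x.swap ∈ Ix S) (h : IsD b x a) : a.swap ∉ Ix S := fun ha => by
  obtain ⟨c, hc, y, hy⟩ := mem_Ix.1 hx
  rw [← ab_nb hp hA hb hc h hy] at hy
  exact swap_ne x (ab_uniq hp hA hc hb ha hy.symm h.symm)

/-- the opposite of the first index does not make the set of indices everything -/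
theorem ab_Ix_lt : (Ix S).card < 2 * m := by
  have := hm.out
  rw [← card_II, ← card_univ]
  refine card_lt_card (ssubset_univ_iff.2 fun h => ?_)
  have hall : ∀ x, x ∈ Ix S := fun x => h ▸ mem_univ x
  obtain ⟨b, hb, y, hy⟩ := mem_Ix.1 (hall (inl (fst m)))
  exact ab_swap hp hA hb (hall _) hy (hall _)

/-- **the structure of an abelian set**: `u` indices without, `t` indices with their opposite -/
theorem ab_count : ∃ u t : ℕ, (Ix S).card = u + t ∧ 2 * u + t ≤ 2 * m ∧ (0 < t → 0 < u) ∧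
    2 * S.card + u ≤ u * u + 2 * t ∧ (t = 0 ↔ ∀ x ∈ Ix S, x.swap ∉ Ix S) := by
  let I1 := (Ix S).filter fun x => ¬ x.swap ∈ Ix S
  let I2 := (Ix S).filter fun x => x.swap ∈ Ix S
  refine ⟨I1.card, I2.card, ?_, ?_, fun h => ?_, ?_, ?_⟩
  · rw [add_comm, card_filter_add_card_filter_not]
  · have h1 : (I1.image Sum.swap).card = I1.card := card_image_of_injective _ fun _ _ => swap_inj.1
    have h2 : Disjoint (I1.image Sum.swap) (Ix S) := disjoint_left.2 fun x hx => by
      obtain ⟨y, hy, rfl⟩ := mem_image.1 hx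
      exact (mem_filter.1 hy).2
    have h3 := card_le_univ (I1.image Sum.swap ∪ Ix S)
    have h4 : I2.card + I1.card = (Ix S).card := card_filter_add_card_filter_not _
    rw [card_union_of_disjoint h2, h1, card_II] at h3
    omega
  · obtain ⟨x, hx⟩ := card_pos.1 h
    obtain ⟨h1, h2⟩ := mem_filter.1 hx
    obtain ⟨b, hb, y, hy⟩ := mem_Ix.1 h1
    exact card_pos.2 ⟨y, mem_filter.2 ⟨hy.symm.memIx hb, ab_swap hp hA hb h2 hy⟩⟩
  · have h1 : ES S ⊆ I1.offDiag ∪ (((ES S).filter fun z => z.1 ∈ I2) ∪ (ES S).filter fun z => z.2 ∈ I2) := by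
      intro z hz
      have h2 := mem_offDiag.1 (ES_sub S hz)
      simp only [mem_union, mem_offDiag, mem_filter, I1, I2]
      tauto
    have h2 : ((ES S).filter fun z => z.1 ∈ I2).card ≤ I2.card := by
      refine card_le_card_of_injOn Prod.fst (fun z hz => (mem_filter.1 hz).2) fun z hz w hw h => ?_
      obtain ⟨h3, h4⟩ := mem_filter.1 hz
      obtain ⟨b, hb, h5⟩ := mem_ES.1 h3
      obtain ⟨c, hc, h6⟩ := mem_ES.1 (mem_filter.1 hw).1
      rw [← h] at h6
      exact Prod.ext h (ab_uniq hp hA hb hc (mem_filter.1 h4).2 h5 h6)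
    have h3 : ((ES S).filter fun z => z.2 ∈ I2).card ≤ I2.card := by
      refine card_le_card_of_injOn Prod.snd (fun z hz => (mem_filter.1 hz).2) fun z hz w hw h => ?_
      obtain ⟨h3, h4⟩ := mem_filter.1 hz
      obtain ⟨b, hb, h5⟩ := mem_ES.1 h3
      obtain ⟨c, hc, h6⟩ := mem_ES.1 (mem_filter.1 hw).1
      rw [← h] at h6
      exact Prod.ext (ab_uniq hp hA hb hc (mem_filter.1 h4).2 h5.symm h6.symm) h
    have h4 := (card_le_card h1).trans ((card_union_le _ _).trans (Nat.add_le_add_left (card_union_le _ _) _))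
    rw [card_ES, offDiag_card] at h4
    have h5 : I1.card ≤ I1.card * I1.card := Nat.le_mul_self _
    omega
  · rw [card_eq_zero, filter_eq_empty_iff]

theorem ab_le (h4 : 4 ≤ m) : 2 * S.card ≤ m * (m - 1) := by
  obtain ⟨u, t, -, h1, h2, h3, -⟩ := ab_count hp hA
  exact num_le h4 h1 h2 h3

theorem ab_le_Ix (h3 : 3 ≤ m) : 2 * S.card ≤ (m - 1) * (Ix S).card := by
  obtain ⟨u, t, h0, h1, -, h3, -⟩ := ab_count hp hA
  obtain ⟨n, rfl⟩ : ∃ n, m = n + 1 := ⟨m - 1, by omega⟩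
  rw [h0, Nat.add_sub_cancel]
  nlinarith

/-- an index occurs with its opposite -/
theorem ab_extra (h6 : 6 ≤ m) {x : II m} (hx : x ∈ Ix S) (hx' : x.swap ∈ Ix S) : 2 * S.card ≤ (m - 1) * (m - 2) + 4 := by
  obtain ⟨u, t, -, h1, h2, h3, h4⟩ := ab_count hp hA
  have ht : 0 < t := Nat.pos_of_ne_zero fun h => h4.1 h x hx hx'
  have hu := h2 ht
  rcases le_total (2 * S.card) 4 with h7 | h7
  · omega
  have h5 := num_le (n := m - 1) (u := u) (t := 2 * (m - 1 - u)) (s := 2 * S.card - 4) (by omega) (by omega) (fun _ => hu)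
    (by omega)
  rw [show m - 1 - 1 = m - 2 by omega] at h5
  omega

/-- the case of equality: a complete graph on `m` indices -/
theorem ab_eq' (h4 : 4 ≤ m) (hS : S.Nonempty) (h : (m - 1) * (Ix S).card ≤ 2 * S.card) :
    (Ix S).card = m ∧ (∀ x ∈ Ix S, x.swap ∉ Ix S) ∧ (∀ x, x ∈ Ix S ∨ x.swap ∈ Ix S) ∧
      ∀ x ∈ Ix S, ∀ y ∈ Ix S, x ≠ y → ∃ b ∈ S, IsD b x y := by
  obtain ⟨u, t, h0, h1, -, h3, h5⟩ := ab_count hp hA
  have h6 := two_le_Ix hS
  obtain ⟨n, rfl⟩ : ∃ n, m = n + 1 := ⟨m - 1, by omega⟩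
  rw [h0, Nat.add_sub_cancel] at h
  have ht : t = 0 := by
    by_contra hne
    have : 1 ≤ t := Nat.pos_of_ne_zero hne
    nlinarith
  subst ht
  have hu : u = n + 1 := by nlinarith
  have h7 := h5.1 rfl
  rw [add_zero] at h0
  refine ⟨h0.trans hu, h7, fun x => ?_, fun x hx y hy hxy => ?_⟩
  · have h8 : Disjoint ((Ix S).image Sum.swap) (Ix S) := disjoint_left.2 fun x hx => by
      obtain ⟨y, hy, rfl⟩ := mem_image.1 hx
      exact h7 y hy
    have h9 : (Ix S).image Sum.swap ∪ Ix S = univ := eq_univ_of_card _ (by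
      rw [card_union_of_disjoint h8, card_image_of_injective _ fun _ _ => swap_inj.1, card_II]; omega)
    rcases mem_union.1 (h9 ▸ mem_univ x) with h10 | h10
    · obtain ⟨y, hy, rfl⟩ := mem_image.1 h10
      exact Or.inr (by rwa [swap_swap])
    · exact Or.inl h10
  · have h8 : ES S = (Ix S).offDiag := eq_of_subset_of_card_le (ES_sub S) (by
      rw [card_ES, card_offDiag', h0, hu, Nat.add_sub_cancel]; nlinarith)
    exact mem_ES.1 (h8 ▸ mem_offDiag.2 ⟨hx, hy, hxy⟩ : (x, y) ∈ ES S)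

theorem ab_eq (h4 : 4 ≤ m) (hS : S.Nonempty) (h : (m - 1) * (Ix S).card ≤ 2 * S.card) :
    ∃ a : II m, (a = inl (lst m) ∨ a = inr (lst m)) ∧ a.swap ∉ Ix S ∧ m - 1 ≤ (S.filter fun b => b.1.2 = a).card := by
  obtain ⟨h1, h2, h3, h5⟩ := ab_eq' hp hA h4 hS h
  obtain ⟨a, ha, hI⟩ : ∃ a : II m, (a = inl (lst m) ∨ a = inr (lst m)) ∧ a ∈ Ix S :=
    (h3 (inl (lst m))).elim (fun h => ⟨_, Or.inl rfl, h⟩) fun h => ⟨_, Or.inr rfl, h⟩
  refine ⟨a, ha, h2 a hI, ?_⟩
  have h6 : (Ix S).erase a ⊆ (S.filter fun b => b.1.2 = a).image fun b => b.1.1 := by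
    intro y hy
    obtain ⟨b, hb, h7 | h7⟩ := h5 y (mem_of_mem_erase hy) a hI (ne_of_mem_erase hy)
    · exact mem_image.2 ⟨b, mem_filter.2 ⟨hb, by rw [h7]⟩, by rw [h7]⟩
    · have h8 := b.lt
      rw [h7] at h8
      rcases ha with rfl | rfl
      · rw [ps_inl_lst] at h8; omega
      · rw [ps_inr_lst] at h8; omega
  have h7 := (card_le_card h6).trans card_image_le
  rwa [card_erase_of_mem hI, h1] at h7

end ab

end Cfsg.Agent.TwoF.DC.TBD.Mn
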