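import Cfsg.Agent.TwoF.DC.TBD.IfG
import Cfsg.Agent.TwoF.DC.TBD.MnA
import Cfsg.Agent.TwoF.DC.Fin.Loc

/-!
# TwoF, defining characteristic, type D: the Siegel radical of `Sp_(2m-2)(q) ≤ Ω⁻_(2m)(q)`, `q` even (helper50)
-/

set_option autoImplicit false
set_option linter.unusedSectionVars false

namespace Cfsg.Agent.TwoF.DC.TBD

open Finset Matrix Sum Cfsg.Agent.TwoF.DC.TC

namespace Sb

section gen

variable {p : ℕ} {ι Φ k G : Type} [Fintype ι] [DecidableEq ι] [Fintype Φ] [DecidableEq Φ] [Field k] [Group G]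
  {D : RDat p ι Φ k G}

theorem ht_le (hF : D.Fa) {b b' : Φ} {s t : k} (h : D.z b s = D.z b' t) (hs : s ≠ 0) : D.ht b' ≤ D.ht b := by
  by_contra h1
  have h2 := (RDat.lead_z (D := D) (b := b) rfl s).unique hF
    (RDat.lead_zero (h ▸ D.z_mem_Uge (by omega) t))
  have h3 := congrFun h2 b
  rw [Pi.single_eq_same] at h3
  exact hs h3

/-- ordered products -/
def pr {A : Type} (g : A → k → G) (l : List A) (u : A → k) : G := (l.map fun a => g a (u a)).prod

theorem pr_add {A : Type} {g : A → k → G} (h1 : ∀ a s t, g a (s + t) = g a s * g a t)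
    (h2 : ∀ a a' s t, Commute (g a s) (g a' t)) (u v : A → k) : ∀ l, pr g l (u + v) = pr g l u * pr g l v
  | [] => (mul_one _).symm
  | a :: l => by
    have h3 : Commute (g a (v a)) (pr g l u) := Commute.list_prod_right _ _ fun x hx => by
      obtain ⟨a', -, rfl⟩ := List.mem_map.1 hx
      exact h2 _ _ _ _
    have h4 := pr_add h1 h2 u v l
    simp only [pr, List.map_cons, List.prod_cons] at h3 h4 ⊢
    rw [h4, Pi.add_apply, h1, mul_assoc, mul_assoc, ← mul_assoc (g a (v a)), h3.eq, mul_assoc]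

theorem pr_mem {A : Type} {g : A → k → G} {K : Subgroup G} {u : A → k} (h : ∀ a, g a (u a) ∈ K) (l : List A) :
    pr g l u ∈ K := list_prod_mem fun x hx => by
  obtain ⟨a, -, rfl⟩ := List.mem_map.1 hx
  exact h a

/-- the products are different -/
theorem pr_inj (hF : D.Fa) {A : Type} [Fintype A] [DecidableEq A] {r : A → Φ} {g : A → k → G} {w : A → k → Φ → k}
    (h0 : ∀ a, g a 0 = 1) (hl : ∀ a s, D.Lead (g a s) (D.ht (r a)) (w a s)) (h1 : ∀ a s, w a s (r a) = s)
    (h2 : ∀ a a' s, a ≠ a' → w a s (r a') = 0) {u : A → k} (hu : pr g univ.toList u = 1) : u = 0 := by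
  classical
  by_contra hne
  obtain ⟨a, ha, hm⟩ := exists_min_image (univ.filter fun a => u a ≠ 0) (fun a => D.ht (r a)) (by
    obtain ⟨a, ha⟩ := Function.ne_iff.1 hne
    exact ⟨a, mem_filter.2 ⟨mem_univ _, ha⟩⟩)
  have h3 := RDat.lead_list (D := D) (e := D.ht (r a)) (l := univ.toList) (f := fun b => g b (u b))
    (w := fun b => if D.ht (r b) = D.ht (r a) then w b (u b) else 0) fun b _ => by
      split_ifs with h
      · exact h ▸ hl b (u b)
      · refine RDat.lead_zero ?_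
        by_cases hb : u b = 0
        · rw [hb, h0]
          exact one_mem _
        · have h4 := hm b (mem_filter.2 ⟨mem_univ _, hb⟩)
          exact D.Uge_anti (by omega) (hl b (u b)).mem
  have h4 := congrFun (h3.unique hF (RDat.lead_zero (hu.symm ▸ one_mem _ : pr g univ.toList u ∈ _))) (r a)
  rw [sum_map_toList, Finset.sum_apply, sum_eq_single a (fun b _ hb => by split_ifs; exacts [h2 _ _ _ hb, rfl]) (by simp),
    if_pos rfl, h1] at h4
  exact (mem_filter.1 ha).2 h4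

end gen

variable {m : ℕ} [hm : Fact (2 ≤ m)] {p : ℕ} {k G : Type} [Field k] [Group G] {D : RDat p (Fin m) (PD m) k G}

theorem comm_f (hR : D.R = (eD m).rc) (f : Fin m → ℤ) {M : ℤ} (h : ∀ a : PD m, rd a ⬝ᵥ f ≤ M) {b b' : PD m}
    (hb : 0 ≤ rd b ⬝ᵥ f) (hb' : 0 ≤ rd b' ⬝ᵥ f) (hM : M < rd b ⬝ᵥ f + rd b' ⬝ᵥ f) (s t : k) :
    Commute (D.z b s) (D.z b' t) :=
  commute_of_cf D (fun a x y hx hy e => by
    rw [hR] at e
    have h3 := h a
    rw [show rd a = (x : ℤ) • rd b + (y : ℤ) • rd b' from (eD m).cf_add_iff.1 e, add_dotProduct, smul_dotProduct,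
      smul_dotProduct, smul_eq_mul, smul_eq_mul] at h3
    have h4 := le_mul_of_one_le_left hb (show (1 : ℤ) ≤ x by exact_mod_cast hx)
    have h5 := le_mul_of_one_le_left hb' (show (1 : ℤ) ≤ y by exact_mod_cast hy)
    omega) s t

/-- the functional `(1, …, 1, 0)` -/
def f1 (m : ℕ) : Fin m → ℤ := fun i => if i.1 + 1 < m then 1 else 0

theorem xv_f1 (a : II m) : xv (f1 m) a = if ps a + 1 < m then 1 else if m < ps a then -1 else 0 := by
  rcases a with i | i <;> have := i.2 <;> simp only [xv, f1, ps] <;> split_ifs <;> omega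

theorem comm_On (hR : D.R = (eD m).rc) {b b' : PD m} (hb : ps b.1.2 + 1 < m) (hb' : ps b'.1.2 ≤ m) (s t : k) :
    Commute (D.z b s) (D.z b' t) := by
  have h1 := b.lt
  have h2 := b'.lt
  refine comm_f hR (f1 m) (M := 2) (fun a => ?_) ?_ ?_ ?_ s t <;> simp only [rd_dot, xv_f1] <;> split_ifs <;> omega

theorem comm_gP (hR : D.R = (eD m).rc) (b : PD m) (s t : k) : Commute (D.z b s) (D.z (gP m b) t) := by
  have h1 := b.lt
  have h2 := b.2
  refine comm_f hR (wv b.1.1) (M := 1) (fun a => ?_) ?_ ?_ ?_ s t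
  · have h3 := a.2
    simp only [rd_dot, xv_wv']
    split_ifs <;> omega
  all_goals
    simp only [rd_dot, xv_wv', gP_val, ps_gI]
    split_ifs <;> omega

/-- the index set -/
abbrev AA (m : ℕ) [Fact (2 ≤ m)] : Type := {b : PD m // b ∈ Me (inl (lst m) : II m)}

theorem AA.lt (b : AA m) : ps b.1.1.2 < m := by
  have h := Mn.mem_Me.1 b.2
  have := hm.out
  rw [ps_eq, Mn.ps_inl_lst] at h
  omega

variable (D) in
/-- the generators -/
def gg (b : AA m) (s : k) : G := if ps b.1.1.2 + 1 < m then D.z b s else D.z b s * D.z (gP m b) s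

theorem gg_on {b : AA m} (h : ps b.1.1.2 + 1 < m) (s : k) : gg D b s = D.z b s := if_pos h

theorem gg_off {b : AA m} (h : ¬ ps b.1.1.2 + 1 < m) (s : k) : gg D b s = D.z b s * D.z (gP m b) s := if_neg h

theorem gg_yy {b : AA m} (h : ¬ ps b.1.1.2 + 1 < m) : ∃ i hi, ∀ s, gg D b s = yy D i hi s := by
  have h1 := b.lt
  have h2 := b.1.lt
  have h3 : (⟨ps b.1.1.1, by omega⟩ : Fin m) < lst m := by rw [Fin.lt_def, lst_val]; simp only; omega
  refine ⟨_, h3, fun s => ?_⟩
  have h4 : dp _ (lst m) h3 = b.1 := PD.ext' rfl (by show (lst m).1 = _; rw [lst_val]; omega)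
  have h5 : dm _ (lst m) h3 = gP m b.1 := PD.ext' (by
    rw [gP_val, ps_gI, if_neg (by omega), if_neg (by omega)]; rfl) (by
    rw [gP_val, ps_gI, if_pos (by omega)]; exact Mn.ps_inr_lst)
  rw [gg_off h, yy, h4, h5]

theorem ps_gP_le (b : AA m) : ps (gP m b.1).1.2 ≤ m := by
  have h1 := b.lt
  rw [gP_val, ps_gI]
  split_ifs <;> omega

theorem gP_on {b : PD m} (h : ps b.1.2 + 1 < m) : gP m b = b := by
  have h1 := b.lt
  refine PD.ext' ?_ ?_ <;> rw [gP_val, ps_gI, if_neg (by omega), if_neg (by omega)]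

theorem gP_ne {b : AA m} (h : ¬ ps b.1.1.2 + 1 < m) (b' : AA m) : b'.1 ≠ gP m b.1 := fun e => by
  have h1 := b.lt
  have h2 := b'.lt
  rw [e, gP_val, ps_gI, if_pos (by omega)] at h2
  omega

theorem gg_zero (b : AA m) : gg D b 0 = 1 := by
  rw [gg, D.z_zero, D.z_zero, mul_one, ite_self]

theorem gg_add (hR : D.R = (eD m).rc) (b : AA m) (s t : k) : gg D b (s + t) = gg D b s * gg D b t := by
  by_cases h : ps b.1.1.2 + 1 < m
  · rw [gg_on h, gg_on h, gg_on h, D.z_add]
  · rw [gg_off h, gg_off h, gg_off h, D.z_add, D.z_add, (comm_gP hR b.1 t s).mul_mul_mul_comm]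

theorem comm_z_gg (hR : D.R = (eD m).rc) {b : PD m} (h : ps b.1.2 + 1 < m) (b' : AA m) (s t : k) :
    Commute (D.z b s) (gg D b' t) := by
  rw [gg]
  split_ifs
  · exact comm_On hR h b'.lt.le s t
  · exact (comm_On hR h b'.lt.le s t).mul_right (comm_On hR h (ps_gP_le b') s t)

theorem gg_comm (hR : D.R = (eD m).rc) (hy : ∀ i j h h' s t, Commute (yy D i h s) (yy D j h' t)) (b b' : AA m)
    (s t : k) : Commute (gg D b s) (gg D b' t) := by
  by_cases h : ps b.1.1.2 + 1 < m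
  · rw [gg_on h]
    exact comm_z_gg hR h b' s t
  by_cases h' : ps b'.1.1.2 + 1 < m
  · rw [gg_on h']
    exact (comm_z_gg hR h' b t s).symm
  obtain ⟨i, hi, h1⟩ := gg_yy (D := D) h
  obtain ⟨j, hj, h2⟩ := gg_yy (D := D) h'
  rw [h1, h2]
  exact hy _ _ _ _ _ _

theorem gg_inj (hF : D.Fa) (hh : ∀ b, D.ht (gP m b) = D.ht b) {u : AA m → k} (hu : pr (gg D) univ.toList u = 1) :
    u = 0 := by
  refine pr_inj hF (r := Subtype.val) (w := fun b s => if ps b.1.1.2 + 1 < m then Pi.single b.1 s else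
    Pi.single b.1 s + Pi.single (gP m b.1) s) gg_zero (fun b s => ?_) (fun b s => ?_) (fun b b' s h => ?_) hu
  · rw [gg]
    split_ifs
    · exact RDat.lead_z rfl s
    · exact (RDat.lead_z rfl s).mul (RDat.lead_z (hh _) s)
  · split_ifs with h
    · exact Pi.single_eq_same _ _
    · rw [Pi.add_apply, Pi.single_eq_same, Pi.single_eq_of_ne (gP_ne h b), add_zero]
  · have h1 : b'.1 ≠ b.1 := fun e => h (Subtype.ext e).symm
    split_ifs with h2
    · exact Pi.single_eq_of_ne h1 _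
    · rw [Pi.add_apply, Pi.single_eq_of_ne h1, Pi.single_eq_of_ne (gP_ne h2 b'), add_zero]

end Sb

open Sb in
/-- **the subgroup for the twisted groups in characteristic two** -/
theorem boxSub : BoxSub := by
  intro m _ _ k G _ _ _ _ D hR hF P hg hy
  have hh : ∀ b, D.ht (gP m b) = D.ht b := fun b => by
    obtain ⟨ε, h⟩ := P.gr_z P.σ b
    have h1 := (hg b 1).symm.trans (h 1)
    rw [← P.ht_gr P.σ b]
    exact le_antisymm (ht_le hF h1.symm (mul_ne_zero ε.ne_zero one_ne_zero)) (ht_le hF h1 one_ne_zero)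
  have hz : ∀ b t, t ^ 2 ^ P.f = t → P.Θ (D.z b t) = D.z (gP m b) t := fun b t ht => by
    show P.gr P.σ (P.FrP P.f _) = _
    rw [P.FrP_z, ht, hg]
  let K : AddSubgroup k :=
    { carrier := {a | a ^ 2 ^ P.f = a}
      add_mem' := fun {a b} (ha : a ^ 2 ^ P.f = a) (hb : b ^ 2 ^ P.f = b) =>
        show (a + b) ^ 2 ^ P.f = a + b by rw [add_pow_char_pow, ha, hb]
      zero_mem' := zero_pow (by positivity)
      neg_mem' := fun {a} ha => by rwa [CharTwo.neg_eq] }
  have hT : ∀ (b : AA m) (t : K), gg D b t ∈ P.TT := fun b t => Subgroup.subset_closure (by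
    by_cases h : ps b.1.1.2 + 1 < m
    · rw [gg_on h]
      exact ⟨Or.inl (D.z_mem_U _ _), by rw [hz _ _ t.2, gP_on h]⟩
    · rw [gg_off h]
      exact ⟨Or.inl (mul_mem (D.z_mem_U _ _) (D.z_mem_U _ _)), by
        rw [map_mul, hz _ _ t.2, hz _ _ t.2, gP_gP, (comm_gP hR _ _ _).eq]⟩)
  let φ : Multiplicative (AA m → K) →* P.TT := MonoidHom.mk'
    (fun u => ⟨pr (gg D) univ.toList fun b => u.toAdd b, pr_mem (fun b => hT b _) _⟩) fun u v =>
      Subtype.ext (pr_add (gg_add hR) (gg_comm hR hy) (fun b => u.toAdd b) (fun b => v.toAdd b) _)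
  have hφ : Function.Injective φ := (injective_iff_map_eq_one φ).2 fun u hu =>
    funext fun b => Subtype.ext (congrFun (gg_inj hF hh (congrArg Subtype.val hu)) b)
  refine ⟨hy, φ.range, ⟨inferInstance, ?_⟩, ?_, ?_⟩
  · rintro _ ⟨u, rfl⟩
    rw [← map_pow, show u ^ 2 = 1 from ?_, map_one]
    rw [pow_two]
    exact funext fun b => Subtype.ext (CharTwo.add_self_eq_zero _)
  · rw [← Nat.card_congr (MonoidHom.ofInjective hφ).toEquiv, Nat.card_congr Multiplicative.toAdd, Nat.card_fun,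
      show Nat.card K = 2 ^ P.f from card_frob_fix P.f_pos, Nat.card_eq_fintype_card, Fintype.card_coe, ← Mn.card_Me,
      pow_mul']
  · rintro _ ⟨_, ⟨u, rfl⟩, rfl⟩
    refine pr_mem (fun b => Subgroup.subset_closure ?_) _
    by_cases h : ps b.1.1.2 + 1 < m
    · exact Or.inl ⟨b.1, Mn.mem_On.2 h, _, gg_on h _⟩
    · obtain ⟨i, hi, h1⟩ := gg_yy (D := D) h
      exact Or.inr ⟨i, hi, _, h1 _⟩

end Cfsg.Agent.TwoF.DC.TBD
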