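import Cfsg.Agent.TwoF.DC.TBD.Ins
import Cfsg.Agent.TwoF.DC.TBD.BMain
import Cfsg.Agent.TwoF.DC.TBD.Min
import Cfsg.Agent.TwoF.DC.TBD.Big
import Cfsg.Agent.TwoF.DC.TBD.CT
import Cfsg.Agent.TwoF.DC.TBD.DDMain
import Cfsg.Agent.TwoF.DC.TBD.Num
import Cfsg.Agent.TwoF.DC.TBD.Pi
import Cfsg.Agent.TwoF.DC.TBD.Sub
import Cfsg.Agent.TwoF.DC.D4.Main
import Cfsg.Agent.TwoF.DC.TC.Dat

/-!
# TwoF, defining characteristic: the orthogonal groups (helper7)

`oodd`, `oplus`, `ominus` : the fields of `Types`, from `BoxFin` and `BoxStd`.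
-/

set_option autoImplicit false
set_option linter.unusedSectionVars false
set_option linter.unusedVariables false

namespace Cfsg.Agent.TwoF.DC.TBD

open Cfsg.Agent.TwoF.DC.TC Cfsg.Agent.TwoF.DC.TBD.Cl

theorem combD {p : ℕ} [Fact p.Prime] {m : ℕ} [Fact (2 ≤ m)] (hm : 4 ≤ m) {k : Type} [Field k] [IsAlgClosed k] [CharP k p]
    (f : ℕ) (hf : 0 < f) (σ : Subgroup.zpowers (gN m)) : (tD m k p f hf σ).Comb fun _ => True := by
  refine boxD (boxBig boxMin) boxMin (boxCT (boxBig boxMin) boxMin) p m hm k _ _ rfl _ tD_gr ?_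
  rintro rfl h
  exact boxSub m hm k _ _ rfl (TE.fa_of_faith (faithD (by omega) 2 k) (fst m)) _ (tD_z h) yy_comm

theorem vecD {p m : ℕ} [Fact (2 ≤ m)] {k : Type} [Field k] :
    Vec (dD m k p) (fun b => b.1.1) (fun b => Sum.inr b.1.2) (cD m).th := by
  rw [show (fun b : PD m => b.1.1) = fun b => Sum.inl ((cD m).ia b) from
    funext fun b => (inl_ix (Nat.lt_of_succ_lt b.lt)).symm]
  exact (cD m).vec p _

variable (hF : BoxFin) (h : BoxStd)
include hF h

theorem oodd : TBox fun p S _ => IsPOmegaOddChar p S := by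
  rintro p _ S _ _ _ ⟨F, _, _, _, m, hm, hodd, ⟨e⟩⟩
  obtain ⟨f, hp, hq⟩ := FiniteField.card F p
  have hp2 : p ≠ 2 := by
    rintro rfl
    rw [hq, Nat.odd_pow_iff f.pos.ne'] at hodd
    exact absurd hodd (by decide)
  let k := AlgebraicClosure F
  have h2 : (2 : k) ≠ 0 := fun e =>
    hp2 ((Nat.prime_dvd_prime_iff_eq hp Nat.prime_two).1 ((CharP.cast_eq_zero_iff k p 2).1 (by exact_mod_cast e)))
  let D := (cB m).rdat k p fun _ => h2
  let P := tw0 D f f.pos ((cB m).fr (frobenius k p)) ((cB m).fr_z p _ _) ((cB m).fr_y p _ _)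
  have hc : P.Comb fun _ => True := (boxB p hp2 m hm k _ D rfl).comb
    ⟨fun _ => 1, fun _ => hp.one_lt, fun e => one_ne_zero (congrFun e ⟨0, by omega⟩), trivial⟩
  have hv : Vec D (fun b => b.1.1) ibB (cB m).th := by
    rw [show (fun b : PR m => b.1.1) = fun b => Sum.inl ((cB m).ia b) from funext fun b => (inl_ix b.lt).symm]
    exact (cB m).vec p _
  exact Row.of_equiv (hF h p _ _ k _ D P _ (((boxNum p m k _ F).1 hp2 hm D rfl P rfl hq).num
    ((boxPi p m k _ F (algebraMap F k) _).1 hp2 hm D rfl (TE.fa_of_faith hc.faith ⟨0, by omega⟩) hv P rfl hq)) hc) e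

theorem oplus : TBox fun p S _ => IsPOmegaPlusChar p S := by
  rintro p _ S _ _ _ ⟨F, i1, i2, i3, m, hm, ⟨e⟩⟩
  rcases hm.eq_or_lt with rfl | hm'
  · exact D4.oplus4 hF h p S ⟨F, i1, i2, i3, ⟨e⟩⟩
  obtain ⟨f, hp, hq⟩ := FiniteField.card F p
  have : Fact (2 ≤ m) := ⟨by omega⟩
  let k := AlgebraicClosure F
  let P := tD m k p f f.pos 1
  have hc : P.Comb fun _ => True := combD hm f f.pos 1
  exact Row.of_equiv (hF h p _ _ k _ _ P _ ((((boxNum p m k _ F).2 _ rfl P hq tD_cent).1 hm' rfl).num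
    (((boxPi p m k _ F (algebraMap F k) _).2 hm _ rfl (TE.fa_of_faith hc.faith (fst m)) vecD P hq).1 rfl)) hc) e

theorem ominus : TBox fun p S _ => IsPOmegaMinusChar p S := by
  rintro p _ S _ _ _ ⟨F, _, _, _, m, a, b, hm, hab, ⟨e⟩⟩
  obtain ⟨f, hp, hq⟩ := FiniteField.card F p
  have : Fact (2 ≤ m) := ⟨by omega⟩
  let k := AlgebraicClosure F
  let P := tD m k p f f.pos ⟨gN m, Subgroup.mem_zpowers _⟩
  have hc : P.Comb fun _ => True := combD hm f f.pos _
  exact Row.of_equiv (hF h p _ _ k _ _ P _ ((((boxNum p m k _ F).2 _ rfl P hq tD_cent).2 hm rfl a b hab).num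
    (((boxPi p m k _ F (algebraMap F k) _).2 hm _ rfl (TE.fa_of_faith hc.faith (fst m)) vecD P hq).2 rfl a b hab)) hc) e

end Cfsg.Agent.TwoF.DC.TBD
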