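import Cfsg.Agent.TwoF.DC.TBD.BVec

/-!
# TwoF, defining characteristic, type `B` (2): weights of the modules (helper37)

A weight `μ` has the vector `y` (twice the coordinates) if `IW μ y`.
-/

set_option autoImplicit false
set_option linter.unusedSectionVars false
set_option linter.unusedVariables false

namespace Cfsg.Agent.TwoF.DC.TBD.B

open Finset Matrix Sum Cfsg.Agent.TwoF.DC.TC

/-- the root combinatorics of type `B` -/
abbrev RB (m : ℕ) : RC (Fin m) (PR m) := (eC m).dual.rc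

variable {m : ℕ}

/-- `y` is the vector of the weight `μ` -/
def IW (μ y : Fin m → ℤ) : Prop := (eC m).dual.IsW 2 μ y

section iw

variable {μ y : Fin m → ℤ}

theorem IW.pair (h : IW μ y) (b : PR m) : 2 * (RB m).pair μ (true, b) = xv y b.1.1 + xv y b.1.2 :=
  (Euc.IsW.pair h (true, b)).symm.trans (rv_dot b y)

theorem IW.add (h : IW μ y) (c : ℤ) (b : PR m) : IW (μ + c • (RB m).wt (true, b)) (y + (2 * c) • cv b) := fun i => by
  have h1 := Euc.isW_wt (X := (eC m).dual) 2 (true, b) i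
  rw [Euc.rx_true, dotProduct_smul, smul_eq_mul] at h1
  rw [dotProduct_add, dotProduct_smul, h i, Pi.add_apply, Pi.smul_apply, smul_eq_mul, smul_eq_mul, mul_add,
    mul_left_comm 2 c, ← h1]
  change _ + _ * ((eC m).dual.cv _ ⬝ᵥ (eC m).dual.rv b) = _
  ring

theorem IW.ob (h : IW μ y) {v : Fin m → ℤ} (hv : Ob y v) : ∃ l, IW ((RB m).swl l μ) v := by
  obtain ⟨π, ε, rfl⟩ := hv
  exact (bc_B.exists_swl π ε).imp fun l hl => hl 2 two_ne_zero _ _ h

theorem exists_iw (μ : Fin m → ℤ) : ∃ y, IW μ y := by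
  rcases m with _ | m
  · exact ⟨0, fun i => i.elim0⟩
  refine ⟨fun l => 2 * ew μ l - μ (Fin.last m), fun i => ?_⟩
  change rv (zc i) ⬝ᵥ _ = _
  rw [rv_zc_dot, ew_step μ i]
  split_ifs with h
  · ring
  · rw [show i = Fin.last m from Fin.ext (by have := i.2; simp only [Fin.val_last]; omega)]; ring

theorem cnt_iw {Q : (Fin m → ℤ) → Prop} {r : ℕ} (h : Cnt (fun v => ∃ μ, IW μ v ∧ Q μ) r) : Cnt Q r := by
  obtain ⟨A, h1, h2⟩ := h
  choose! f hf using h2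
  exact (Cnt.of_inj A f (fun a ha b hb e => (hf a ha).1.uniq (e ▸ (hf b hb).1)) fun v hv => (hf v hv).2).mono
    (fun _ h => h) h1

end iw

theorem cv_pl {i j : Fin m} (h : i < j) : cv (pl i j h.le) = Pi.single i 1 + Pi.single j 1 :=
  if_neg fun e => h.ne (inl.inj e)
theorem cv_sh (i : Fin m) : cv (pl i i le_rfl) = Pi.single i 1 := if_pos rfl
theorem cv_mn {i j : Fin m} (h : i < j) : cv (mn i j h) = Pi.single i 1 - Pi.single j 1 :=
  (if_neg inl_ne_inr).trans (sub_eq_add_neg _ _).symm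

variable {p : ℕ} {k L : Type} [Field k] [AddCommGroup L] [Module k L] (H : HW (RB m) p k L)

/-- `y` is the vector of a weight of the module -/
def Wv (y : Fin m → ℤ) : Prop := ∃ μ, IW μ y ∧ H.IsWt μ

/-- the vector of the highest weight -/
noncomputable def y0 : Fin m → ℤ := (exists_iw H.lz).choose

theorem iw_y0 : IW H.lz (y0 H) := (exists_iw H.lz).choose_spec

theorem y0_step (i : Fin m) :
    (if h : i.1 + 1 < m then y0 H i - y0 H ⟨i.1 + 1, h⟩ else 2 * y0 H i) = 2 * (H.lam i : ℤ) :=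
  (rv_zc_dot i _).symm.trans (iw_y0 H i)

theorem ext_of_ob {v : Fin m → ℤ} (h : Ob (y0 H) v) : ∃ μ, IW μ v ∧ H.Ext μ :=
  let ⟨l, hl⟩ := (iw_y0 H).ob h; ⟨_, hl, l, rfl⟩

theorem wv_of_ob {v : Fin m → ℤ} (h : Ob (y0 H) v) : Wv H v :=
  let ⟨μ, h1, h2⟩ := ext_of_ob H h; ⟨μ, h1, h2.isWt⟩

variable {H}

theorem Wv.ob {y v : Fin m → ℤ} (h : Wv H y) (hv : Ob y v) : Wv H v :=
  let ⟨μ, h1, h2⟩ := h; let ⟨l, hl⟩ := h1.ob hv; ⟨_, hl, (H.isWt_swl l μ).2 h2⟩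

theorem sub_eq {μ y : Fin m → ℤ} (h : IW μ y) (hμ : H.IsWt μ) : y0 H - y = (2 : ℤ) • (eC m).dual.E (H.dep μ) := by
  have h1 : IW μ (y0 H - (2 : ℤ) • (eC m).dual.E (H.dep μ)) := fun i => by
    rw [dotProduct_sub, iw_y0 H i, Euc.isW_toWt 2 _ i, ← mul_sub, ← Pi.sub_apply, ← H.dep_spec hμ]
  rw [h.uniq h1, sub_sub_cancel]

theorem dep_B {μ y : Fin m → ℤ} (h : IW μ y) (hμ : H.IsWt μ) (l : Fin m) : PS l (y0 H - y) = 2 * H.dep μ l := by
  rw [sub_eq h hμ, PS_smul]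
  exact congrArg _ (PS_Ec l _)

theorem lev_B {μ y : Fin m → ℤ} (h : IW μ y) (hμ : H.IsWt μ) (f : Fin m → ℤ) :
    2 * H.lev (fun i => f ⬝ᵥ cv (zc i)) μ = f ⬝ᵥ y0 H - f ⬝ᵥ y := by
  rw [← dotProduct_sub, sub_eq h hμ, dotProduct_smul, Euc.dot_E]
  rfl

theorem hv_B (f : Fin m → ℤ) (b : PR m) : (RB m).hv (fun i => f ⬝ᵥ cv (zc i)) b = f ⬝ᵥ cv b := by
  have h := (eC m).dual.dot_E f fun j => (eC m).dual.cf b j
  rw [Euc.E_cf] at h
  exact h.symm

theorem Wv.sub (hX : H.X) {v : Fin m → ℤ} (h : Ob (y0 H) v) {b : PR m} (hb : 0 < xv v b.1.1 + xv v b.1.2) :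
    Wv H (v - (2 : ℤ) • cv b) := by
  obtain ⟨μ, h1, h2⟩ := ext_of_ob H h
  have h3 := h1.add (-1) b
  rw [neg_one_smul, mul_neg_one, neg_smul, ← sub_eq_add_neg, ← sub_eq_add_neg] at h3
  exact ⟨_, h3, hX.isWt_sub h2 (by have := h1.pair b; omega)⟩

theorem le_d {r : ℕ} (h : Cnt (Wv H) r) : r ≤ H.d :=
  let ⟨A, h1, h2⟩ := cnt_iw h; h1.trans (H.card_le_d A h2)

/-- levels: cubic and quadratic action -/
theorem cub [CharP k p] (hp : 3 ≤ p) (f : Fin m → ℤ) {t r : ℤ} {S : Finset (PR m)} (hS : ∀ b ∈ S, t ≤ f ⬝ᵥ cv b)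
    (hr : ∀ y, Wv H y → |f ⬝ᵥ y| ≤ r) (h3 : r < 3 * t) :
    (∀ a ∈ S, ∀ b ∈ S, ∀ c ∈ S, ∀ l n o, 0 < l → 0 < n → 0 < o →
      H.E (true, a) l * H.E (true, b) n * H.E (true, c) o = 0) ∧ H.cG S = H.cL S ∧
    (r < 2 * t → ∀ a ∈ S, ∀ b ∈ S, ∀ l n, 0 < l → 0 < n → H.E (true, a) l * H.E (true, b) n = 0) := by
  have h1 : ∀ b ∈ S, t ≤ (RB m).hv (fun i => f ⬝ᵥ cv (zc i)) b := fun b hb => hv_B f b ▸ hS b hb
  have h2 : ∀ s, r < s → ∀ μ, H.IsWt μ → (f ⬝ᵥ y0 H - r + 1) / 2 ≤ H.lev (fun i => f ⬝ᵥ cv (zc i)) μ ∧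
      H.lev (fun i => f ⬝ᵥ cv (zc i)) μ < (f ⬝ᵥ y0 H - r + 1) / 2 + s := fun s hs μ hμ => by
    obtain ⟨y, hy⟩ := exists_iw μ
    have h4 := lev_B hy hμ f
    have h5 := abs_le.1 (hr y ⟨μ, hy, hμ⟩)
    omega
  have h0 : 0 ≤ r := (abs_nonneg _).trans (hr _ (wv_of_ob H (Ob.refl _)))
  exact ⟨H.cubic_of_lev S _ h1 (h2 _ h3), H.cG_eq_cL (H.kerL_le_kerG_of_three hp fun b hb n hn =>
    H.E_eq_zero_of_lev b _ (h2 _ h3) (mul_le_mul (by exact_mod_cast hn) (h1 b hb) (by omega) (by omega))),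
    fun h => H.quad_of_lev S _ h1 (h2 _ h)⟩

/-- the long root operators are nonzero on the weight spaces of the orbit of `y` with negative pairing -/
def Gd (H : HW (RB m) p k L) (y : Fin m → ℤ) : Prop :=
  ∀ v, Ob y v → ∃ μ, IW μ v ∧ ∀ b : PR m, b.1.1 ≠ b.1.2 → xv v b.1.1 + xv v b.1.2 < 0 →
    ∃ u ∈ H.w μ, H.E (true, b) 1 u ≠ 0

theorem gd_y0 (hX : H.X) : Gd H (y0 H) := fun v hv => by
  obtain ⟨μ, h1, h2⟩ := ext_of_ob H hv
  obtain ⟨u, hu, h0⟩ := H.isWt_iff.1 h2.isWt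
  exact ⟨μ, h1, fun b _ h => ⟨u, hu, fun e => h0 (hX.ext h2 (by have := h1.pair b; omega) hu e)⟩⟩

theorem gd_of_lt [CharP k p] {y : Fin m → ℤ} (hy : Wv H y)
    (h : ∀ v, Wv H v → ∀ b : PR m, b.1.1 ≠ b.1.2 → xv v b.1.1 + xv v b.1.2 < 2 * p) : Gd H y := fun v hv => by
  obtain ⟨μ, h1, h2⟩ := hy.ob hv
  obtain ⟨u, hu, h0⟩ := H.isWt_iff.1 h2
  refine ⟨μ, h1, fun b hb h3 => ⟨u, hu, fun e => h0 (H.inj1_of_le (M := p - 1) (fun ν hν => ?_) ?_ ?_ hu e)⟩⟩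
  · obtain ⟨z, hz⟩ := exists_iw ν
    have := h z ⟨ν, hz, hν⟩ b hb
    have := hz.pair b
    omega
  · have := h1.pair b
    omega
  · have h4 := h _ (hy.ob hv.neg) b hb
    have := h1.pair b
    rw [xv_neg, xv_neg] at h4
    omega

theorem Gd.le_cL {y : Fin m → ℤ} (hy : Gd H y) (S : Finset (PR m)) {r : ℕ}
    (h : Cnt (fun v => Ob y v ∧ ∃ b ∈ S, b.1.1 ≠ b.1.2 ∧ xv v b.1.1 + xv v b.1.2 < 0) r) : r ≤ H.cL S := by
  obtain ⟨A, h1, h2⟩ := cnt_iw (Q := fun μ => ∃ b ∈ S, ∃ u ∈ H.w μ, H.E (true, b) 1 u ≠ 0) (h.mono (by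
    rintro v ⟨h3, b, hb, h4, h5⟩
    obtain ⟨μ, h6, h7⟩ := hy v h3
    exact ⟨μ, h6, b, hb, h7 b h4 h5⟩) le_rfl)
  exact h1.trans (H.card_le_cL S A h2)

section three

variable {n : ℕ} (H : HW (RB (n + 3)) p k L)

theorem y0_succ (i : Fin (n + 2)) : y0 H i.castSucc - y0 H i.succ = 2 * (H.lam i.castSucc : ℤ) :=
  (dif_pos (Nat.succ_lt_succ i.2)).symm.trans (y0_step H i.castSucc)

theorem y0_last : y0 H (Fin.last _) = H.lam (Fin.last _) := by
  have h := (dif_neg (lt_irrefl _)).symm.trans (y0_step H (Fin.last _))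
  omega

theorem y0_anti : Antitone (y0 H) := Fin.antitone_iff_succ_le.2 fun i => by have := y0_succ H i; omega

theorem y0_nonneg (i : Fin (n + 3)) : 0 ≤ y0 H i := le_trans (by rw [y0_last]; omega) (y0_anti H (Fin.le_last i))

theorem y0_pos : 0 < y0 H 0 := by
  obtain ⟨i, hi⟩ := H.exists_lam_pos
  have h1 := y0_step H i
  have h2 := y0_anti H (Fin.zero_le i)
  split_ifs at h1 with h
  · have := y0_nonneg H ⟨_, h⟩
    omega
  · omega

theorem PS_zero (x : Fin (n + 3) → ℤ) : PS 0 x = x 0 := by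
  rw [PS, show Iic (0 : Fin (n + 3)) = {0} from Iic_bot, sum_singleton]

variable {H}

theorem Wv.abs_le {y : Fin (n + 3) → ℤ} (h : Wv H y) (i : Fin (n + 3)) : |y i| ≤ y0 H 0 := by
  have key : ∀ v, Wv H v → v i ≤ y0 H 0 := fun v hv => by
    obtain ⟨μ, h1, h2⟩ := hv.ob ((Ob.refl v).perm (Equiv.swap 0 i))
    have h3 := dep_B h1 h2 0
    have h4 := H.dep_nonneg h2 0
    rw [PS_zero, Pi.sub_apply, Function.comp_apply, Equiv.swap_apply_left] at h3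
    omega
  exact abs_le'.2 ⟨key y h, key _ (h.ob (Ob.refl y).neg)⟩

theorem Wv.sum_le {y : Fin (n + 3) → ℤ} (h : Wv H y) : ∑ i, |y i| ≤ ∑ i, y0 H i := by
  obtain ⟨μ, h1, h2⟩ := h.ob (v := fun i => |y i|) ⟨1, fun i => if y i < 0 then -1 else 1, funext fun i => by
    by_cases h : y i < 0
    · simp [sp, h, abs_of_neg h]
    · simp [sp, h, abs_of_nonneg (not_lt.1 h)]⟩
  have h3 := dep_B h1 h2 (Fin.last _)
  have h4 := H.dep_nonneg h2 (Fin.last _)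
  rw [PS_last (lt_irrefl _)] at h3
  simp only [Pi.sub_apply, sum_sub_distrib] at h3
  omega

theorem xv_le (y : Fin m → ℤ) (a : II m) : xv y a ≤ |y (a.elim id id)| := by
  rcases a with i | i
  exacts [le_abs_self _, neg_le_abs _]

theorem xv_add_le (y : Fin m → ℤ) (b : PR m) (h : b.1.1 ≠ b.1.2) : xv y b.1.1 + xv y b.1.2 ≤ ∑ i, |y i| := by
  have h1 : b.1.1.elim id id ≠ b.1.2.elim id id := by
    have h2 := b.ne
    revert h h2
    rcases b.1.1 with i | i <;> rcases b.1.2 with j | j <;> simp [eq_comm]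
  have h2 := sum_le_sum_of_subset_of_nonneg (f := fun i => |y i|) (subset_univ {b.1.1.elim id id, b.1.2.elim id id})
    fun i _ _ => abs_nonneg _
  rw [sum_pair h1] at h2
  exact (add_le_add (xv_le _ _) (xv_le _ _)).trans h2

/-- natural, spin or big -/
theorem trich [CharP k p] (hX : H.X) : y0 H = Pi.single 0 2 ∨ (y0 H = fun _ => 1) ∨
    ∃ y, Gd H y ∧ (∀ i, 0 ≤ y i) ∧ Antitone y ∧ 0 < y 1 ∧ y (Fin.last _) < y 0 := by
  have h0 := y0_pos H
  by_cases h1 : y0 H 1 = 0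
  · have h2 : y0 H 0 = 2 * (H.lam 0 : ℤ) := by
      have := y0_succ H 0
      rwa [Fin.succ_zero_eq_one, h1, sub_zero] at this
    have h3 : ∀ i, y0 H i = if i = 0 then y0 H 0 else 0 := fun i => by
      split_ifs with h
      · rw [h]
      · exact le_antisymm (h1 ▸ y0_anti H (Fin.one_le_of_ne_zero h)) (y0_nonneg H i)
    by_cases h4 : y0 H 0 = 2
    · exact Or.inl (funext fun i => by rw [h3, h4, Pi.single_apply])
    have h5 := Wv.sub hX (Ob.refl _) (b := mn 0 1 Fin.zero_lt_one) (by change 0 < y0 H 0 + -y0 H 1; omega)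
    have h6 : ∀ i, (y0 H - (2 : ℤ) • cv (mn (0 : Fin (n + 3)) 1 Fin.zero_lt_one)) i =
        if i.1 = 0 then y0 H 0 - 2 else if i.1 = 1 then 2 else 0 := fun i => by
      rw [cv_mn, Pi.sub_apply, h3]
      simp only [Pi.smul_apply, Pi.sub_apply, Pi.single_apply, Fin.ext_iff, Fin.val_zero, Fin.val_one, smul_eq_mul]
      split_ifs <;> omega
    refine Or.inr (Or.inr ⟨_, gd_of_lt h5 fun v hv b hb => ?_, fun i => ?_, fun i j hij => ?_, ?_, ?_⟩)
    · have h7 := (xv_add_le v b hb).trans hv.sum_le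
      have h8 := H.lam_lt 0
      rw [sum_congr rfl fun i _ => h3 i, sum_ite_eq', if_pos (mem_univ _)] at h7
      omega
    · rw [h6]; split_ifs <;> omega
    · rw [h6, h6]; rw [Fin.le_def] at hij; split_ifs <;> omega
    · rw [h6]; simp
    · rw [h6, h6]; simp; omega
  by_cases h2 : y0 H (Fin.last _) < y0 H 0
  · exact Or.inr (Or.inr ⟨_, gd_y0 hX, y0_nonneg H, y0_anti H, (y0_nonneg H 1).lt_of_ne' h1, h2⟩)
  have h3 : ∀ i, y0 H i = y0 H 0 := fun i =>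
    le_antisymm (y0_anti H (Fin.zero_le i)) ((not_lt.1 h2).trans (y0_anti H (Fin.le_last i)))
  by_cases h4 : y0 H 0 = 1
  · exact Or.inr (Or.inl (funext fun i => (h3 i).trans h4))
  have h5 := Wv.sub hX (Ob.refl _) (b := pl (Fin.last _) (Fin.last _) le_rfl) (by
    change 0 < y0 H (Fin.last _) + y0 H (Fin.last _); omega)
  have h6 : ∀ i, (y0 H - (2 : ℤ) • cv (pl (Fin.last (n + 2)) (Fin.last _) le_rfl)) i =
      if i.1 = n + 2 then y0 H 0 - 2 else y0 H 0 := fun i => by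
    rw [cv_sh, Pi.sub_apply, h3]
    simp only [Pi.smul_apply, Pi.single_apply, Fin.ext_iff, Fin.val_last, smul_eq_mul]
    split_ifs <;> omega
  refine Or.inr (Or.inr ⟨_, gd_of_lt h5 fun v hv b hb => ?_, fun i => ?_, fun i j hij => ?_, ?_, ?_⟩)
  · have h7 := (xv_le v b.1.1).trans (hv.abs_le _)
    have h8 := (xv_le v b.1.2).trans (hv.abs_le _)
    have h9 := H.lam_lt (Fin.last _)
    have := y0_last H
    have := h3 (Fin.last _)
    omega
  · rw [h6]; split_ifs <;> omega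
  · rw [h6, h6]; rw [Fin.le_def] at hij; have := j.2; split_ifs <;> omega
  · rw [h6]; simpa using h0
  · rw [h6, h6]; simp

end three

end Cfsg.Agent.TwoF.DC.TBD.B
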