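import Cfsg.Agent.TwoF.DC.TBD.IfD

/-!
# TwoF, defining characteristic, type D: orbits of vectors (helper78)
-/

set_option autoImplicit false
set_option linter.unusedSectionVars false

namespace Cfsg.Agent.TwoF.DC.TBD.Bg

open Finset Matrix Sum Cfsg.Agent.TwoF.DC.TC

theorem le_choose_mul {r : ℕ} (hr : 2 ≤ r) : ∀ n, r < n → 2 * (n * (n - 1)) ≤ n.choose r * 2 ^ r := by
  induction r, hr using Nat.le_induction with
  | base =>
    intro n _
    have := Nat.choose_two_right n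
    have h2 : 2 ∣ n * (n - 1) := (Nat.even_mul_pred_self n).two_dvd
    omega
  | succ r hr ih =>
    intro n hn
    obtain ⟨n, rfl⟩ : ∃ e, n = e + 3 := ⟨n - 3, by omega⟩
    have h1 := ih (n + 2) (by omega)
    rw [Nat.choose_succ_succ, add_mul, pow_succ]
    rw [show n + 2 - 1 = n + 1 from rfl] at h1
    rw [show n + 3 - 1 = n + 2 from rfl]
    have : 1 ≤ n := by omega
    nlinarith [Nat.zero_le ((n + 2).choose r.succ * (2 ^ r * 2))]

variable {m : ℕ}

/-- `s` entries `± 2`, the others zero -/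
def OS (s : ℕ) (y : Fin m → ℤ) : Prop :=
  (∀ i, y i = 0 ∨ y i = 2 ∨ y i = -2) ∧ (univ.filter fun i => y i ≠ 0).card = s

theorem OS.exists_zero {s : ℕ} {y : Fin m → ℤ} (h : OS s y) (X : Finset (Fin m)) (hX : s < X.card) :
    ∃ j ∈ X, y j = 0 := by
  obtain ⟨j, h1, h2⟩ := exists_mem_notMem_of_card_lt_card (h.2.trans_lt hX)
  exact ⟨j, h1, by simpa using h2⟩

theorem OS.wo {s : ℕ} (hs : s < m) {x y : Fin m → ℤ} (hx : OS s x) (hy : OS s y) : WO x y := by
  obtain ⟨π, hπ⟩ := Equiv.Perm.exists_map_finset_eq _ _ (hy.2.trans hx.2.symm)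
  obtain ⟨j, -, hj⟩ := hx.exists_zero univ (by simpa using hs)
  have h1 : y = sp π (fun i => if y i = x (π i) then 1 else -1) x := funext fun i => by
    have h2 : y i ≠ 0 ↔ x (π i) ≠ 0 := by
      have h3 := mem_map' π.toEmbedding (a := i) (s := univ.filter fun i => y i ≠ 0)
      rw [hπ] at h3
      simpa using h3.symm
    have := hx.1 (π i)
    have := hy.1 i
    rw [sp_apply]
    split_ifs with h
    · rw [Units.val_one, one_mul, h]
    · rw [Units.val_neg, Units.val_one]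
      omega
  rw [h1]
  exact wo_of_zero hj _ _

theorem OS.gV {s : ℕ} {y : Fin m → ℤ} (h : OS s y) : OS s (gV y) := by
  refine ⟨fun i => ?_, ?_⟩
  · have := h.1 i
    simp only [TBD.gV]
    split_ifs <;> omega
  · rw [← h.2]
    congr 1
    refine filter_congr fun i _ => ?_
    simp only [TBD.gV]
    split_ifs <;> omega

theorem gV_inj : Function.Injective (gV (m := m)) := Function.LeftInverse.injective gV_gV

/-- support `T`, minus signs `U` -/
def vc (T U : Finset (Fin m)) : Fin m → ℤ := fun i => if i ∈ U then -2 else if i ∈ T then 2 else 0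

theorem vc_neg {T U : Finset (Fin m)} {i : Fin m} : vc T U i = -2 ↔ i ∈ U := by
  simp only [vc]
  split_ifs with h1 h2 <;> simp [h1]

theorem vc_ne {T U : Finset (Fin m)} (h : U ⊆ T) {i : Fin m} : vc T U i ≠ 0 ↔ i ∈ T := by
  simp only [vc]
  split_ifs with h1 h2
  · simp [h h1]
  · simp [h2]
  · simp [h2]

theorem vc_OS {T U : Finset (Fin m)} (h : U ⊆ T) : OS T.card (vc T U) := by
  refine ⟨fun i => ?_, congrArg card (ext fun i => by rw [mem_filter, vc_ne h]; simp)⟩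
  simp only [vc]
  split_ifs <;> omega

theorem vc_inj {T U T' U' : Finset (Fin m)} (h : U ⊆ T) (h' : U' ⊆ T') (e : vc T U = vc T' U') : T = T' ∧ U = U' :=
  ⟨ext fun i => by rw [← vc_ne h, ← vc_ne h', e], ext fun i => by rw [← vc_neg (T := T), ← vc_neg (T := T'), e]⟩

theorem card_fam (I : Finset (Fin m)) (r c : ℕ) (f : Finset (Fin m) → Finset (Finset (Fin m)))
    (hf : ∀ T, T.card = r → (f T).card = c) : ((powersetCard r I).sigma f).card = I.card.choose r * c := by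
  rw [card_sigma, sum_congr rfl fun T hT => hf T (mem_powersetCard.1 hT).2, sum_const, card_powersetCard, smul_eq_mul]

theorem exO (m s : ℕ) : ∃ A : Finset (Fin m → ℤ), A.card = m.choose s * 2 ^ s ∧ ∀ y ∈ A, OS s y := by
  refine ⟨((powersetCard s univ).sigma powerset).image fun z => vc z.1 z.2, ?_, fun y hy => ?_⟩
  · rw [card_image_of_injOn, card_fam _ _ (2 ^ s) _ fun T hT => by rw [card_powerset, hT], card_univ, Fintype.card_fin]
    rintro ⟨T, U⟩ h ⟨T', U'⟩ h' e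
    obtain ⟨rfl, rfl⟩ := vc_inj (mem_powerset.1 (mem_sigma.1 h).2) (mem_powerset.1 (mem_sigma.1 h').2) e
    rfl
  · obtain ⟨z, hz, rfl⟩ := mem_image.1 hy
    exact (mem_powersetCard.1 (mem_sigma.1 hz).1).2 ▸ vc_OS (mem_powerset.1 (mem_sigma.1 hz).2)

theorem exA (a : Fin m) (r : ℕ) :
    ∃ A : Finset (Fin m → ℤ), A.card = (m - 1).choose r * 2 ^ r ∧ ∀ y ∈ A, OS (r + 1) y ∧ y a = -2 := by
  have h0 : ∀ z ∈ (powersetCard r (univ.erase a)).sigma powerset, z.2 ⊆ z.1 ∧ a ∉ z.1 ∧ z.1.card = r := fun z hz =>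
    ⟨mem_powerset.1 (mem_sigma.1 hz).2, fun e => notMem_erase a _ ((mem_powersetCard.1 (mem_sigma.1 hz).1).1 e),
      (mem_powersetCard.1 (mem_sigma.1 hz).1).2⟩
  refine ⟨((powersetCard r (univ.erase a)).sigma powerset).image fun z => vc (insert a z.1) (insert a z.2), ?_,
    fun y hy => ?_⟩
  · rw [card_image_of_injOn, card_fam _ _ (2 ^ r) _ fun T hT => by rw [card_powerset, hT],
      card_erase_of_mem (mem_univ _), card_univ, Fintype.card_fin]
    rintro ⟨T, U⟩ h ⟨T', U'⟩ h' e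
    obtain ⟨h1, h2, -⟩ := h0 _ h
    obtain ⟨h3, h4, -⟩ := h0 _ h'
    obtain ⟨e1, e2⟩ := vc_inj (insert_subset_insert a h1) (insert_subset_insert a h3) e
    obtain rfl : T = T' := (erase_insert h2).symm.trans ((congrArg (erase · a) e1).trans (erase_insert h4))
    obtain rfl : U = U' := (erase_insert (mt (@h1 a) h2)).symm.trans
      ((congrArg (erase · a) e2).trans (erase_insert (mt (@h3 a) h4)))
    rfl
  · obtain ⟨z, hz, rfl⟩ := mem_image.1 hy
    obtain ⟨h1, h2, h3⟩ := h0 _ hz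
    exact ⟨by rw [← h3, ← card_insert_of_notMem h2]; exact vc_OS (insert_subset_insert a h1),
      vc_neg.2 (mem_insert_self _ _)⟩

theorem exB (X : Finset (Fin m)) (s : ℕ) : ∃ A : Finset (Fin m → ℤ), A.card = X.card.choose s * (2 ^ s - 1) ∧
    ∀ y ∈ A, OS s y ∧ (∀ i ∉ X, y i = 0) ∧ ∃ j ∈ X, y j = -2 := by
  refine ⟨((powersetCard s X).sigma fun T => T.powerset.erase ∅).image fun z => vc z.1 z.2, ?_, fun y hy => ?_⟩
  · rw [card_image_of_injOn, card_fam _ _ (2 ^ s - 1) _ fun T hT => by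
      rw [card_erase_of_mem (empty_mem_powerset _), card_powerset, hT]]
    rintro ⟨T, U⟩ h ⟨T', U'⟩ h' e
    obtain ⟨rfl, rfl⟩ := vc_inj (mem_powerset.1 (mem_of_mem_erase (mem_sigma.1 h).2))
      (mem_powerset.1 (mem_of_mem_erase (mem_sigma.1 h').2)) e
    rfl
  · obtain ⟨z, hz, rfl⟩ := mem_image.1 hy
    obtain ⟨h1, h2⟩ := mem_powersetCard.1 (mem_sigma.1 hz).1
    obtain ⟨h3, h4⟩ := mem_erase.1 (mem_sigma.1 hz).2
    rw [mem_powerset] at h4
    obtain ⟨j, hj⟩ := nonempty_iff_ne_empty.2 h3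
    exact ⟨h2 ▸ vc_OS h4, fun i hi => by_contra fun e => hi (h1 ((vc_ne h4).1 e)), j, h1 (h4 hj), vc_neg.2 hj⟩

/-- vectors with a negative pairing with some `ε_a + ε_j`, `j ∈ X` -/
theorem exN (a : Fin m) (X : Finset (Fin m)) (ha : a ∉ X) (r : ℕ) (hr : r < X.card) : ∃ A : Finset (Fin m → ℤ),
    A.card = (m - 1).choose r * 2 ^ r + X.card.choose (r + 1) * (2 ^ (r + 1) - 1) ∧
      ∀ y ∈ A, OS (r + 1) y ∧ ∃ j ∈ X, y a + y j < 0 := by
  obtain ⟨A, a1, a2⟩ := exA a r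
  obtain ⟨B, b1, b2⟩ := exB X (r + 1)
  refine ⟨A ∪ B, ?_, fun y hy => ?_⟩
  · rw [card_union_of_disjoint (disjoint_left.2 fun y h1 h2 => ?_), a1, b1]
    have := (a2 y h1).2
    have := (b2 y h2).2.1 a ha
    omega
  · rcases mem_union.1 hy with h | h
    · obtain ⟨h1, h2⟩ := a2 y h
      obtain ⟨j, h3, h4⟩ := h1.exists_zero (insert a X) (by rw [card_insert_of_notMem ha]; omega)
      exact ⟨h1, j, (mem_insert.1 h3).resolve_left fun e => by rw [e] at h4; omega, by omega⟩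
    · obtain ⟨h1, h2, j, h3, h4⟩ := b2 y h
      have := h2 a ha
      exact ⟨h1, j, h3, by omega⟩

theorem full_le {r : ℕ} (h4 : 4 ≤ m) (h1 : 1 ≤ r) (h2 : r + 1 < m) :
    m * (m - 1) + 3 ≤ (m - 1).choose r * 2 ^ r + (m - 1).choose (r + 1) * (2 ^ (r + 1) - 1) := by
  obtain ⟨n, rfl⟩ : ∃ n, m = n + 4 := ⟨m - 4, by omega⟩
  rw [show n + 4 - 1 = n + 3 from rfl]
  rcases h1.eq_or_lt with rfl | h1
  · have h3 := Nat.choose_two_right (n + 3)
    have h5 : 2 ∣ (n + 3) * (n + 3 - 1) := (Nat.even_mul_pred_self _).two_dvd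
    rw [show n + 3 - 1 = n + 2 from rfl] at h3 h5
    have h6 : 2 * (n + 3).choose 2 = (n + 3) * (n + 2) := by omega
    rw [Nat.choose_one_right, show (2 : ℕ) ^ (1 + 1) - 1 = 3 from rfl, show 1 + 1 = 2 from rfl]
    nlinarith
  · have h3 := le_choose_mul h1 (n + 3) (by omega)
    have h5 : 1 ≤ (n + 3).choose (r + 1) := Nat.choose_pos (by omega)
    have h6 : 2 ^ 3 ≤ 2 ^ (r + 1) := Nat.pow_le_pow_right two_pos (by omega)
    have h7 : 1 * 7 ≤ (n + 3).choose (r + 1) * (2 ^ (r + 1) - 1) := Nat.mul_le_mul h5 (by omega)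
    rw [show n + 3 - 1 = n + 2 from rfl] at h3
    nlinarith

variable [hm : Fact (2 ≤ m)]

theorem wo_gV {x y : Fin m → ℤ} (h : WO x y) : WO (gV x) (gV y) := by
  obtain ⟨π, ε, h1, rfl⟩ := h
  let δ : Fin m → ℤˣ := Pi.mulSingle (lst m) (-1)
  have h2 : ∀ z, gV z = sp 1 δ z := fun z => funext fun i => by
    have := i.2
    have := hm.out
    simp only [gV, sp_apply, δ, Pi.mulSingle_apply, Fin.ext_iff, lst_val, Equiv.Perm.one_apply]
    split_ifs <;> first | omega | simp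
  refine ⟨π, δ * ε * δ ∘ π, ?_, funext fun i => ?_⟩
  · simp only [Pi.mul_apply, prod_mul_distrib, h1, mul_one, Function.comp_apply]
    rw [Equiv.prod_comp π δ, Int.units_mul_self]
  · rw [h2, h2]
    simp only [sp_apply, Pi.mul_apply, Function.comp_apply, Units.val_mul, Equiv.Perm.one_apply, mul_assoc,
      Int.units_coe_mul_self, ← mul_assoc (δ (π i) : ℤ), one_mul]

/-- the vector `(3, 1, .., 1)` -/
def x3 (m : ℕ) [Fact (2 ≤ m)] : Fin m → ℤ := fun i => if i = fst m then 3 else 1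

/-- the entry `± 3` at `a`, minus signs `U` outside the last place -/
def vb (a : Fin m) (U : Finset (Fin m)) : Fin m → ℤ :=
  sp (Equiv.swap (fst m) a) ((fun i => if i ∈ U then -1 else 1) *
    Pi.mulSingle (lst m) (∏ i, if i ∈ U then -1 else 1)) (x3 m)

theorem vb_wo (a : Fin m) (U : Finset (Fin m)) : WO (x3 m) (vb a U) :=
  ⟨_, _, by simp only [Pi.mul_apply, prod_mul_distrib, prod_pi_mulSingle', mem_univ, if_true, Int.units_mul_self], rfl⟩

theorem vb_apply (a : Fin m) (U : Finset (Fin m)) {i : Fin m} (h : i ≠ lst m) :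
    vb a U i = if i ∈ U then (if i = a then -3 else -1) else if i = a then 3 else 1 := by
  have h1 : Equiv.swap (fst m) a i = fst m ↔ i = a := by rw [Equiv.swap_apply_eq_iff, Equiv.swap_apply_left]
  simp only [vb, sp_apply, Pi.mul_apply, Pi.mulSingle_eq_of_ne h, mul_one, x3, h1]
  split_ifs <;> simp

theorem vb_inj {a a' : Fin m} {U U' : Finset (Fin m)} (h : lst m ∉ U) (h' : lst m ∉ U') (e : vb a U = vb a' U') :
    a = a' ∧ U = U' := by
  have h1 : ∀ i ≠ lst m, (i = a ↔ i = a') ∧ (i ∈ U ↔ i ∈ U') := fun i hi => by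
    have h2 := congrFun e i
    rw [vb_apply _ _ hi, vb_apply _ _ hi] at h2
    split_ifs at h2 <;> first | omega | tauto
  refine ⟨?_, ext fun i => ?_⟩
  · by_cases h2 : a = lst m
    · by_cases h3 : a' = lst m
      · rw [h2, h3]
      · exact ((h1 a' h3).1.2 rfl).symm
    · exact (h1 a h2).1.1 rfl
  · by_cases h2 : i = lst m
    · rw [h2]
      exact iff_of_false h h'
    · exact (h1 i h2).2

theorem exO3 (m : ℕ) [Fact (2 ≤ m)] : ∃ A : Finset (Fin m → ℤ), A.card = m * 2 ^ (m - 1) ∧ ∀ y ∈ A, WO (x3 m) y := by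
  refine ⟨(univ ×ˢ (univ.erase (lst m)).powerset).image fun z => vb z.1 z.2, ?_, fun y hy => ?_⟩
  · rw [card_image_of_injOn, card_product, card_powerset, card_erase_of_mem (mem_univ _), card_univ, Fintype.card_fin]
    rintro ⟨a, U⟩ h ⟨a', U'⟩ h' e
    obtain ⟨rfl, rfl⟩ := vb_inj (fun e => notMem_erase _ _ (mem_powerset.1 (mem_product.1 h).2 e))
      (fun e => notMem_erase _ _ (mem_powerset.1 (mem_product.1 h').2 e)) e
    rfl
  · obtain ⟨z, -, rfl⟩ := mem_image.1 hy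
    exact vb_wo _ _

theorem fst_ne_lst : fst m ≠ lst m := fun e => by
  have := hm.out
  have h := congrArg Fin.val e
  rw [lst_val, show (fst m).1 = 0 from rfl] at h
  omega

theorem exN3 (h3 : 3 ≤ m) : ∃ A : Finset (Fin m → ℤ), A.card = m * (2 ^ (m - 2) - 1) + 1 ∧
    ∀ y ∈ A, WO (x3 m) y ∧ ∃ j, j ≠ fst m ∧ j ≠ lst m ∧ y (fst m) + y j < 0 := by
  obtain ⟨I, hI⟩ : ∃ I, I = (univ.erase (lst m)).erase (fst m) := ⟨_, rfl⟩
  have h0 : ∀ j, j ∈ I ↔ j ≠ fst m ∧ j ≠ lst m := fun j => by simp [hI]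
  have h1 : I.card = m - 2 := by
    rw [hI, card_erase_of_mem (mem_erase.2 ⟨fst_ne_lst, mem_univ _⟩), card_erase_of_mem (mem_univ _), card_univ,
      Fintype.card_fin]
    rfl
  have h2 : ∀ z ∈ insert (fst m, ∅) (univ ×ˢ I.powerset.erase ∅), z.2 ⊆ I ∧ (z.1 = fst m ∨ z.2.Nonempty) :=
    fun z hz => by
      rcases mem_insert.1 hz with rfl | hz
      · exact ⟨empty_subset _, Or.inl rfl⟩
      · obtain ⟨h4, h5⟩ := mem_erase.1 (mem_product.1 hz).2
        exact ⟨mem_powerset.1 h5, Or.inr (nonempty_iff_ne_empty.2 h4)⟩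
  refine ⟨(insert (fst m, ∅) (univ ×ˢ I.powerset.erase ∅)).image fun z => vb z.1 (insert (fst m) z.2), ?_,
    fun y hy => ?_⟩
  · rw [card_image_of_injOn, card_insert_of_notMem fun e => notMem_erase _ _ (mem_product.1 e).2, card_product,
      card_erase_of_mem (empty_mem_powerset _), card_powerset, h1, card_univ, Fintype.card_fin]
    rintro ⟨a, U⟩ h ⟨a', U'⟩ h' e
    have h4 : ∀ W ⊆ I, lst m ∉ insert (fst m) W := fun W hW e =>
      (mem_insert.1 e).elim fst_ne_lst.symm fun e => ((h0 _).1 (hW e)).2 rfl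
    obtain ⟨rfl, e1⟩ := vb_inj (h4 _ (h2 _ h).1) (h4 _ (h2 _ h').1) e
    obtain rfl : U = U' := (erase_insert fun e => ((h0 _).1 ((h2 _ h).1 e)).1 rfl).symm.trans
      ((congrArg (erase · (fst m)) e1).trans (erase_insert fun e => ((h0 _).1 ((h2 _ h').1 e)).1 rfl))
    rfl
  · obtain ⟨⟨a, U⟩, hz, rfl⟩ := mem_image.1 hy
    obtain ⟨h4, h5⟩ := h2 _ hz
    refine ⟨vb_wo _ _, ?_⟩
    rcases h5 with h5 | ⟨j, hj⟩
    · obtain ⟨j, hj⟩ := card_pos.1 (show 0 < I.card by omega)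
      obtain ⟨h6, h7⟩ := (h0 j).1 hj
      refine ⟨j, h6, h7, ?_⟩
      rw [h5, vb_apply _ _ fst_ne_lst, vb_apply _ _ h7, if_pos (mem_insert_self _ _), if_pos rfl]
      simp only [if_neg h6]
      split_ifs <;> omega
    · obtain ⟨h6, h7⟩ := (h0 j).1 (h4 hj)
      refine ⟨j, h6, h7, ?_⟩
      rw [vb_apply _ _ fst_ne_lst, vb_apply _ _ h7, if_pos (mem_insert_self _ _), if_pos (mem_insert_of_mem hj)]
      split_ifs <;> omega

/-! ### ideals -/

theorem up {p : ℕ} (hp : p ≠ 1) {S : Finset (PD m)} (hI : (eD m).rc.Idl p S) {a b : PD m} {x x' y : II m} (hb : b ∈ S)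
    (h1 : IsD b x y) (h2 : IsD a x' y) (h3 : ps x' < ps x) (h4 : x' ≠ x.swap) : a ∈ S := by
  have := ps_swap x
  obtain ⟨β, hβ⟩ := exists_isD h4 (by omega)
  exact idlD hp hI β hb (by rw [h1.rd, h2.rd, hβ.rd, wv_swap]; abel)

theorem top_row {p : ℕ} (hp : p ≠ 1) {S : Finset (PD m)} (hI : (eD m).rc.Idl p S) {b : PD m} (hb : b ∈ S) :
    ∃ a ∈ S, IsD a (inl (fst m)) b.1.2 := by
  have h1 := b.2
  by_cases h : ps b.1.1 = 0
  · exact ⟨b, hb, (show inl (fst m) = b.1.1 from ps_inj h.symm) ▸ IsD.self b⟩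
  · obtain ⟨a, ha⟩ := exists_isD (x := inl (fst m)) (y := b.1.2) (by rw [Ne, ps_eq]; show 0 ≠ _; omega)
      (by show 0 + _ + 1 < _; omega)
    exact ⟨a, up hp hI hb (IsD.self b) ha (by show 0 < _; omega) (by rw [Ne, eq_swap_iff]; show 0 + _ + 1 ≠ _; omega),
      ha⟩

theorem row_le {p : ℕ} (hp : p ≠ 1) {S : Finset (PD m)} (hI : (eD m).rc.Idl p S) {a : PD m} (ha : a ∈ S) {y : II m}
    (h1 : IsD a (inl (fst m)) y) (j : Fin m) (h : fst m < j) (h2 : j.1 ≤ ps y) (h3 : j.1 + ps y + 1 ≠ 2 * m) :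
    dp (fst m) j h ∈ S := by
  rcases h2.eq_or_lt with h2 | h2
  · rw [show y = inl j from ps_inj h2.symm] at h1
    exact IsD.uniq h1 (IsD.self (dp (fst m) j h)) ▸ ha
  · exact up hp hI ha h1.symm (IsD.self (dp (fst m) j h)).symm h2 (by rw [Ne, eq_swap_iff]; exact h3)

/-- an ideal which is not full -/
theorem shape {p : ℕ} (hp : p ≠ 1) {S : Finset (PD m)} (hI : (eD m).rc.Idl p S) (hF : ¬ FullS S) :
    ∃ u, u + 2 ≤ m ∧ (∀ j (h : fst m < j), j.1 ≤ u → dp (fst m) j h ∈ S) ∧ 2 * S.card ≤ (u + 1) * u := by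
  have h0 := hm.out
  have hl : fst m < lst m := Fin.lt_def.2 (by rw [lst_val]; show 0 < _; omega)
  have h1 : ∀ b ∈ S, ps b.1.2 + 2 ≤ m := fun b hb => by
    by_contra h
    obtain ⟨a, ha, h2⟩ := top_row hp hI hb
    by_cases h3 : ps b.1.2 = m
    · rw [show b.1.2 = inr (lst m) from ps_inj (by rw [h3, ps_inr, lst_val]; omega)] at h2
      refine hF ⟨fun j hj h4 => row_le hp hI ha h2 j hj ?_ ?_, hl,
        Or.inr (IsD.uniq h2 (IsD.self (dm (fst m) (lst m) hl)) ▸ ha)⟩ <;> rw [ps_inr, lst_val] <;> omega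
    · have h4 := row_le hp hI ha h2 (lst m) hl (by rw [lst_val]; omega) (by rw [lst_val]; omega)
      refine hF ⟨fun j hj h5 => row_le hp hI h4 (IsD.self _) j hj ?_ ?_, hl, Or.inl h4⟩ <;>
        rw [show ps (dp (fst m) (lst m) hl).1.2 = m - 1 from rfl] <;> omega
  rcases S.eq_empty_or_nonempty with rfl | hS
  · exact ⟨0, by omega, fun j h h2 => absurd (Fin.lt_def.1 h) (by show ¬ 0 < _; omega), by simp⟩
  obtain ⟨b, hb, h2⟩ := exists_max_image S (fun b => ps b.1.2) hS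
  obtain ⟨a, ha, h3⟩ := top_row hp hI hb
  have h4 := h1 b hb
  refine ⟨ps b.1.2, h4, fun j h h5 => row_le hp hI ha h3 j h h5 (by omega), ?_⟩
  have h5 := card_le_card_of_injOn (s := S) (t := (range (ps b.1.2 + 1)).sigma range)
    (fun c => (⟨ps c.1.2, ps c.1.1⟩ : Σ _ : ℕ, ℕ))
    (fun c hc => mem_coe.2 (mem_sigma.2 ⟨mem_range.2 (Nat.lt_succ_of_le (h2 c hc)), mem_range.2 c.2.1⟩))
    fun c _ d _ e => PD.ext' (eq_of_heq (Sigma.mk.inj e).2) (Sigma.mk.inj e).1
  have h6 := sum_range_id_mul_two (ps b.1.2 + 1)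
  simp only [card_sigma, card_range] at h5
  rw [Nat.add_sub_cancel] at h6
  omega

end Cfsg.Agent.TwoF.DC.TBD.Bg
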