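import Cfsg.Agent.TwoF.DC.TBD.IfD

/-!
# TwoF, defining characteristic, type D, `boxCT` (1): abelian ideals of roots (helper33)

`In S p q` : the root with the positions `p`, `q` lies in `S`; `NN S` : all inner products are nonnegative;
`Nd l a` : `Me a` is the radical for the node `l`; `CC S` : `S` contains `ε_1 ± ε_m`.
-/

set_option autoImplicit false
set_option linter.unusedSectionVars false

namespace Cfsg.Agent.TwoF.DC.TBD.CT

open Finset Matrix Sum Cfsg.Agent.TwoF.DC.TC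

variable {m : ℕ}

/-- the root with the positions `p`, `q` lies in `S` -/
def In (S : Finset (PD m)) (p q : ℕ) : Prop := ∃ b ∈ S, ps b.1.1 = p ∧ ps b.1.2 = q

theorem in_self {S : Finset (PD m)} {b : PD m} (hb : b ∈ S) : In S (ps b.1.1) (ps b.1.2) := ⟨b, hb, rfl, rfl⟩

theorem In.mem {S : Finset (PD m)} {b : PD m} (h : In S (ps b.1.1) (ps b.1.2)) : b ∈ S := by
  obtain ⟨c, hc, h1, h2⟩ := h
  rwa [← PD.ext' h1 h2]

theorem In.lt {S : Finset (PD m)} {p q : ℕ} (h : In S p q) : p < q ∧ p + q + 1 < 2 * m := by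
  obtain ⟨b, -, rfl, rfl⟩ := h
  exact b.2

theorem exists_ps {q : ℕ} (h : q < 2 * m) : ∃ x : II m, ps x = q :=
  if h' : q < m then ⟨inl ⟨q, h'⟩, rfl⟩ else ⟨inr ⟨2 * m - 1 - q, by omega⟩, by simp only [ps]; omega⟩

theorem in_of_isD {S : Finset (PD m)} {c : PD m} (hc : c ∈ S) {x y : II m} (h : IsD c x y) (hxy : ps x < ps y) :
    In S (ps x) (ps y) := by
  have := c.2.1
  rcases h with h | h
  · exact ⟨c, hc, by rw [h], by rw [h]⟩
  · rw [h] at this
    simp only at this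
    omega

theorem exists_in {p q : ℕ} (h : p < q) (h' : p + q + 1 < 2 * m) : ∃ b : PD m, ps b.1.1 = p ∧ ps b.1.2 = q := by
  obtain ⟨x, rfl⟩ := exists_ps (m := m) (q := p) (by omega)
  obtain ⟨y, rfl⟩ := exists_ps (m := m) (q := q) (by omega)
  exact ⟨⟨(x, y), h, h'⟩, rfl, rfl⟩

theorem rd_rd (a b : PD m) : rd a ⬝ᵥ rd b =
    xv (wv b.1.1) a.1.1 + xv (wv b.1.2) a.1.1 + (xv (wv b.1.1) a.1.2 + xv (wv b.1.2) a.1.2) := by
  rw [rd_dot, rd, xv_add, xv_add]

/-- all inner products are nonnegative -/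
def NN (S : Finset (PD m)) : Prop := ∀ a ∈ S, ∀ b ∈ S, 0 ≤ rd a ⬝ᵥ rd b

theorem NN.mono {S S' : Finset (PD m)} (h : NN S) (h' : S' ⊆ S) : NN S' := fun a ha b hb => h a (h' ha) b (h' hb)

theorem mem_Me {a : II m} {b : PD m} : b ∈ Me a ↔ ps b.1.2 + 1 < m ∨ ps b.1.2 = ps a := by simp [Me, ps_eq]
theorem mem_On {b : PD m} : b ∈ On m ↔ ps b.1.2 + 1 < m := by simp [On]
theorem mem_M1 {b : PD m} : b ∈ M1 m ↔ ps b.1.1 = 0 := by simp [M1]
theorem On_sub (a : II m) : On m ⊆ Me a := fun _ h => mem_Me.2 (Or.inl (mem_On.1 h))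

/-- `Me a` is the radical for the node `l` -/
def Nd (l : Fin m) (a : II m) : Prop := (l.1 + 1 = m ∧ ps a + 1 = m) ∨ (l.1 + 2 = m ∧ ps a = m)

theorem nn_Me {l : Fin m} {a : II m} (h : Nd l a) : NN (Me a) := fun b hb c hc => by
  have := b.2
  have := c.2
  rw [mem_Me] at hb hc
  rw [rd_rd]
  simp only [xv_wv']
  unfold Nd at h
  split_ifs <;> omega

theorem nn_M1 : NN (M1 m) := fun b hb c hc => by
  have := b.2
  have := c.2
  rw [mem_M1] at hb hc
  rw [rd_rd]
  simp only [xv_wv']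
  split_ifs <;> omega

theorem gP_On {b : PD m} (h : b ∈ On m) : gP m b ∈ On m := by
  rw [mem_On] at h ⊢
  rw [gP_val, ps_gI]
  split_ifs <;> omega

theorem gP_M1 {b : PD m} (h : b ∈ M1 m) : gP m b ∈ M1 m := by
  have := b.lt
  rw [mem_M1] at h ⊢
  rw [gP_val, ps_gI]
  split_ifs <;> omega

theorem card_Ix_On : (Ix (On m)).card ≤ m - 1 := by
  rw [← card_range (m - 1)]
  refine card_le_card_of_injOn ps (fun x hx => ?_) fun _ _ _ _ => ps_inj
  obtain ⟨b, hb, h⟩ := mem_biUnion.1 (mem_coe.1 hx)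
  have h1 := mem_On.1 hb
  have h2 := b.2.1
  rw [mem_coe, mem_range]
  rcases mem_insert.1 h with rfl | h
  · omega
  · rw [mem_singleton.1 h]; omega

theorem card_M1 : 6 ≤ (M1 4).card := by decide

section rad

variable {ι Φ : Type} [Fintype ι] [DecidableEq ι] [DecidableEq Φ] {R : RC ι Φ} {M : Finset Φ} {l : ι}
  (h : ∀ b, b ∈ M ↔ 0 < R.cf b l)
include h

theorem rad_up : R.Up M := fun b hb β a n e => (h a).2 (by have := (h b).1 hb; rw [e, Pi.add_apply]; omega)

theorem rad_s {j : ι} (hj : j ≠ l) : R.zi j ∉ M ∧ ∀ b ∈ M, R.s j b ∈ M := by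
  have h1 : R.zi j ∉ M := fun e => by
    have h2 := (h _).1 e
    rw [R.cf_zi, Pi.single_eq_of_ne hj.symm] at h2
    omega
  refine ⟨h1, fun b hb => (h _).2 ?_⟩
  have h2 := R.cf_s j b (fun e => h1 (e ▸ hb)) l
  have h3 := (h b).1 hb
  rw [if_neg hj.symm] at h2
  omega

end rad

variable [hm : Fact (2 ≤ m)]

theorem cf_Me {l : Fin m} {a : II m} (h : Nd l a) (b : PD m) : b ∈ Me a ↔ 0 < (eD m).rc.cf b l := by
  have h1 := cfD_eq b l
  have := b.2
  rw [rd_dot, xv_fw, xv_fw] at h1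
  rw [mem_Me]
  show _ ↔ 0 < cfD b l
  unfold Nd at h
  split_ifs at h1 <;> omega

theorem ab_of_nn {p : ℕ} (hp : p ≠ 1) {S : Finset (PD m)} (h : NN S) : (eD m).rc.Ab p S := by
  refine (abD hp).2 fun b hb b' hb' x y h0 h1 e => ?_
  have h2 : (rd b + rd b') ⬝ᵥ (rd b + rd b') = (wv x + wv y) ⬝ᵥ (wv x + wv y) := by rw [e]
  have h3 := h b hb b' hb'
  have h4 := h b' hb' b hb
  rw [add_dotProduct, dotProduct_add, dotProduct_add, rd_two, rd_two, add_dotProduct, wv_dot, wv_dot, xv_add, xv_add,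
    xv_wv_self, xv_wv_self, xv_wv, xv_wv] at h2
  split_ifs at h2 <;> first | omega | contradiction

theorem comm_of_nn {p : ℕ} {k G : Type} [Field k] [Group G] (D : RDat p (Fin m) (PD m) k G) (hR : D.R = (eD m).rc)
    {S : Finset (PD m)} (h : NN S) : ∀ b ∈ S, ∀ b' ∈ S, ∀ s t, Commute (D.z b s) (D.z b' t) := by
  refine fun b hb b' hb' => commute_of_cf D fun a u v hu hv e => ?_
  rw [hR] at e
  have h1 : rd a = (u : ℤ) • rd b + (v : ℤ) • rd b' := (eD m).cf_add_iff.1 e
  have h2 := rd_two a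
  have h3 := h b hb b' hb'
  have h4 := h b' hb' b hb
  rw [h1] at h2
  simp only [add_dotProduct, dotProduct_add, smul_dotProduct, dotProduct_smul, rd_two, smul_eq_mul] at h2
  have h5 : (1 : ℤ) ≤ u := by omega
  have h6 : (1 : ℤ) ≤ v := by omega
  nlinarith [mul_nonneg (mul_nonneg (zero_le_one.trans h5) (zero_le_one.trans h6)) (add_nonneg h3 h4)]

section step

theorem in_step {S : Finset (PD m)} {j : Fin m} (hs : ∀ b ∈ S, sD j b ∈ S) {p q p' q' : ℕ} (h : In S p q)
    (h1 : p' = if p = min j.1 (m - 2) then j.1 + 1 else if p = j.1 + 1 then min j.1 (m - 2)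
      else if p = 2 * m - 1 - min j.1 (m - 2) then 2 * m - 2 - j else if p = 2 * m - 2 - j then 2 * m - 1 - min j.1 (m - 2)
      else p)
    (h2 : q' = if q = min j.1 (m - 2) then j.1 + 1 else if q = j.1 + 1 then min j.1 (m - 2)
      else if q = 2 * m - 1 - min j.1 (m - 2) then 2 * m - 2 - j else if q = 2 * m - 2 - j then 2 * m - 1 - min j.1 (m - 2)
      else q) (h3 : p' < q') (h4 : p' + q' + 1 < 2 * m) : In S p' q' := by
  obtain ⟨b, hb, rfl, rfl⟩ := h
  have h5 : 2 * m - 1 - (2 * m - 2 - j) = j + 1 := by have := j.2; omega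
  have h6 := ps_rf2 (na j) (nb j) b.1.1
  have h7 := ps_rf2 (na j) (nb j) b.1.2
  rw [ps_na, ps_nb, h5] at h6 h7
  rw [← h1] at h6
  rw [← h2] at h7
  have h8 := hs b hb
  rw [sD, mkD, dif_pos (by omega)] at h8
  exact ⟨_, h8, h6, h7⟩

end step

variable {p : ℕ} (hp : p ≠ 1) {S : Finset (PD m)}
include hp

section idl

variable (hI : (eD m).rc.Idl p S)
include hI

theorem idl_isD {b : PD m} (hb : b ∈ S) {x y x' : II m} (h : IsD b x y) (h1 : ps x' < ps x)
    (h2 : ps x' + ps x + 1 ≠ 2 * m) (h3 : ps x' ≠ ps y) : ∃ c ∈ S, IsD c x' y := by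
  have h4 := ps_swap x
  have h5 := h.lt
  obtain ⟨β, hβ⟩ := exists_isD (x := x') (y := x.swap) (mt eq_swap_iff.1 h2) (by omega)
  obtain ⟨c, hc⟩ := exists_isD (x := x') (y := y) (mt ps_eq.1 h3) (by omega)
  exact ⟨c, idlD hp hI β hb (by rw [hc.rd, hβ.rd, h.rd, wv_swap]; abel), hc⟩

theorem idl_one {i j i' : ℕ} (h : In S i j) (h1 : i' ≤ i) : In S i' j := by
  rcases h1.eq_or_lt with rfl | h1
  · exact h
  have h2 := h.lt
  obtain ⟨b, hb, rfl, rfl⟩ := h
  obtain ⟨x, rfl⟩ := exists_ps (m := m) (q := i') (by omega)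
  obtain ⟨c, hc, h3⟩ := idl_isD hp hI hb (IsD.self b) h1 (by omega) (by omega)
  exact in_of_isD hc h3 (by omega)

theorem idl_two {i j j' : ℕ} (h : In S i j) (h0 : i < j') (h1 : j' < j) (h2 : j' + j + 1 ≠ 2 * m) : In S i j' := by
  have h3 := h.lt
  obtain ⟨b, hb, rfl, rfl⟩ := h
  obtain ⟨x, rfl⟩ := exists_ps (m := m) (q := j') (by omega)
  obtain ⟨c, hc, h4⟩ := idl_isD hp hI hb (IsD.self b).symm h1 h2 (by omega)
  exact in_of_isD hc h4.symm h0

/-- the ideal property in positions -/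
theorem idl_in {i j i' j' : ℕ} (h : In S i j) (h1 : i' ≤ i) (h2 : j' ≤ j) (h3 : i' < j') (h4 : ¬ (j = m ∧ j' + 1 = m)) :
    In S i' j' := by
  have h5 := idl_one hp hI h h1
  have h6 := h.lt
  rcases h2.eq_or_lt with rfl | h2
  · exact h5
  by_cases h7 : j' + j + 1 = 2 * m
  · exact idl_two hp hI (idl_two hp hI h5 (j' := m) (by omega) (by omega) (by omega)) h3 (by omega) (by omega)
  · exact idl_two hp hI h5 h3 h2 h7

theorem eq_Me {l : Fin m} {a : II m} (h : Nd l a) (h4 : 4 ≤ m) (hS : S ⊆ Me a) (hne : S.Nonempty)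
    (hs : ∀ j, j ≠ l → ∀ b ∈ S, sD j b ∈ S) : S = Me a := by
  unfold Nd at h
  obtain ⟨b, hb⟩ := hne
  have h0 := b.2
  have h1 : ∀ q, q + 2 < m → In S 0 (q + 1) := fun q => by
    induction q with
    | zero => exact fun _ => idl_in hp hI (in_self hb) (by omega) (by omega) (by omega) (by omega)
    | succ q ih =>
      exact fun hq => in_step (hs ⟨q + 1, by omega⟩ (Fin.ne_of_val_ne (by simp only; omega))) (ih (by omega))
        (by simp only; split_ifs <;> first | omega | contradiction)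
        (by simp only; split_ifs <;> omega) (by omega) (by omega)
  have h2 : ∀ i, i + 1 < m → In S i (ps a) := fun i => by
    induction i with
    | zero =>
      exact fun _ => in_step (hs ⟨ps a - 1, by omega⟩ (Fin.ne_of_val_ne (by simp only; omega))) (h1 (m - 3) (by omega))
        (by simp only; split_ifs <;> first | omega | contradiction)
        (by simp only; split_ifs <;> omega) (by omega) (by omega)
    | succ i ih =>
      exact fun hi => in_step (hs ⟨i, by omega⟩ (Fin.ne_of_val_ne (by simp only; omega))) (ih (by omega))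
        (by simp only; split_ifs <;> omega)
        (by simp only; split_ifs <;> omega) (by omega) (by omega)
  refine hS.antisymm fun c hc => In.mem ?_
  have h3 := c.lt
  have h5 := c.2.1
  rw [mem_Me] at hc
  exact idl_in hp hI (h2 (m - 2) (by omega)) (by omega) (by omega) h5 (by omega)

end idl

section ab

variable (hA : (eD m).rc.Ab p S)
include hA

theorem ab_one {i j i' j' : ℕ} (h : In S i j) (h' : In S i' j') (e : j + j' + 1 = 2 * m) : i = i' := by
  have h1 := h.lt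
  have h2 := h'.lt
  obtain ⟨b, hb, rfl, rfl⟩ := h
  obtain ⟨c, hc, rfl, rfl⟩ := h'
  by_contra h0
  refine (abD hp).1 hA b hb c hc b.1.1 c.1.1 (mt ps_eq.1 h0) (by rw [Ne, eq_swap_iff]; omega) ?_
  rw [rd, rd, eq_swap_iff.2 e, wv_swap]
  abel

theorem ab_two {i j i' j' : ℕ} (h : In S i j) (h' : In S i' j') : i + j' + 1 ≠ 2 * m := fun e => by
  have h1 := h.lt
  have h2 := h'.lt
  obtain ⟨b, hb, rfl, rfl⟩ := h
  obtain ⟨c, hc, rfl, rfl⟩ := h'
  refine (abD hp).1 hA b hb c hc c.1.1 b.1.2 (by rw [Ne, ps_eq]; omega) (by rw [Ne, eq_swap_iff]; omega) ?_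
  rw [rd, rd, eq_swap_iff.2 e, wv_swap]
  abel

theorem nn_of_ab : NN S := fun b hb c hc => by
  have h1 := b.2
  have h2 := c.2
  have h3 := ab_one hp hA (in_self hb) (in_self hc)
  have h4 := ab_two hp hA (in_self hb) (in_self hc)
  have h5 := ab_two hp hA (in_self hc) (in_self hb)
  rw [rd_rd]
  simp only [xv_wv']
  split_ifs <;> omega

end ab

omit hp in
theorem full_of {q : ℕ} (h : ∀ j, 0 < j → j + 1 < m → In S 0 j) (hq : q + 1 = m ∨ q = m) (h' : In S 0 q) : FullS S := by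
  have h0 := hm.out
  have h1 : fst m < lst m := Fin.lt_def.2 (show 0 < m - 1 by omega)
  refine ⟨fun j hj hj' => In.mem (h j hj hj'), h1, hq.imp (fun e => In.mem ?_) fun e => In.mem ?_⟩
  · rwa [show q = m - 1 by omega] at h'
  · rwa [show q = 2 * m - 1 - (m - 1) by omega] at h'

omit hp in
theorem in_Me {l : Fin m} {a : II m} (h : Nd l a) {i j : ℕ} (h1 : i < j) (h2 : i + 1 < m)
    (h3 : j + 1 < m ∨ j = ps a) : In (Me a) i j := by
  unfold Nd at h
  obtain ⟨b, rfl, rfl⟩ := exists_in (m := m) h1 (by omega)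
  exact in_self (mem_Me.2 h3)

omit hp in
theorem full_Me {l : Fin m} {a : II m} (h : Nd l a) : FullS (Me a) := by
  have h0 := hm.out
  have h1 := h
  unfold Nd at h1
  exact full_of (fun j hj hj' => in_Me h hj (by omega) (Or.inl hj')) (by omega)
    (in_Me h (by omega) (by omega) (Or.inr rfl))

/-- `S` contains `ε_1 + ε_m` and `ε_1 - ε_m` -/
def CC (S : Finset (PD m)) : Prop := In S 0 (m - 1) ∧ In S 0 m

theorem cc_or (hI : (eD m).rc.Idl p S) : (∃ l a, Nd l a ∧ S ⊆ Me a) ∨ CC S := by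
  have h0 := hm.out
  have e1 : ps (inl (lst m) : II m) = m - 1 := rfl
  have e2 : ps (inr (lst m) : II m) = 2 * m - 1 - (m - 1) := rfl
  by_cases h1 : S ⊆ Me (inl (lst m))
  · exact Or.inl ⟨lst m, _, Or.inl ⟨by rw [lst_val]; omega, by omega⟩, h1⟩
  by_cases h2 : S ⊆ Me (inr (lst m))
  · exact Or.inl ⟨pen m, _, Or.inr ⟨by rw [pen_val]; omega, by omega⟩, h2⟩
  obtain ⟨b, hb, h3⟩ := not_subset.1 h1
  obtain ⟨c, hc, h4⟩ := not_subset.1 h2
  rw [mem_Me] at h3 h4
  exact Or.inr ⟨idl_in hp hI (in_self hc) (by omega) (by omega) (by omega) (by omega),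
    idl_in hp hI (in_self hb) (by omega) (by omega) (by omega) (by omega)⟩

variable (hA : (eD m).rc.Ab p S) (hI : (eD m).rc.Idl p S) (hC : CC S)
include hI hC

theorem cc_full : FullS S := by
  have h0 := hm.out
  exact full_of (fun j hj hj' => idl_in hp hI hC.1 le_rfl (by omega) hj (by omega)) (Or.inr rfl) hC.2

include hA

theorem cc_zero {i j : ℕ} (h : In S i j) (hj : m ≤ j + 1) : i = 0 := by
  have h1 := h.lt
  by_cases e : j + 1 = m
  · exact ab_one hp hA h hC.2 (by omega)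
  · exact ab_one hp hA (idl_in hp hI h le_rfl (j' := m) (by omega) (by omega) (by omega)) hC.1 (by omega)

theorem cc_gP {b : PD m} (hb : b ∈ S) : gP m b ∈ S := by
  have h1 := b.lt
  have h2 := cc_zero hp hA hI hC (in_self hb)
  refine In.mem ?_
  rw [gP_val, ps_gI, ps_gI, if_neg (by omega), if_neg (by omega)]
  split_ifs
  · rw [h2 (by omega)]; exact hC.2
  · rw [h2 (by omega)]; exact hC.1
  · exact in_self hb

theorem cc_card {j : ℕ} (h : In S 1 j) : S.card ≤ (On m).card + 2 := by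
  have h0 := hm.out
  obtain ⟨o, ho⟩ := exists_ps (m := m) (q := 1) (by omega)
  obtain ⟨b1, -, h1, h1'⟩ := hC.1
  obtain ⟨b2, -, h2, h2'⟩ := hC.2
  let φ : PD m → PD m := fun b => if m < ps b.1.2 then mkD o b.1.2.swap b else b
  have key : ∀ b ∈ S, (m < ps b.1.2 ∧ ps b.1.1 = 0 ∧ ps (φ b).1.1 = 1 ∧ ps b.1.2 + ps (φ b).1.2 + 1 = 2 * m) ∨
      (ps b.1.2 ≤ m ∧ φ b = b) := fun b hb => by
    by_cases e : m < ps b.1.2
    · have h3 := ab_two hp hA h (in_self hb)
      have h4 := ps_swap b.1.2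
      have h5 := b.2
      have h6 : φ b = ⟨(o, b.1.2.swap), by simp only; omega⟩ := (if_pos e).trans (dif_pos _)
      exact Or.inl ⟨e, cc_zero hp hA hI hC (in_self hb) (by omega), by rw [h6]; exact ho, by rw [h6]; simp only; omega⟩
    · exact Or.inr ⟨not_lt.1 e, if_neg e⟩
  refine (card_le_card_of_injOn (t := insert b1 (insert b2 (On m))) φ (fun b hb => ?_) fun b hb c hc e => ?_).trans
    ((card_insert_le _ _).trans (Nat.succ_le_succ (card_insert_le _ _)))
  · rw [mem_coe, mem_insert, mem_insert, mem_On]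
    rcases key b hb with h3 | ⟨h3, h4⟩
    · exact Or.inr (Or.inr (by omega))
    · have h5 := cc_zero hp hA hI hC (in_self hb)
      rw [h4]
      by_cases e1 : ps b.1.2 + 1 = m
      · exact Or.inl (PD.ext' (by omega) (by omega))
      by_cases e2 : ps b.1.2 = m
      · exact Or.inr (Or.inl (PD.ext' (by omega) (by omega)))
      · exact Or.inr (Or.inr (by omega))
  · have h5 := ab_one hp hA (in_self hb) (in_self hc)
    rcases key b hb with h3 | ⟨-, h3⟩ <;> rcases key c hc with h4 | ⟨-, h4⟩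
    · rw [e] at h3
      exact PD.ext' (by omega) (by omega)
    · rw [e, h4] at h3
      omega
    · rw [← e, h3] at h4
      omega
    · rwa [h3, h4] at e

end Cfsg.Agent.TwoF.DC.TBD.CT
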