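import Cfsg.Agent.TwoF.DC.TBD.CTA

/-!
# TwoF, defining characteristic, type D, `boxCT` (2): natural and half spin modules (helper33)

`cub_min` : cubic action on minuscule modules; `spin_le` : the spin lemma; lower bounds for `cL`.
-/

set_option autoImplicit false
set_option linter.unusedSectionVars false

namespace Cfsg.Agent.TwoF.DC.TBD.CT

open Finset Matrix Sum Cfsg.Agent.TwoF.DC.TC

/-- cubic action -/
def Cub3 {ι Φ : Type} [Fintype ι] [DecidableEq ι] [DecidableEq Φ] {R : RC ι Φ} {p : ℕ} {k L : Type} [Field k]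
    [AddCommGroup L] [Module k L] (H : HW R p k L) (S : Finset Φ) : Prop :=
  ∀ a ∈ S, ∀ b ∈ S, ∀ c ∈ S, ∀ l n o, 0 < l → 0 < n → 0 < o → H.E (true, a) l * H.E (true, b) n * H.E (true, c) o = 0

variable {m : ℕ}

/-- a vector of signs -/
def Sv (v : Fin m → ℤ) : Prop := ∀ i, v i = 1 ∨ v i = -1

theorem Sv.xv {v : Fin m → ℤ} (h : Sv v) (x : II m) : xv v x = 1 ∨ xv v x = -1 := by
  rcases x with i | i <;> have := h i <;> simp only [TC.xv] <;> omega

theorem Sv.dot {v : Fin m → ℤ} (h : Sv v) : v ⬝ᵥ v = m := by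
  rw [dotProduct, sum_congr rfl fun i _ => show v i * v i = 1 by rcases h i with e | e <;> rw [e] <;> rfl]
  simp

theorem Sv.wo {x y : Fin m → ℤ} (h : Sv x) (h' : WO x y) : Sv y := fun i => by
  obtain ⟨π, ε, -, rfl⟩ := h'
  rw [sp_apply]
  rcases h (π i) with e | e <;> rcases Int.units_eq_one_or (ε i) with e' | e' <;> simp [e, e']

theorem sv_fw {l : Fin m} (h : m ≤ l.1 + 2) : Sv (fw l) := fun i => by
  simp only [fw]
  split_ifs <;> omega

theorem dot_self_nonneg (v : Fin m → ℤ) : 0 ≤ v ⬝ᵥ v := sum_nonneg fun _ _ => mul_self_nonneg _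

/-- three orthogonal roots with the pairing `-1` -/
structure Tr (v : Fin m → ℤ) (a b c : PD m) : Prop where
  ha : rd a ⬝ᵥ v = -2
  hb : rd b ⬝ᵥ v = -2
  hc : rd c ⬝ᵥ v = -2
  ab : rd a ⬝ᵥ rd b = 0
  ac : rd a ⬝ᵥ rd c = 0
  bc : rd b ⬝ᵥ rd c = 0

theorem disj {v : Fin m → ℤ} (hv : Sv v) {a b : PD m} (ha : rd a ⬝ᵥ v = -2) (hb : rd b ⬝ᵥ v = -2)
    (h : rd a ⬝ᵥ rd b = 0) : ps a.1.1 ≠ ps b.1.1 ∧ ps a.1.1 ≠ ps b.1.2 ∧ ps a.1.2 ≠ ps b.1.1 ∧ ps a.1.2 ≠ ps b.1.2 := by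
  have key : ∀ x y : II m, xv v x = -1 → xv v y = -1 → ps x + ps y + 1 ≠ 2 * m := fun x y hx hy e => by
    rw [eq_swap_iff.2 e, xv_swap] at hx
    omega
  rw [rd_dot] at ha hb
  have h1 := hv.xv a.1.1
  have h2 := hv.xv a.1.2
  have h3 := hv.xv b.1.1
  have h4 := hv.xv b.1.2
  have h5 := key a.1.1 b.1.1 (by omega) (by omega)
  have h6 := key a.1.1 b.1.2 (by omega) (by omega)
  have h7 := key a.1.2 b.1.1 (by omega) (by omega)
  have h8 := key a.1.2 b.1.2 (by omega) (by omega)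
  rw [rd_rd] at h
  simp only [xv_wv', if_neg h5, if_neg h6, if_neg h7, if_neg h8] at h
  split_ifs at h <;> omega

/-- signs from a set of positions -/
def sg (T : Finset ℕ) : Fin m → ℤˣ := fun i => if i.1 ∈ T then -1 else 1

variable [hm : Fact (2 ≤ m)]

theorem Tr.norm {v : Fin m → ℤ} {a b c : PD m} (h : Tr v a b c) :
    (v + rd a + rd b + rd c) ⬝ᵥ (v + rd a + rd b + rd c) = v ⬝ᵥ v - 6 := by
  simp only [add_dotProduct, dotProduct_add, dotProduct_comm v (rd _), dotProduct_comm (rd b) (rd a),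
    dotProduct_comm (rd c) (rd a), dotProduct_comm (rd c) (rd b), rd_two, h.ha, h.hb, h.hc, h.ab, h.ac, h.bc]
  ring

theorem Tr.six {v : Fin m → ℤ} {a b c : PD m} (h : Tr v a b c) : 6 ≤ v ⬝ᵥ v := by
  have := dot_self_nonneg (v + rd a + rd b + rd c)
  rw [h.norm] at this
  omega

/-- the sign changes at the positions in `T` and, if needed, at the last position -/
def sv (T : Finset ℕ) (x : Fin m → ℤ) : Fin m → ℤ := sp 1 (sg T * Pi.mulSingle (lst m) (∏ i : Fin m, sg T i)) x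

theorem wo_sv (T : Finset ℕ) (x : Fin m → ℤ) : WO x (sv T x) := ⟨1, _, by
  simp only [Pi.mul_apply, prod_mul_distrib, prod_pi_mulSingle', mem_univ, if_true, Int.units_mul_self], rfl⟩

theorem xv_sv {x : Fin m → ℤ} (h : ∀ i : Fin m, i.1 + 1 < m → x i = 1) (T : Finset ℕ) {y : II m} (hy : ps y + 1 < m) :
    xv (sv T x) y = if ps y ∈ T then -1 else 1 := by
  obtain ⟨i, rfl⟩ := exists_inl (a := y) (by omega)
  rw [ps_inl] at hy ⊢
  rw [xv_inl, sv, sp_apply, Pi.mul_apply, Pi.mulSingle_eq_of_ne (Fin.ne_of_val_ne (by rw [lst_val]; omega)), mul_one,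
    Equiv.Perm.one_apply, h i hy, sg]
  split_ifs <;> rfl

theorem sv_single (x : Fin m → ℤ) {i : ℕ} (hi : i + 1 < m) : sv {i} x (lst m) = -x (lst m) := by
  have h1 : ∏ j : Fin m, sg {i} j = -1 := by
    refine (prod_eq_single (⟨i, by omega⟩ : Fin m) (fun j _ hj => ?_) (by simp)).trans (if_pos (mem_singleton_self _))
    exact if_neg fun e => hj (Fin.ext (mem_singleton.1 e))
  rw [sv, sp_apply, Pi.mul_apply, Pi.mulSingle_eq_same, h1, sg, if_neg (by rw [mem_singleton, lst_val]; omega)]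
  simp

theorem neg_of_in {S : Finset (PD m)} {x : Fin m → ℤ} (h : ∀ i : Fin m, i.1 + 1 < m → x i = 1) {T : Finset ℕ} {i j : ℕ}
    (hi : i ∈ T) (hj : j ∈ T) (hj' : j + 1 < m) (hS : In S i j) : ∃ b ∈ S, rd b ⬝ᵥ sv T x < 0 := by
  have h1 := hS.lt
  obtain ⟨b, hb, rfl, rfl⟩ := hS
  refine ⟨b, hb, ?_⟩
  rw [rd_dot, xv_sv h T (by omega), xv_sv h T hj', if_pos hi, if_pos hj]
  omega

variable {p : ℕ} {k L : Type} [Field k] [AddCommGroup L] [Module k L] {H : HW (eD m).rc p k L}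

theorem e2_lz {l : Fin m} (h : H.lam = Pi.single l 1) : e2 H.lz = fw l := by
  rw [← e2_single]
  congr 1
  funext i
  rw [H.lz_apply, h, Pi.single_apply, Pi.single_apply]
  split_ifs <;> rfl

theorem spn_fw (h : Spn H.lam) : ∃ l : Fin m, m ≤ l.1 + 2 ∧ e2 H.lz = fw l := by
  rcases h with h | h
  · exact ⟨_, by rw [pen_val]; omega, e2_lz h⟩
  · exact ⟨_, by rw [lst_val]; omega, e2_lz h⟩

theorem spn_one (h : Spn H.lam) (i : Fin m) (hi : i.1 + 1 < m) : e2 H.lz i = 1 := by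
  obtain ⟨l, h1, h2⟩ := spn_fw h
  simp only [h2, fw]
  split_ifs <;> omega

theorem spn_sv (h : Spn H.lam) {y : Fin m → ℤ} (hy : WO (e2 H.lz) y) : Sv y := by
  obtain ⟨l, h1, h2⟩ := spn_fw h
  exact (h2 ▸ sv_fw h1 : Sv (e2 H.lz)).wo hy

/-- cubic action on a minuscule module -/
theorem cub_min (hM : H.Min) {S : Finset (PD m)} (hS : NN S)
    (h : ∀ μ, H.IsWt μ → ∀ a ∈ S, ∀ b ∈ S, ∀ c ∈ S, ¬ Tr (e2 μ) a b c) : Cub3 H S := by
  refine H.cubic_of_wt S fun a ha b hb c hc l n o hl hn ho μ h1 h2 => ?_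
  have key : ∀ (d : PD m) (x y z : ℤ), rd d ⬝ᵥ rd a = x → rd d ⬝ᵥ rd b = y → rd d ⬝ᵥ rd c = z → d ∈ S →
      -2 ≤ rd d ⬝ᵥ e2 μ ∧ rd d ⬝ᵥ e2 μ + 2 * (x + y + z) ≤ 2 ∧ 0 ≤ x ∧ 0 ≤ y ∧ 0 ≤ z := by
    rintro d _ _ _ rfl rfl rfl hd
    have h3 := hM.pair_le h1 (false, d)
    have h4 := hM.pair_le h2 (true, d)
    have h5 := two_pair_true μ d
    have h6 := two_pair_true (μ + ((l : ℤ) • (eD m).rc.wt (true, a) + (n : ℤ) • (eD m).rc.wt (true, b) +
      (o : ℤ) • (eD m).rc.wt (true, c))) d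
    rw [RC.pair_false] at h3
    simp only [e2_add, e2_smul, e2_wt_true, dotProduct_add, dotProduct_smul, smul_eq_mul] at h6
    have h7 := hS d hd a ha
    have h8 := hS d hd b hb
    have h9 := hS d hd c hc
    have e1 := mul_le_mul_of_nonneg_right (show (1 : ℤ) ≤ l by omega) h7
    have e2 := mul_le_mul_of_nonneg_right (show (1 : ℤ) ≤ n by omega) h8
    have e3 := mul_le_mul_of_nonneg_right (show (1 : ℤ) ≤ o by omega) h9
    exact ⟨by omega, by linarith, h7, h8, h9⟩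
  have h3 := key a _ _ _ (rd_two a) rfl rfl ha
  have h4 := key b _ _ _ rfl (rd_two b) rfl hb
  have h5 := key c _ _ _ rfl rfl (rd_two c) hc
  exact h μ h1 a ha b hb c hc ⟨by omega, by omega, by omega, by omega, by omega, by omega⟩

theorem cub_nat (hM : H.Min) (hw : ∀ μ, H.IsWt μ ↔ ∃ a, e2 μ = (2 : ℤ) • wv a) {S : Finset (PD m)} (hS : NN S) :
    Cub3 H S := cub_min hM hS fun μ hμ a _ b _ c _ h => by
  obtain ⟨x, hx⟩ := (hw μ).1 hμ
  have h1 := h.six
  rw [hx, smul_dotProduct, dotProduct_smul, wv_dot, xv_wv_self] at h1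
  simp at h1

theorem wo_of_wt (hM : H.Min) {μ : Fin m → ℤ} (h : H.IsWt μ) : WO (e2 H.lz) (e2 μ) := (ext_D H).1 (hM.ext h)

theorem cub_five (hM : H.Min) (hs : Spn H.lam) (h5 : m ≤ 5) {S : Finset (PD m)} (hS : NN S) : Cub3 H S :=
  cub_min hM hS fun μ hμ a _ b _ c _ h => by
    have h1 := h.six
    rw [(spn_sv hs (wo_of_wt hM hμ)).dot] at h1
    omega

theorem cG_M1 (hM : H.Min) (hs : Spn H.lam) (h4 : 4 ≤ m) : H.cG (M1 m) + 2 ≤ H.d := by
  classical
  obtain ⟨l, hl⟩ := wo_iff.1 (wo_sv {1} (e2 H.lz))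
  have h1 : H.IsWt ((eD m).rc.swl l H.lz) := (H.isWt_swl _ _).2 H.isWt_lz
  have h0 : ∀ y : II m, ps y + 1 < m → xv (e2 H.lz) y = 1 := fun y hy => by
    obtain ⟨i, rfl⟩ := exists_inl (a := y) (by omega)
    exact spn_one hs i hy
  have h2 : (eD m).rc.swl l H.lz ≠ H.lz := fun e => by
    obtain ⟨y, hy⟩ := exists_ps (m := m) (q := 1) (by omega)
    have h3 := xv_sv (spn_one hs) {1} (y := y) (by omega)
    rw [hl, e, h0 y (by omega), if_pos (mem_singleton.2 hy)] at h3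
    omega
  have h3 := hM.cG_le (M1 m) ((H.Wts.erase H.lz).erase ((eD m).rc.swl l H.lz)) fun μ hμ ⟨b, hb, h⟩ => by
    have h5 := (spn_sv hs ((ext_D H).1 hμ)).xv b.1.2
    rw [pair_neg_iff, rd_dot] at h
    rw [mem_M1] at hb
    refine mem_erase.2 ⟨fun e => ?_, mem_erase.2 ⟨fun e => ?_, H.mem_Wts.2 hμ.isWt⟩⟩
    · have h6 := xv_sv (spn_one hs) {1} (y := b.1.1) (by omega)
      rw [hl, ← e, if_neg (by rw [mem_singleton]; omega)] at h6
      omega
    · have h6 := h0 b.1.1 (by omega)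
      rw [← e] at h6
      omega
  have h5 := card_erase_add_one (mem_erase.2 ⟨h2, H.mem_Wts.2 h1⟩)
  have h6 := card_erase_add_one (H.mem_Wts.2 H.isWt_lz)
  have h7 := hM.d_eq
  omega

variable [Fact p.Prime] [CharP k p]

/-- **the spin lemma** -/
theorem spin_le (S : Finset (PD m)) {x : Fin m → ℤ} (hx : WO (e2 H.lz) x) (h1 : ∀ i : Fin m, i.1 + 1 < m → x i = 1)
    (U : Finset (Finset ℕ)) (hU : ∀ T ∈ U, T ⊆ range (m - 1) ∧ ∃ b ∈ S, rd b ⬝ᵥ sv T x < 0) : U.card ≤ H.cL S := by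
  have key : ∀ T ∈ U, ∀ T' : Finset ℕ, sv T x = sv T' x → T ⊆ T' := fun T hT T' e i hi => by
    have h2 := mem_range.1 ((hU T hT).1 hi)
    obtain ⟨y, rfl⟩ := exists_ps (m := m) (q := i) (by omega)
    have h3 := xv_sv h1 T (y := y) (by omega)
    rw [e, xv_sv h1 T' (by omega), if_pos hi] at h3
    by_contra h4
    rw [if_neg h4] at h3
    omega
  rw [← card_image_of_injOn (f := fun T => sv T x) fun T hT T' hT' e => (key T hT T' e).antisymm (key T' hT' T e.symm)]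
  refine card_le_cLD H S H.lz_dom (fun _ => le_rfl) _ fun y hy => ?_
  obtain ⟨T, hT, rfl⟩ := mem_image.1 hy
  exact ⟨hx.trans (wo_sv T x), (hU T hT).2⟩

theorem low_cc (hs : Spn H.lam) {S : Finset (PD m)} (hC : CC S) (V : Finset (Finset ℕ))
    (hV : ∀ T ∈ V, 0 ∉ T ∧ T ⊆ range (m - 1) ∧ ∃ i ∈ T, ∃ j ∈ T, In S i j) : 2 ^ (m - 2) + V.card ≤ H.cL S := by
  have h0 := hm.out
  have h1 : ∀ T ∈ powerset (Ico 1 (m - 1)), 0 ∉ T := fun T hT e => by
    have := mem_Ico.1 (mem_powerset.1 hT e)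
    omega
  have h2 := spin_le S (WO.refl _) (spn_one hs) ((powerset (Ico 1 (m - 1))).image (insert 0) ∪ V) fun T hT => by
    rcases mem_union.1 hT with hT | hT
    · obtain ⟨T, hT', rfl⟩ := mem_image.1 hT
      refine ⟨insert_subset (mem_range.2 (by omega)) fun i hi => mem_range.2 (mem_Ico.1 (mem_powerset.1 hT' hi)).2, ?_⟩
      obtain ⟨b, hb, e1, e2⟩ := hC.1
      obtain ⟨c, hc, e3, e4⟩ := hC.2
      have h3 := xv_sv (spn_one hs) (insert 0 T) (y := b.1.1) (by omega)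
      have h4 := xv_sv (spn_one hs) (insert 0 T) (y := c.1.1) (by omega)
      have h5 := xv_swap (sv (insert 0 T) (TBD.e2 H.lz)) b.1.2
      rw [e1, if_pos (mem_insert_self _ _)] at h3
      rw [e3, if_pos (mem_insert_self _ _)] at h4
      rw [← eq_swap_iff.2 (show ps c.1.2 + ps b.1.2 + 1 = 2 * m by omega)] at h5
      by_cases h6 : xv (sv (insert 0 T) (TBD.e2 H.lz)) b.1.2 ≤ 0
      · exact ⟨b, hb, by rw [rd_dot]; omega⟩
      · exact ⟨c, hc, by rw [rd_dot]; omega⟩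
    · obtain ⟨-, h3, i, hi, j, hj, h4⟩ := hV T hT
      exact ⟨h3, neg_of_in (spn_one hs) hi hj (by have := mem_range.1 (h3 hj); omega) h4⟩
  rwa [card_union_of_disjoint, card_image_of_injOn, card_powerset, Nat.card_Ico, show m - 1 - 1 = m - 2 by omega] at h2
  · intro T hT T' hT' e
    rw [← erase_insert (h1 T hT), e, erase_insert (h1 T' hT')]
  · refine disjoint_left.2 fun T hT hT' => (hV T hT').1 ?_
    obtain ⟨T, -, rfl⟩ := mem_image.1 hT
    exact mem_insert_self _ _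

theorem two_in {l : Fin m} {a : II m} (h : Nd l a) {x : Fin m → ℤ} (h1 : ∀ i : Fin m, i.1 + 1 < m → x i = 1)
    {T : Finset ℕ} (hT : T ⊆ range (m - 1)) (h2 : 1 < T.card) : ∃ b ∈ Me a, rd b ⬝ᵥ sv T x < 0 := by
  obtain ⟨i, hi, j, hj, e⟩ := one_lt_card.1 h2
  have h3 := mem_range.1 (hT hi)
  have h4 := mem_range.1 (hT hj)
  rcases lt_or_gt_of_ne e with e | e
  · exact neg_of_in h1 hi hj (by omega) (in_Me h e (by omega) (Or.inl (by omega)))
  · exact neg_of_in h1 hj hi (by omega) (in_Me h e (by omega) (Or.inl (by omega)))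

theorem low_me (hs : Spn H.lam) {l : Fin m} {a : II m} (h : Nd l a) : 2 ^ (m - 1) ≤ H.cL (Me a) + m := by
  have h0 := hm.out
  have h1 := spin_le (Me a) (WO.refl _) (spn_one hs) ((powerset (range (m - 1))).filter fun T => 1 < T.card) fun T hT =>
    ⟨mem_powerset.1 (mem_filter.1 hT).1, two_in h (spn_one hs) (mem_powerset.1 (mem_filter.1 hT).1) (mem_filter.1 hT).2⟩
  have h2 := card_filter_add_card_filter_not (s := powerset (range (m - 1))) fun T => 1 < T.card
  have h3 : ((powerset (range (m - 1))).filter fun T => ¬ 1 < T.card) ⊆ insert ∅ ((range (m - 1)).image singleton) := by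
    intro T hT
    obtain ⟨h4, h5⟩ := mem_filter.1 hT
    rcases T.eq_empty_or_nonempty with rfl | ⟨i, hi⟩
    · exact mem_insert_self _ _
    · exact mem_insert_of_mem (mem_image.2 ⟨i, mem_powerset.1 h4 hi,
        (eq_singleton_iff_unique_mem.2 ⟨hi, fun j hj => card_le_one.1 (not_lt.1 h5) j hj i hi⟩).symm⟩)
  have h4 := (card_le_card h3).trans ((card_insert_le _ _).trans (Nat.succ_le_succ card_image_le))
  rw [card_powerset, card_range] at h2
  rw [card_range] at h4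
  omega

theorem low_ev {l : Fin m} {a : II m} (h : Nd l a) {x : Fin m → ℤ} (hx : WO (e2 H.lz) x)
    (h1 : ∀ i : Fin m, i.1 + 1 < m → x i = 1) (h2 : xv x a = 1) : 2 ^ (m - 1) ≤ H.cL (Me a) + 1 := by
  have h3 := spin_le (Me a) hx h1 ((powerset (range (m - 1))).erase ∅) fun T hT => by
    have h4 := mem_powerset.1 (mem_erase.1 hT).2
    refine ⟨h4, ?_⟩
    by_cases h5 : 1 < T.card
    · exact two_in h h1 h4 h5
    obtain ⟨i, rfl⟩ := card_eq_one.1 (le_antisymm (not_lt.1 h5) (card_pos.2 (nonempty_iff_ne_empty.2 (mem_erase.1 hT).1)))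
    have h6 := mem_range.1 (h4 (mem_singleton_self i))
    have h7 := h
    unfold Nd at h7
    obtain ⟨b, hb, e1, e2⟩ := in_Me h (i := i) (by omega) (by omega) (Or.inr rfl)
    refine ⟨b, hb, ?_⟩
    have h8 := sv_single x (i := i) (by omega)
    have h9 : a = inl (lst m) ∨ a = inr (lst m) := by
      simp only [ps_eq, ps_inl, ps_inr, lst_val]
      omega
    rw [rd_dot, xv_sv h1 _ (by omega), if_pos (mem_singleton.2 e1), ps_inj e2]
    rcases h9 with rfl | rfl <;> simp only [xv] at h2 ⊢ <;> omega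
  have h4 := card_erase_add_one (empty_mem_powerset (range (m - 1)))
  rw [card_powerset, card_range] at h4
  omega

theorem low_node {l : Fin m} {a : II m} (h : Nd l a) (hl : H.lam = Pi.single l 1) : 2 ^ (m - 1) ≤ H.cL (Me a) + 1 := by
  have h1 := h
  unfold Nd at h1
  refine low_ev h (WO.refl _) (fun i hi => ?_) ?_
  · simp only [e2_lz hl, fw]
    split_ifs <;> omega
  · rw [e2_lz hl, xv_fw]
    split_ifs <;> omega

/-- half spin modules are cubic for `Me a` -/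
theorem cub_me (hM : H.Min) (hs : Spn H.lam) {l : Fin m} {a : II m} (h : Nd l a) (hc : H.cL (Me a) ≤ m * (m - 1)) :
    Cub3 H (Me a) := by
  refine cub_min hM (nn_Me h) fun μ hμ b hb c hc' d hd ht => ?_
  have h1 := wo_of_wt hM hμ
  have h2 := spn_sv hs h1
  have h3 := ht.six
  have h4 := ht.norm
  rw [h2.dot] at h3 h4
  have h5 := low_me hs h
  have h6 : m = 6 := by
    by_contra h6
    have h7 : ∀ n : ℕ, (n + 7) * (n + 7) < 2 ^ (n + 6) := fun n => by
      induction n with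
      | zero => norm_num
      | succ n ih => rw [show n + 1 + 6 = n + 6 + 1 by omega, pow_succ]; nlinarith
    obtain ⟨n, rfl⟩ : ∃ n, m = n + 7 := ⟨m - 7, by omega⟩
    have h8 := h7 n
    rw [show n + 7 - 1 = n + 6 by omega] at h5 hc
    nlinarith
  have h7 := dotProduct_self_eq_zero.1 (h4.trans (by omega))
  have h8 : ∀ y : II m, ps y + 1 < m ∨ ps y = ps a → xv (-e2 μ) y = 1 := fun y hy => by
    have key : ∀ e ∈ Me a, 0 ≤ xv (rd e) y := fun e he => by
      have := e.2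
      rw [mem_Me] at he
      rw [rd, xv_add, xv_wv', xv_wv']
      unfold Nd at h
      split_ifs <;> omega
    have h9 := congrArg (xv · y) h7
    have := key b hb
    have := key c hc'
    have := key d hd
    have := h2.xv y
    have := congrArg (xv · y) h7
    simp only [xv_add, xv_zero] at h9
    rw [xv_neg]
    omega
  have h9 := low_ev h (h1.trans ⟨1, fun _ => -1, by subst h6; simp; rfl, (sp_neg _).symm⟩)
    (fun i hi => h8 (inl i) (Or.inl hi)) (h8 a (Or.inr rfl))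
  subst h6
  omega

/-- half spin modules are cubic for the sets which contain `ε_1 ± ε_m` -/
theorem cub_cc (hM : H.Min) (hs : Spn H.lam) {S : Finset (PD m)} (hA : (eD m).rc.Ab p S) (hI : (eD m).rc.Idl p S)
    (hC : CC S) (hO : 2 * (On m).card = (m - 1) * (m - 2)) (hc : H.cL S ≤ 2 * S.card) : Cub3 H S := by
  have hp := (Fact.out : p.Prime).ne_one
  have key : ∀ b ∈ S, ∀ c ∈ S, ps b.1.1 ≠ 0 → ps c.1.1 ≠ 0 →
      ¬ (ps b.1.1 ≠ ps c.1.1 ∧ ps b.1.1 ≠ ps c.1.2 ∧ ps b.1.2 ≠ ps c.1.1 ∧ ps b.1.2 ≠ ps c.1.2) := fun b hb c hc' e1 e2 e => by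
    have h1 := b.2.1
    have h2 := c.2.1
    have h3 := cc_zero hp hA hI hC (in_self hb)
    have h4 := cc_zero hp hA hI hC (in_self hc')
    have h5 : In S 1 4 := by
      by_cases h : 4 ≤ ps b.1.2
      · exact idl_in hp hI (in_self hb) (by omega) h (by omega) (by omega)
      · exact idl_in hp hI (in_self hc') (by omega) (by omega) (by omega) (by omega)
    have h6 : In S 2 3 := by
      by_cases h : 2 ≤ ps b.1.1
      · exact idl_in hp hI (in_self hb) h (by omega) (by omega) (by omega)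
      · exact idl_in hp hI (in_self hc') (by omega) (by omega) (by omega) (by omega)
    have h7 : 6 ≤ m := by omega
    have h8 : In S 1 3 := idl_one hp hI h6 (by omega)
    have h9 : In S 1 2 := idl_in hp hI h8 le_rfl (by omega) (by omega) (by omega)
    have h10 := low_cc hs hC {{1, 2}, {1, 3}, {1, 4}, {2, 3}, {1, 2, 3}, {1, 2, 4}, {1, 3, 4}, {2, 3, 4}, {1, 2, 3, 4}}
      fun T hT => by
        have h11 : 0 ∉ T ∧ T ⊆ range 5 ∧ ((1 ∈ T ∧ 2 ∈ T) ∨ (1 ∈ T ∧ 3 ∈ T) ∨ (1 ∈ T ∧ 4 ∈ T) ∨ (2 ∈ T ∧ 3 ∈ T)) := by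
          revert T
          decide
        refine ⟨h11.1, h11.2.1.trans (range_subset_range.2 (by omega)), ?_⟩
        rcases h11.2.2 with h | h | h | h
        exacts [⟨_, h.1, _, h.2, h9⟩, ⟨_, h.1, _, h.2, h8⟩, ⟨_, h.1, _, h.2, h5⟩, ⟨_, h.1, _, h.2, h6⟩]
    have h11 := cc_card hp hA hI hC h5
    have h12 : ∀ n : ℕ, (n + 5) * (n + 4) < 2 ^ (n + 4) + 5 := fun n => by
      induction n with
      | zero => norm_num
      | succ n ih => rw [show n + 1 + 4 = n + 4 + 1 by omega, pow_succ]; nlinarith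
    have h13 := h12 (m - 6)
    rw [show m - 6 + 5 = m - 1 by omega, show m - 6 + 4 = m - 2 by omega] at h13
    rw [show card _ = 9 by decide] at h10
    omega
  refine cub_min hM (nn_of_ab hp hA) fun μ hμ a ha b hb c hc' ht => ?_
  have h1 := spn_sv hs (wo_of_wt hM hμ)
  have h2 := disj h1 ht.ha ht.hb ht.ab
  have h3 := disj h1 ht.ha ht.hc ht.ac
  have h4 := disj h1 ht.hb ht.hc ht.bc
  by_cases e1 : ps a.1.1 = 0
  · exact key b hb c hc' (by omega) (by omega) h4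
  by_cases e2 : ps b.1.1 = 0
  · exact key a ha c hc' e1 (by omega) h3
  · exact key a ha b hb e1 e2 h2

end Cfsg.Agent.TwoF.DC.TBD.CT
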