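import Cfsg.Agent.TwoF.DC.TBD.DDNat
import Cfsg.Agent.TwoF.DC.HW.Deg

/-!
# TwoF, defining characteristic, type D, `boxD` (2): `m - 1` natural modules of the twisted group (helper77)
-/

set_option autoImplicit false
set_option linter.unusedSectionVars false

namespace Cfsg.Agent.TwoF.DC.TBD.DD

open Finset Module Matrix Sum Cfsg.Agent.TwoF.DC.TC Cfsg.Agent.TwoF.Gen

section gen

variable {ι Φ : Type} [Fintype ι] [DecidableEq ι] [Fintype Φ] [DecidableEq Φ] {R : RC ι Φ} {p : ℕ} {k L : Type}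
  [Field k] [AddCommGroup L] [Module k L] (H : HW R p k L)

theorem not_nz_of_commute (hE : ∀ x, H.E x 1 ≠ 0) {x y : Bool × Φ} (h : Commute (H.E x 1) (H.E y 1)) : ¬ R.NZ p x y :=
  fun h1 => by
    obtain ⟨z, hz⟩ := h1.1
    obtain ⟨N, h2, h3⟩ := H.br _ _ z hz
    rw [h.eq, sub_self, eq_comm, smul_eq_zero] at h2
    exact h2.elim (h3 h1) (hE z)

/-- degeneration of a commuting family to root operators -/
theorem deg (hE : ∀ x, H.E x 1 ≠ 0) (σ' f : Φ → Φ) (φ : (ι → ℤ) →+ ℤ) (S O : Finset Φ) (c : Φ → k) (hc : ∀ o ∈ O, c o ≠ 0)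
    (hf : ∀ o ∈ O, (f o = o ∧ φ (R.vec (true, o)) < φ (R.vec (true, σ' o))) ∨
      (f o = σ' o ∧ φ (R.vec (true, σ' o)) < φ (R.vec (true, o))))
    (hX : ∀ x ∈ {x | (∃ b ∈ S, x = H.E (true, b) 1) ∨ ∃ o ∈ O, x = H.E (true, o) 1 + c o • H.E (true, σ' o) 1},
      ∀ y ∈ {x | (∃ b ∈ S, x = H.E (true, b) 1) ∨ ∃ o ∈ O, x = H.E (true, o) 1 + c o • H.E (true, σ' o) 1}, Commute x y) :
    R.Ab p (S ∪ O.image f) ∧ finrank k ↥(H.kerL S ⊓ ⨅ o ∈ O, LinearMap.ker (H.E (true, o) 1 + c o • H.E (true, σ' o) 1)) ≤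
      finrank k (H.kerL (S ∪ O.image f)) := by
  have h2 : ∀ b ∈ S ∪ O.image f, ∃ x : k, ∃ s, ∃ g ∈ {x | (∃ b ∈ S, x = H.E (true, b) 1) ∨
      ∃ o ∈ O, x = H.E (true, o) 1 + c o • H.E (true, σ' o) 1}, H.idm.Ld (H.lf φ) s (x • g) (H.E (true, b) 1) := by
    intro b hb
    rcases mem_union.1 hb with e | e
    · exact ⟨1, φ (R.vec (true, b)), H.E (true, b) 1, Or.inl ⟨b, e, rfl⟩, by rw [one_smul]; exact (H.hm_E1 _ _).ld⟩
    obtain ⟨o, ho, rfl⟩ := mem_image.1 e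
    rcases hf o ho with ⟨e1, e2⟩ | ⟨e1, e2⟩ <;> rw [e1]
    · exact ⟨1, φ (R.vec (true, o)), H.E (true, o) 1 + c o • H.E (true, σ' o) 1, Or.inr ⟨o, ho, rfl⟩, by
        rw [one_smul]; exact (H.hm_E1 _ _).ld.add_ge (((H.hm_E1 _ _).smul _).ge.mono e2)⟩
    · refine ⟨(c o)⁻¹, φ (R.vec (true, σ' o)), H.E (true, o) 1 + c o • H.E (true, σ' o) 1, Or.inr ⟨o, ho, rfl⟩, ?_⟩
      rw [smul_add, smul_smul, inv_mul_cancel₀ (hc o ho), one_smul, add_comm]
      exact (H.hm_E1 _ _).ld.add_ge (((H.hm_E1 _ _).smul _).ge.mono e2)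
  refine ⟨fun b hb b' hb' => ?_, ?_⟩
  · obtain ⟨x, s, g, a1, a2⟩ := h2 b hb
    obtain ⟨x', s', g', b1, b2⟩ := h2 b' hb'
    exact not_nz_of_commute H hE (a2.commute b2 (((hX g a1 g' b1).smul_left x).smul_right x'))
  · have := H.fd
    refine (H.finrank_ker_le (H.lf φ) (A := ↑(S ∪ O.image f)) (g := fun b => H.E (true, b) 1) fun b hb => ?_).trans
      (Submodule.finrank_mono fun v hv => H.mem_kerL.2 fun b hb =>
        (Submodule.mem_iInf _).1 ((Submodule.mem_iInf _).1 hv b) (mem_coe.2 hb))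
    obtain ⟨x, s, g, a1, a2⟩ := h2 b hb
    refine ⟨s, _, a2, fun v hv => ?_⟩
    rw [LinearMap.mem_ker, LinearMap.smul_apply]
    rcases a1 with ⟨b', hb', rfl⟩ | ⟨o, ho, rfl⟩
    · rw [H.mem_kerL.1 hv.1 b' hb', smul_zero]
    · rw [show (H.E (true, o) 1 + c o • H.E (true, σ' o) 1) v = 0 from
        (Submodule.mem_iInf _).1 ((Submodule.mem_iInf _).1 hv.2 o) ho, smul_zero]

omit [Fintype Φ] in
theorem card_deg {σ' f : Φ → Φ} (hσ : ∀ b, σ' (σ' b) = b) {S O : Finset Φ} (h1 : ∀ b ∈ S, σ' b ∈ S)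
    (h2 : ∀ o ∈ O, o ∉ S ∧ σ' o ∉ O) (hf : ∀ o ∈ O, f o = o ∨ f o = σ' o) : (S ∪ O.image f).card = S.card + O.card := by
  rw [card_union_of_disjoint, card_image_of_injOn]
  · intro o ho o' ho' e
    rcases hf o ho with e1 | e1 <;> rcases hf o' ho' with e2 | e2 <;> rw [e1, e2] at e
    · exact e
    · exact ((h2 o' ho').2 (e ▸ ho)).elim
    · exact ((h2 o ho).2 (e ▸ ho')).elim
    · rw [← hσ o, e, hσ]
  · refine disjoint_left.2 fun b hb hb' => ?_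
    obtain ⟨o, ho, rfl⟩ := mem_image.1 hb'
    rcases hf o ho with e | e <;> rw [e] at hb
    · exact (h2 o ho).1 hb
    · exact (h2 o ho).1 (hσ o ▸ h1 _ hb)

end gen

variable {m : ℕ} [hm : Fact (2 ≤ m)]

theorem gP_dp {i : Fin m} (h : i < lst m) : gP m (dp i (lst m) h) = dm i (lst m) h := by
  have := hm.out
  have h1 := Fin.lt_def.1 h
  rw [lst_val] at h1
  refine PD.ext' ?_ ?_
  · show ps (gI (inl i)) = ps (inl i)
    rw [ps_gI, ps_inl]; split_ifs <;> omega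
  · show ps (gI (inl (lst m))) = ps (inr (lst m))
    rw [ps_gI, ps_inl, ps_inr, lst_val]; split_ifs <;> omega

theorem gP_dm {i : Fin m} (h : i < lst m) : gP m (dm i (lst m) h) = dp i (lst m) h := by rw [← gP_dp, gP_gP]

theorem pm_of_ne {o : PD m} (h : gP m o ≠ o) : ∃ i hi, o = dp i (lst m) hi ∨ o = dm i (lst m) hi := by
  have h1 : ps o.1.2 + 1 = m ∨ ps o.1.2 = m := by
    by_contra e
    have := o.lt
    refine h (PD.ext' ?_ ?_)
    · show ps (gI o.1.1) = _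
      rw [ps_gI]; split_ifs <;> omega
    · show ps (gI o.1.2) = _
      rw [ps_gI]; split_ifs <;> omega
  rcases dp_or_dm o with ⟨i, j, hij, rfl⟩ | ⟨i, j, hij, rfl⟩ <;> have := j.2
  · obtain rfl : j = lst m := Fin.ext (by rw [lst_val]; change j.1 + 1 = m ∨ j.1 = m at h1; omega)
    exact ⟨i, hij, Or.inl rfl⟩
  · obtain rfl : j = lst m := Fin.ext (by
      rw [lst_val]; change 2 * m - 1 - j.1 + 1 = m ∨ 2 * m - 1 - j.1 = m at h1; omega)
    exact ⟨i, hij, Or.inr rfl⟩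

/-- the last coordinate -/
def lc (m : ℕ) [Fact (2 ≤ m)] : (Fin m → ℤ) →+ ℤ where
  toFun c := (eD m).E c (lst m)
  map_zero' := by rw [Euc.E_zero]; rfl
  map_add' c d := by rw [Euc.E_add]; rfl

theorem lc_lt {i : Fin m} (h : i < lst m) :
    lc m ((eD m).rc.vec (true, dm i (lst m) h)) < lc m ((eD m).rc.vec (true, dp i (lst m) h)) := by
  show (eD m).E _ _ < (eD m).E _ _
  rw [Euc.E_vec, Euc.E_vec]
  show rd _ _ < rd _ _
  rw [rd_dp, rd_dm, Pi.sub_apply, Pi.add_apply, Pi.single_eq_same]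
  omega

variable {p : ℕ} [Fact p.Prime] {k : Type} [Field k] [CharP k p]

theorem natM_of (hM : BoxMin) (h4 : 4 ≤ m) {R : RC (Fin m) (PD m)} (hR : R = (eD m).rc) {L : Type} [AddCommGroup L]
    [Module k L] {H : HW R p k L} (h : Nt H.lam) : NatM H ∧ ∀ S, H.cL S = (Ix S).card := by
  subst hR
  obtain ⟨h1, h2, h3, h5⟩ := ((hM p m h4).2.2 k L H).1 h
  exact ⟨⟨rfl, h1, h2, h3⟩, fun S => (h5 S).1⟩

theorem E_ne (h4 : 4 ≤ m) {R : RC (Fin m) (PD m)} (hR : R = (eD m).rc) {L : Type} [AddCommGroup L]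
    [Module k L] (H : HW R p k L) (x : Bool × PD m) : H.E x 1 ≠ 0 := by
  subst hR
  exact (xD H).faith (connD (by omega)) x

theorem NatM.cubic {R : RC (Fin m) (PD m)} {L : Type} [AddCommGroup L] [Module k L] {H : HW R p k L} (h : NatM H)
    {S : Finset (PD m)} (hS : ∀ b ∈ S, ps b.1.2 ≤ m) : ∀ a ∈ S, ∀ b ∈ S, ∀ c ∈ S, ∀ l n o, 0 < l → 0 < n → 0 < o →
      H.E (true, a) l * H.E (true, b) n * H.E (true, c) o = 0 := by
  obtain rfl := h.hR
  have hx : ∀ a : II m, xv (fun i : Fin m => if i.1 + 1 < m then (1 : ℤ) else 0) a =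
      if ps a + 1 < m then 1 else if ps a ≤ m then 0 else -1 := by
    rintro (i | i) <;> have := i.2 <;> simp only [xv, ps] <;> split_ifs <;> omega
  refine cubic_D H S (fun i => if i.1 + 1 < m then 1 else 0) (t := 1) (r := 2) (fun b hb => ?_) (by omega) fun μ hμ => ?_
  · have := hS b hb
    rw [dotProduct_comm, rd_dot, hx, hx, if_pos b.lt]
    split_ifs <;> omega
  · obtain ⟨a, ha⟩ := (h.wt μ).1 hμ
    rw [ha, dotProduct_smul, dotProduct_comm, wv_dot, hx, smul_eq_mul, abs_le]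
    split_ifs <;> omega

variable {G : Type} [Group G] {D : RDat p (Fin m) (PD m) k G}

/-- characteristic two: the Siegel radical of `Sp_(2m-2)(q)` -/
theorem goodT (hp : p = 2) (P : Tws D) (hS : SubD P) {σ : Equiv.Perm (Fin m)} (F : Fam D σ) (hn : ∀ j, NatM (F.H j))
    (hd : ∀ j, F.dbl j = false) (hJ : Fintype.card F.J = m - 1) : F.GoodT P.TT.subtype P.f := by
  obtain ⟨hc, B, b1, b2, b3⟩ := hS
  have h0 := hm.out
  have two : (2 : k) = 0 := by subst hp; exact_mod_cast CharP.cast_eq_zero k 2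
  refine ⟨B, b1, ?_, fun j _ => ?_, fun j hj => (by rw [hd j] at hj; cases hj), ?_⟩
  · rintro rfl
    have := Nat.one_lt_pow (n := m * (m - 1)) (mul_ne_zero (by omega) (by omega))
      (Nat.one_lt_pow P.f_pos.ne' (Fact.out : p.Prime).one_lt)
    rw [Subgroup.card_bot] at b2; omega
  · have h1 := (F.rep j).cub ((hn j).cubic (S := univ.filter fun b => ps b.1.2 ≤ m) fun b hb => (mem_filter.1 hb).2)
    have h2 : B.map P.TT.subtype ≤ Subgroup.closure {g | ∃ b ∈ univ.filter fun b : PD m => ps b.1.2 ≤ m, ∃ t,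
        g = D.z b t} := b3.trans ((Subgroup.closure_le _).2 (by
      rintro _ (⟨b, hb, t, rfl⟩ | ⟨i, hi, s, rfl⟩)
      · exact Subgroup.subset_closure ⟨b, mem_filter.2 ⟨mem_univ _, by have := (mem_filter.1 hb).2; omega⟩, t, rfl⟩
      · exact mul_mem (Subgroup.subset_closure ⟨dp i _ hi, mem_filter.2 ⟨mem_univ _, (lst m).2.le⟩, s, rfl⟩)
          (Subgroup.subset_closure ⟨dm i _ hi, mem_filter.2 ⟨mem_univ _, show 2 * m - 1 - (m - 1) ≤ m by omega⟩, s, rfl⟩)))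
    exact fun a ha b hb c hc => h1 a (h2 ha) b (h2 hb) c (h2 hc)
  · have h1 : F.valB (B.map P.TT.subtype) ≤ m * (m - 1) * 2 := (sum_le_card_nsmul _ _ (2 * m) fun j _ => by
      have := (F.H j).fd
      have := (cod_mono (ρ := (F.rep j).ρ) b3).trans (cod_le (F.rep j) (hn j) two hc)
      rw [hd j, if_neg (by simp)]; omega).trans (by rw [card_univ, smul_eq_mul, hJ]; exact le_of_eq (by ring))
    refine (Nat.pow_le_pow_right (pow_pos (Fact.out : p.Prime).pos _) h1).trans ?_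
    rw [pow_mul _ (m * (m - 1)), show 4 = 2 * 2 from rfl, pow_mul _ 2 2]
    exact Nat.pow_le_pow_left b2 _

/-- odd characteristic: no offender -/
theorem no_flex (hM : BoxMin) (h4 : 4 ≤ m) (hR : D.R = (eD m).rc) (hp : p ≠ 2) {σ : Equiv.Perm (Fin m)} (F : Fam D σ)
    (hn : ∀ j, Nt (F.H j).lam) (hJ : Fintype.card F.J = m - 1) : ¬ F.Flex (gP m) := by
  rintro ⟨S, O, c, h1, h2, h3, h5, h6⟩
  have two : (2 : k) ≠ 0 := fun e => hp ((Nat.prime_dvd_prime_iff_eq Fact.out Nat.prime_two).1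
    ((CharP.cast_eq_zero_iff k p 2).1 (by exact_mod_cast e)))
  obtain ⟨j₀⟩ := F.neJ
  have a1 : ∀ o ∈ O, ∃ i hi, (o = dp i (lst m) hi ∨ o = dm i (lst m) hi) ∧ ∃ x y : k, x ≠ 0 ∧ y ≠ 0 ∧
      (F.H j₀).E (true, o) 1 + c o • (F.H j₀).E (true, gP m o) 1 = UU (F.H j₀) i hi x y := fun o ho => by
    obtain ⟨i, hi, e | e⟩ := pm_of_ne (h2 o ho).2.1
    · exact ⟨i, hi, Or.inl e, 1, c o, one_ne_zero, (h2 o ho).2.2.2, by rw [UU, one_smul, ← gP_dp, ← e]⟩
    · exact ⟨i, hi, Or.inr e, c o, 1, (h2 o ho).2.2.2, one_ne_zero, by rw [UU, one_smul, add_comm, ← gP_dm, ← e]⟩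
  have a2 : ∀ o ∈ O, ∀ o' ∈ O, o ≠ o' → ∀ i hi i' hi', (o = dp i (lst m) hi ∨ o = dm i (lst m) hi) →
      (o' = dp i' (lst m) hi' ∨ o' = dm i' (lst m) hi') → i ≠ i' := by
    rintro o ho o' ho' e i hi i' hi' e1 e2 rfl
    rcases e1 with rfl | rfl <;> rcases e2 with rfl | rfl
    · exact e rfl
    · exact (h2 _ ho).2.2.1 (gP_dp hi ▸ ho')
    · exact (h2 _ ho).2.2.1 (gP_dm hi ▸ ho')
    · exact e rfl
  have a3 : O.card ≤ 2 := by
    by_contra e
    obtain ⟨o1, o2, o3, m1, m2, m3, n1, n2, n3⟩ := two_lt_card_iff.1 (not_le.1 e)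
    obtain ⟨i1, l1, e1, x1, y1, p1, q1, r1⟩ := a1 o1 m1
    obtain ⟨i2, l2, e2, x2, y2, p2, q2, r2⟩ := a1 o2 m2
    obtain ⟨i3, l3, e3, x3, y3, p3, q3, r3⟩ := a1 o3 m3
    exact (natM_of hM h4 hR (hn j₀)).1.three l1 two l2 l3 (a2 _ m1 _ m2 n1 _ _ _ _ e1 e2) (a2 _ m1 _ m3 n2 _ _ _ _ e1 e3)
      (a2 _ m2 _ m3 n3 _ _ _ _ e2 e3) p1 p2 q2 p3
      (h5 j₀ _ (Or.inr ⟨_, m1, r1.symm⟩) _ (Or.inr ⟨_, m2, r2.symm⟩))
      (h5 j₀ _ (Or.inr ⟨_, m1, r1.symm⟩) _ (Or.inr ⟨_, m3, r3.symm⟩))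
      (h5 j₀ _ (Or.inr ⟨_, m2, r2.symm⟩) _ (Or.inr ⟨_, m3, r3.symm⟩))
  let f : PD m → PD m := fun o => if ps o.1.2 = m then o else gP m o
  have hf : ∀ o ∈ O, (f o = o ∧ lc m (D.R.vec (true, o)) < lc m (D.R.vec (true, gP m o))) ∨
      (f o = gP m o ∧ lc m (D.R.vec (true, gP m o)) < lc m (D.R.vec (true, o))) := fun o ho => by
    rw [hR]
    obtain ⟨i, hi, rfl | rfl⟩ := pm_of_ne (h2 o ho).2.1
    · exact Or.inr ⟨if_neg (show m - 1 ≠ m by omega), by rw [gP_dp]; exact lc_lt hi⟩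
    · exact Or.inl ⟨if_pos (show 2 * m - 1 - (m - 1) = m by omega), by rw [gP_dm]; exact lc_lt hi⟩
  have a4 := fun j => deg (F.H j) (E_ne h4 hR _) (gP m) f (lc m) S O c (fun o ho => (h2 o ho).2.2.2) hf (h5 j)
  have a5 := card_deg gP_gP h1 (fun o ho => ⟨(h2 o ho).1, (h2 o ho).2.2.1⟩) fun o ho => (hf o ho).imp And.left And.left
  have a6 := card_nsmul_le_sum univ _ (2 * (Ix (S ∪ O.image f)).card) fun j _ => show _ ≤ 2 * ((F.H j).d - _) by
    have b1 := (a4 j).2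
    have b2 := (F.H j).cL_add (S ∪ O.image f)
    rw [(natM_of hM h4 hR (hn j)).2] at b2
    refine Nat.mul_le_mul_left 2 (le_trans ?_ (Nat.sub_le_sub_left b1 _))
    omega
  have a7 := a6.trans h6
  rw [card_univ, hJ, smul_eq_mul, ← a5] at a7
  obtain ⟨a, b1, b2, b3⟩ := ((hM p m h4).2.1 _ (hR ▸ (a4 j₀).1)).2.2.2 (by
    have := card_union_le S O
    have := card_pos.2 h3
    exact card_pos.1 (by omega)) (by nlinarith)
  have a8 : ((S ∪ O.image f).filter fun b => b.1.2 = a) ⊆ O.image f := fun b hb => by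
    obtain ⟨c1, c2⟩ := mem_filter.1 hb
    refine (mem_union.1 c1).resolve_left fun e => b2 (mem_biUnion.2 ⟨_, mem_union_left _ (h1 b e), ?_⟩)
    rw [gP_val, c2, mem_insert, mem_singleton]
    right
    rcases b1 with rfl | rfl
    · exact (if_pos (Or.inl (show m - 1 + 1 = m by omega))).symm
    · exact (if_pos (Or.inr (show 2 * m - 1 - (m - 1) = m by omega))).symm
  have a9 := (card_le_card a8).trans card_image_le
  omega

end Cfsg.Agent.TwoF.DC.TBD.DD
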