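import Cfsg.Agent.TwoF.DC.TBD.IfD
import Cfsg.Agent.TwoF.DC.Rep

/-!
# TwoF, defining characteristic, type D, `boxD` (1): the natural module (helper77)
-/

set_option autoImplicit false
set_option linter.unusedSectionVars false

namespace Cfsg.Agent.TwoF.DC.TBD.DD

open Finset Module Matrix Sum Cfsg.Agent.TwoF.DC.TC Cfsg.Agent.TwoF.Gen

variable {m : ℕ} [hm : Fact (2 ≤ m)]

/-- the weight of a signed index -/
def om (a : II m) : Fin m → ℤ := fun i => rd (zd i) ⬝ᵥ wv a

theorem e2_om (a : II m) : e2 (om a) = (2 : ℤ) • wv a :=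
  (isW_D.1 fun i => by show rd (zd i) ⬝ᵥ _ = _; rw [dotProduct_smul, smul_eq_mul]; rfl).symm

theorem om_ne {a b : II m} (h : a ≠ b) : om a ≠ om b := fun e =>
  h (wv_inj (smul_right_injective _ (two_ne_zero (α := ℤ)) (show (2 : ℤ) • wv a = (2 : ℤ) • wv b by
    rw [← e2_om, e, e2_om])))

theorem om_add {b : PD m} {x y : II m} (h : IsD b x y) : om x.swap + (eD m).rc.wt (true, b) = om y :=
  e2_inj (by rw [e2_add, e2_om, e2_om, e2_wt_true, h.rd, wv_swap]; module)

theorem pair_om {b : PD m} {x y : II m} (h : IsD b x y) (a : II m) :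
    (eD m).rc.pair (om a) (true, b) = xv (wv a) x + xv (wv a) y := by
  have h1 := two_pair_true (om a) b
  rw [e2_om, dotProduct_smul, h.dot, smul_eq_mul] at h1
  omega

omit hm in
theorem isD_dp {i j : Fin m} (h : i < j) : IsD (dp i j h) (inl i) (inl j) := Or.inl rfl
omit hm in
theorem isD_dm {i j : Fin m} (h : i < j) : IsD (dm i j h) (inl i) (inr j) := Or.inl rfl

variable {R : RC (Fin m) (PD m)} {p : ℕ} {k L : Type} [Field k] [AddCommGroup L] [Module k L]

theorem comm_pm (hR : R = (eD m).rc) (H : HW R p k L) {i j : Fin m} (h : i < j) :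
    H.E (true, dp i j h) 1 * H.E (true, dm i j h) 1 = H.E (true, dm i j h) 1 * H.E (true, dp i j h) 1 := by
  subst hR
  have e : (eD m).E ((eD m).rc.vec (true, dp i j h) + (eD m).rc.vec (true, dm i j h)) = wv (inl i) + wv (inl i) := by
    rw [Euc.E_add, Euc.E_vec, Euc.E_vec]
    show rd _ + rd _ = Pi.single i 1 + Pi.single i 1
    rw [rd_dp, rd_dm]; abel
  refine H.br0 _ _ (fun h0 => ?_) fun h0 => ?_
  · rw [h0, Euc.E_zero] at e
    have := congrFun e i
    simp [wv] at this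
  · obtain ⟨a, b, h1, h2, h3⟩ := (isRt_D _).1 h0
    rcases pair_eq h2 (h3.symm.trans e) with ⟨rfl, rfl⟩ | ⟨rfl, rfl⟩ <;> exact h1 rfl

/-- the natural module -/
structure NatM (H : HW R p k L) : Prop where
  hR : R = (eD m).rc
  min : H.Min
  d : H.d = 2 * m
  wt : ∀ μ, H.IsWt μ ↔ ∃ a, e2 μ = (2 : ℤ) • wv a

/-- the operators `x e_(ε_i + ε_m) + y e_(ε_i - ε_m)` -/
def UU (H : HW R p k L) (i : Fin m) (h : i < lst m) (x y : k) : Module.End k L :=
  x • H.E (true, dp i (lst m) h) 1 + y • H.E (true, dm i (lst m) h) 1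

theorem UU_apply (H : HW R p k L) (i : Fin m) (h : i < lst m) (x y : k) (v : L) :
    UU H i h x y v = x • H.E (true, dp i (lst m) h) 1 v + y • H.E (true, dm i (lst m) h) 1 v := rfl

namespace NatM

variable {H : HW R p k L} (h : NatM H)
include h

theorem isWt (a : II m) : H.IsWt (om a) := (h.wt _).2 ⟨a, e2_om a⟩

theorem ex (a : II m) : ∃ v ∈ H.w (om a), v ≠ 0 := H.isWt_iff.1 (h.isWt a)

theorem E_w {b : PD m} {x y : II m} (hb : IsD b x y) {v : L} (hv : v ∈ H.w (om x.swap)) :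
    H.E (true, b) 1 v ∈ H.w (om y) := by
  obtain rfl := h.hR
  rw [← om_add hb]; exact H.E1_w _ hv

theorem E_zero {b : PD m} {x y a : II m} (hb : IsD b x y) (h1 : x ≠ a.swap) (h2 : y ≠ a.swap) {v : L}
    (hv : v ∈ H.w (om a)) : H.E (true, b) 1 v = 0 := by
  obtain rfl := h.hR
  refine (h.min.ext (h.isWt a)).E_eq_zero ?_ Nat.one_pos hv
  rw [pair_om hb, xv_wv, xv_wv, if_neg h1, if_neg h2]
  split_ifs <;> omega

theorem E_inj {b : PD m} {x y : II m} (hb : IsD b x y) {v : L} (hv : v ∈ H.w (om x.swap)) (h0 : H.E (true, b) 1 v = 0) :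
    v = 0 := by
  obtain rfl := h.hR
  refine h.min.x.ext (h.min.ext (h.isWt x.swap)) ?_ hv h0
  rw [pair_om hb, xv_wv, xv_wv, if_neg (swap_ne x).symm, swap_swap, if_pos rfl, if_neg hb.ne, if_neg hb.ne'.symm]
  omega

theorem line {a : II m} {u v : L} (hu : u ∈ H.w (om a)) (hv : v ∈ H.w (om a)) (h0 : u ≠ 0) : ∃ c : k, v = c • u := by
  obtain ⟨c, hc⟩ := (finrank_eq_one_iff_of_nonzero' (⟨u, hu⟩ : H.w (om a)) fun e => h0 (congrArg Subtype.val e)).1
    (h.min.m_eq (h.isWt a)) ⟨v, hv⟩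
  exact ⟨c, (congrArg Subtype.val hc).symm⟩

variable {i : Fin m} (hi : i < lst m)

theorem p_w {v : L} (hv : v ∈ H.w (om (inr i))) : H.E (true, dp i (lst m) hi) 1 v ∈ H.w (om (inl (lst m))) :=
  h.E_w (isD_dp hi) hv
theorem m_w {v : L} (hv : v ∈ H.w (om (inr i))) : H.E (true, dm i (lst m) hi) 1 v ∈ H.w (om (inr (lst m))) :=
  h.E_w (isD_dm hi) hv
theorem p_w' {v : L} (hv : v ∈ H.w (om (inr (lst m)))) : H.E (true, dp i (lst m) hi) 1 v ∈ H.w (om (inl i)) :=
  h.E_w (isD_dp hi).symm hv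
theorem m_w' {v : L} (hv : v ∈ H.w (om (inl (lst m)))) : H.E (true, dm i (lst m) hi) 1 v ∈ H.w (om (inl i)) :=
  h.E_w (isD_dm hi).symm hv
theorem p_inl {j : Fin m} {v : L} (hv : v ∈ H.w (om (inl j))) : H.E (true, dp i (lst m) hi) 1 v = 0 :=
  h.E_zero (isD_dp hi) inl_ne_inr inl_ne_inr hv
theorem m_inl {j : Fin m} (hj : j < lst m) {v : L} (hv : v ∈ H.w (om (inl j))) : H.E (true, dm i (lst m) hi) 1 v = 0 :=
  h.E_zero (isD_dm hi) inl_ne_inr (fun e => hj.ne' (inr_injective e)) hv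
theorem p_inr {j : Fin m} (hj : j < lst m) (hij : i ≠ j) {v : L} (hv : v ∈ H.w (om (inr j))) :
    H.E (true, dp i (lst m) hi) 1 v = 0 :=
  h.E_zero (isD_dp hi) (fun e => hij (inl_injective e)) (fun e => hj.ne' (inl_injective e)) hv
theorem m_inr {j : Fin m} (hij : i ≠ j) {v : L} (hv : v ∈ H.w (om (inr j))) : H.E (true, dm i (lst m) hi) 1 v = 0 :=
  h.E_zero (isD_dm hi) (fun e => hij (inl_injective e)) inr_ne_inl hv

theorem UU_inr {j : Fin m} (hj : j < lst m) (hij : i ≠ j) (x y : k) {v : L} (hv : v ∈ H.w (om (inr j))) :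
    UU H i hi x y v = 0 := by
  rw [UU_apply, h.p_inr hi hj hij hv, h.m_inr hi hij hv, smul_zero, smul_zero, add_zero]

theorem UU_sq (x y : k) {v : L} (hv : v ∈ H.w (om (inr i))) : UU H i hi x y (UU H i hi x y v) =
    (2 * x * y) • H.E (true, dp i (lst m) hi) 1 (H.E (true, dm i (lst m) hi) 1 v) := by
  have c : H.E (true, dm i (lst m) hi) 1 (H.E (true, dp i (lst m) hi) 1 v) =
      H.E (true, dp i (lst m) hi) 1 (H.E (true, dm i (lst m) hi) 1 v) := (LinearMap.congr_fun (comm_pm h.hR H hi) v).symm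
  simp only [UU_apply, map_add, map_smul, h.p_inl hi (h.p_w hi hv), h.m_inr hi hi.ne (h.m_w hi hv), c]
  module

/-- three commuting operators: impossible in odd characteristic -/
theorem three (h2 : (2 : k) ≠ 0) {j o : Fin m} (hj : j < lst m) (ho : o < lst m) (hij : i ≠ j) (hio : i ≠ o) (hjo : j ≠ o)
    {x y x' y' x'' y'' : k} (hx : x ≠ 0) (hx' : x' ≠ 0) (hy' : y' ≠ 0) (hx'' : x'' ≠ 0)
    (c1 : Commute (UU H i hi x y) (UU H j hj x' y')) (c2 : Commute (UU H i hi x y) (UU H o ho x'' y''))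
    (c3 : Commute (UU H j hj x' y') (UU H o ho x'' y'')) : False := by
  obtain ⟨v, hv, v0⟩ := h.ex (inr j)
  obtain ⟨u, hu, u0⟩ := h.ex (inr o)
  have a1 : UU H i hi x y (UU H j hj x' y' v) = 0 :=
    (LinearMap.congr_fun c1.eq v).trans (by rw [Module.End.mul_apply, h.UU_inr hi hj hij x y hv, map_zero])
  have a2 : UU H i hi x y (UU H o ho x'' y'' u) = 0 :=
    (LinearMap.congr_fun c2.eq u).trans (by rw [Module.End.mul_apply, h.UU_inr hi ho hio x y hu, map_zero])
  have a3 : UU H j hj x' y' (UU H o ho x'' y'' u) = 0 :=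
    (LinearMap.congr_fun c3.eq u).trans (by rw [Module.End.mul_apply, h.UU_inr hj ho hjo x' y' hu, map_zero])
  obtain ⟨c, hc⟩ := h.line (Submodule.smul_mem _ x'' (h.p_w ho hu)) (Submodule.smul_mem _ x' (h.p_w hj hv))
    (smul_ne_zero hx'' fun e => u0 (h.E_inj (isD_dp ho) hu e))
  have a4 : UU H j hj x' y' v - c • UU H o ho x'' y'' u ∈ H.w (om (inr (lst m))) := by
    rw [UU_apply, UU_apply, hc, smul_add, add_sub_add_left_eq_sub]
    exact Submodule.sub_mem _ (Submodule.smul_mem _ _ (h.m_w hj hv))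
      (Submodule.smul_mem _ _ (Submodule.smul_mem _ _ (h.m_w ho hu)))
  have a5 : UU H i hi x y (UU H j hj x' y' v - c • UU H o ho x'' y'' u) = 0 := by
    rw [map_sub, map_smul, a1, a2, smul_zero, sub_zero]
  rw [UU_apply, h.m_inr hi hi.ne a4, smul_zero, add_zero, smul_eq_zero] at a5
  have a6 := sub_eq_zero.1 (h.E_inj (isD_dp hi).symm a4 (a5.resolve_left hx))
  have a7 := h.UU_sq hj x' y' hv
  rw [show UU H j hj x' y' (UU H j hj x' y' v) = 0 by rw [a6, map_smul, a3, smul_zero], eq_comm, smul_eq_zero] at a7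
  rcases a7 with a7 | a7
  · exact mul_ne_zero (mul_ne_zero h2 hx') hy' a7
  · exact v0 (h.E_inj (isD_dm hj) hv (h.E_inj (isD_dp hj).symm (h.m_w hj hv) a7))

end NatM

/-- vectors with a triangular pattern of weights -/
theorem card_le_finrank {ι Φ : Type} [Fintype ι] [DecidableEq ι] [DecidableEq Φ] {R : RC ι Φ} (H : HW R p k L)
    {N : Submodule k L} {α : Type} [Fintype α] (μ : α → ι → ℤ) (u : α → L) (hu : ∀ a, u a ∈ N)
    (h1 : ∀ a, H.pr (μ a) (u a) ≠ 0) (h2 : ∀ a b, b ≠ a → H.pr (μ a) (u b) = 0) : Fintype.card α ≤ finrank k N := by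
  classical
  have := H.fd
  have h3 : LinearIndependent k fun a => (⟨u a, hu a⟩ : N) := Fintype.linearIndependent_iff.2 fun c hc a => by
    have h4 := congrArg (fun v : N => H.pr (μ a) v.1) hc
    simp only [Submodule.coe_sum, Submodule.coe_smul, map_sum, map_smul, Submodule.coe_zero, map_zero] at h4
    rw [sum_eq_single a (fun b _ hb => by rw [h2 a b hb, smul_zero]) (by simp)] at h4
    exact (smul_eq_zero.1 h4).resolve_right (h1 a)
  exact h3.fintype_card_le_finrank

section rep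

variable {G : Type} [Group G] {D : RDat p (Fin m) (PD m) k G} {H : HW D.R p k L} (r : H.Rep D)

omit hm in
theorem rho_min (h : H.Min) (b : PD m) (t : k) (v : L) : r.ρ (D.z b t) v = v + t • H.E (true, b) 1 v := by
  rw [r.ρ_z, finsum_eq_sum_of_support_subset _ (s := range 2) fun n hn => by
    by_contra e
    exact hn (by show _ • _ = 0; rw [h.E_eq_zero _ (by rw [mem_coe, mem_range] at e; omega), smul_zero])]
  simp [sum_range_succ, H.E_zero]

theorem rho_yy (h : H.Min) (i : Fin m) (hi : i < lst m) (s : k) (v : L) : r.ρ (yy D i hi s) v =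
    v + s • UU H i hi 1 1 v + (s * s) • H.E (true, dp i (lst m) hi) 1 (H.E (true, dm i (lst m) hi) 1 v) := by
  rw [yy, map_mul, Module.End.mul_apply, rho_min r h, rho_min r h, map_add, map_smul, UU_apply]
  module

/-- the Siegel radical of the symplectic subgroup has codimension at most `m` on the natural module -/
theorem cod_le (h : NatM H) (h2 : (2 : k) = 0) (hc : ∀ i j h h' s t, Commute (yy D i h s) (yy D j h' t)) :
    cod r.ρ (Subgroup.closure {g | (∃ b ∈ On m, ∃ t, g = D.z b t) ∨ ∃ i h s, g = yy D i h s}) ≤ m := by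
  have h0 : fst m < lst m := by have := hm.out; show 0 < m - 1; omega
  obtain ⟨v, hv, v0⟩ := h.ex (inr (fst m))
  choose u hu u0 using fun i : Fin m => h.ex (inl i)
  have ha := h.p_w h0 hv
  have hb := h.m_w h0 hv
  have hw : UU H (fst m) h0 1 1 v = H.E (true, dp _ _ h0) 1 v + H.E (true, dm _ _ h0) 1 v := by
    rw [UU_apply, one_smul, one_smul]
  have on : ∀ b ∈ On m, ∀ a : II m, ps a ≤ m → ∀ x ∈ H.w (om a), H.E (true, b) 1 x = 0 := fun b hb a ha x hx => by
    have h3 := (mem_filter.1 hb).2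
    have h4 := b.2.1
    refine h.E_zero (IsD.self b) ?_ ?_ hx <;> rw [Ne, eq_swap_iff] <;> omega
  have pm : ∀ i hi, H.E (true, dp i (lst m) hi) 1 (H.E (true, dm i (lst m) hi) 1 (UU H (fst m) h0 1 1 v)) = 0 :=
    fun i hi => by rw [hw, map_add, h.m_inr hi hi.ne hb, add_zero, h.p_inl hi (h.m_w' hi ha)]
  have fix : ∀ x, (∀ b ∈ On m, H.E (true, b) 1 x = 0) → (∀ i hi, UU H i hi 1 1 x = 0) →
      (∀ i hi, H.E (true, dp i (lst m) hi) 1 (H.E (true, dm i (lst m) hi) 1 x) = 0) →
      x ∈ fx r.ρ (Subgroup.closure {g | (∃ b ∈ On m, ∃ t, g = D.z b t) ∨ ∃ i h s, g = yy D i h s}) := by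
    intro x h3 h4 h5
    rw [mem_fx_closure]
    rintro _ (⟨b, hb, t, rfl⟩ | ⟨i, hi, s, rfl⟩)
    · rw [rho_min r h.min, h3 b hb, smul_zero, add_zero]
    · rw [rho_yy r h.min, h4, h5, smul_zero, smul_zero, add_zero, add_zero]
  have f1 : ∀ j, j < lst m → u j ∈ _ := fun j hj => fix (u j) (fun b hb => on b hb (inl j) j.2.le _ (hu j))
    (fun i hi => by rw [UU_apply, h.p_inl hi (hu j), h.m_inl hi hj (hu j), smul_zero, add_zero])
    fun i hi => by rw [h.m_inl hi hj (hu j), map_zero]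
  have f2 := fix (UU H (fst m) h0 1 1 v) (fun b hb' => by
      have := hm.out
      rw [hw, map_add, on b hb' (inl (lst m)) (lst m).2.le _ ha,
        on b hb' (inr (lst m)) (by rw [ps_inr, lst_val]; omega) _ hb, add_zero])
    (fun i hi => by
      by_cases e : i = fst m
      · subst e
        rw [h.UU_sq h0 1 1 hv, h2, zero_mul, zero_mul, zero_smul]
      have hz := h.p_w' h0 hb
      have c := congrArg (fun g => r.ρ g v) (hc i (fst m) hi h0 1 1).eq
      simp only [map_mul, Module.End.mul_apply, rho_yy r h.min, one_smul, mul_one, map_add, h.UU_inr hi h0 e 1 1 hv,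
        h.m_inr hi e hv, map_zero, add_zero, pm i hi, h.m_inl hi h0 hz,
        show UU H i hi 1 1 (H.E (true, dp _ _ h0) 1 (H.E (true, dm _ _ h0) 1 v)) = 0 by
          rw [UU_apply, h.p_inl hi hz, h.m_inl hi h0 hz, smul_zero, add_zero], zero_add] at c
      exact add_eq_left.1 c) pm
  have lt : ∀ j : Fin m, j ≠ lst m → j < lst m := fun j hj =>
    lt_of_le_of_ne (Fin.le_def.2 (by have := j.2; rw [lst_val]; omega)) hj
  have h3 := card_le_finrank H (fun j : Fin m => om (inl j)) (fun j => if j = lst m then UU H (fst m) h0 1 1 v else u j)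
    (fun j => by
      split_ifs with e
      exacts [f2, f1 j (lt j e)])
    (fun j => by
      split_ifs with e
      · rw [e, hw, map_add, H.pr_of_mem ha, H.pr_of_ne hb (om_ne inr_ne_inl), add_zero]
        exact fun e => v0 (h.E_inj (isD_dp h0) hv e)
      · rw [H.pr_of_mem (hu j)]; exact u0 j)
    fun i j hij => by
      split_ifs with e
      · rw [hw, map_add, H.pr_of_ne ha (om_ne fun e' => hij (e.trans (inl_injective e'))),
          H.pr_of_ne hb (om_ne inr_ne_inl), add_zero]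
      · exact H.pr_of_ne (hu j) (om_ne fun e' => hij (inl_injective e'))
  have h4 := h.d
  rw [Fintype.card_fin] at h3
  unfold cod; unfold HW.d at h4
  omega

end rep

end Cfsg.Agent.TwoF.DC.TBD.DD
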