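import Cfsg.Agent.TwoF.DC.TBD.IfD

/-!
# TwoF, defining characteristic, type D: the natural and the half spin modules (helper57)

* `nat_*` : the natural module;
* `Sgn y` : sign vectors, `sv η T` : the sign vector with minus signs at `T` and product `η`; `spn_*` : half spin modules;
* `SpnE.le_cL`, `Spn.le_cL` : the spin lemma.
-/

set_option autoImplicit false
set_option linter.unusedSectionVars false

namespace Cfsg.Agent.TwoF.DC.TBD

open Finset Matrix Sum Cfsg.Agent.TwoF.DC.TC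

variable {m : ℕ}

theorem mem_Ix {S : Finset (PD m)} {a : II m} : a ∈ Ix S ↔ ∃ b ∈ S, a = b.1.1 ∨ a = b.1.2 := by simp [Ix]

theorem mem_Ix' {S : Finset (PD m)} {a : II m} : a ∈ Ix S ↔ ∃ b ∈ S, ∃ y, IsD b a y := by
  rw [mem_Ix]
  refine exists_congr fun b => and_congr_right fun _ => ⟨?_, ?_⟩
  · rintro (rfl | rfl)
    exacts [⟨_, IsD.self b⟩, ⟨_, (IsD.self b).symm⟩]
  · rintro ⟨y, h | h⟩ <;> rw [h] <;> simp

theorem two_wv_inj {a b : II m} (h : (2 : ℤ) • wv a = (2 : ℤ) • wv b) : a = b :=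
  wv_inj (smul_right_injective _ two_ne_zero h)

theorem wo_wv {i j : Fin m} (hij : j ≠ i) {y : Fin m → ℤ} :
    WO ((2 : ℤ) • wv (inl i : II m)) y ↔ ∃ a, y = (2 : ℤ) • wv a := by
  have h1 : ∀ (π : Equiv.Perm (Fin m)) (ε : Fin m → ℤˣ), sp π ε ((2 : ℤ) • wv (inl i : II m)) =
      (ε (π.symm i) : ℤ) • (2 : ℤ) • wv (inl (π.symm i) : II m) := fun π ε => funext fun l => by
    simp only [sp_apply, wv, Pi.smul_apply, Pi.single_apply, smul_eq_mul, ← Equiv.eq_symm_apply]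
    split_ifs with h
    · rw [h]
    · simp
  constructor
  · rintro ⟨π, ε, -, rfl⟩
    rw [h1]
    rcases Int.units_eq_one_or (ε (π.symm i)) with h | h <;> rw [h]
    · exact ⟨inl (π.symm i), by simp⟩
    · exact ⟨inr (π.symm i), by simp [wv]⟩
  · have h0 : ((2 : ℤ) • wv (inl i : II m)) j = 0 := by simp [wv, hij]
    rintro ⟨l | l, rfl⟩
    · have h := wo_of_zero h0 (Equiv.swap i l) 1
      rw [h1] at h
      simpa using h
    · have h := wo_of_zero h0 (Equiv.swap i l) fun _ => -1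
      rw [h1] at h
      simpa [wv] using h

/-- sign vectors -/
def Sgn (y : Fin m → ℤ) : Prop := ∀ i, y i = 1 ∨ y i = -1

theorem Sgn.xv {y : Fin m → ℤ} (h : Sgn y) (a : II m) : xv y a = 1 ∨ xv y a = -1 := by
  rcases a with i | i <;> have := h i <;> simp only [TC.xv] <;> omega

theorem Sgn.neg_iff {y : Fin m → ℤ} (h : Sgn y) (b : PD m) : rd b ⬝ᵥ y < 0 ↔ TC.xv y b.1.1 = -1 ∧ TC.xv y b.1.2 = -1 := by
  have := h.xv b.1.1
  have := h.xv b.1.2
  rw [rd_dot]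
  omega

theorem Sgn.wo {x y : Fin m → ℤ} (h : Sgn x) : WO x y ↔ Sgn y ∧ ∏ i, y i = ∏ i, x i := by
  constructor
  · rintro ⟨π, ε, h1, rfl⟩
    refine ⟨fun i => ?_, ?_⟩
    · rcases Int.units_eq_one_or (ε i) with e | e <;> rcases h (π i) with e' | e' <;> simp [sp_apply, e, e']
    · simp only [sp_apply, prod_mul_distrib]
      rw [← Units.coe_prod, h1, Units.val_one, one_mul, Equiv.prod_comp π x]
  · rintro ⟨h1, h2⟩
    have h3 : ∀ i, x i * x i = 1 := fun i => by rcases h i with e | e <;> simp [e]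
    have h4 : ∀ i, ((if y i = x i then 1 else -1 : ℤˣ) : ℤ) = y i * x i := fun i => by
      rcases h i with e | e <;> rcases h1 i with e' | e' <;> simp [e, e']
    refine ⟨1, fun i => if y i = x i then 1 else -1, Units.ext ?_, funext fun i => ?_⟩
    · rw [Units.coe_prod, Units.val_one]
      simp only [h4]
      rw [prod_mul_distrib, h2, ← prod_mul_distrib]
      simp only [h3, prod_const_one]
    · rw [sp_apply, h4, Equiv.Perm.one_apply, mul_assoc, h3, mul_one]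

variable [hm : Fact (2 ≤ m)]

/-- the sign vector with minus signs at `T` (a set not containing the last index) and product `η` -/
def sv (η : ℤ) (T : Finset (Fin m)) : Fin m → ℤ := fun i =>
  if i = lst m then η * (-1) ^ T.card else if i ∈ T then -1 else 1

theorem sv_lst (η : ℤ) (T : Finset (Fin m)) : sv η T (lst m) = η * (-1) ^ T.card := if_pos rfl

theorem sv_ne (η : ℤ) (T : Finset (Fin m)) {i : Fin m} (h : i ≠ lst m) : sv η T i = if i ∈ T then -1 else 1 := if_neg h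

theorem sv_mem (η : ℤ) {T : Finset (Fin m)} {i : Fin m} (hT : lst m ∉ T) (h : i ∈ T) : sv η T i = -1 := by
  rw [sv_ne η T (ne_of_mem_of_not_mem h hT), if_pos h]

theorem sgn_sv {η : ℤ} (h : η = 1 ∨ η = -1) (T : Finset (Fin m)) : Sgn (sv η T) := fun i => by
  unfold sv
  split_ifs
  · rcases h with rfl | rfl <;> rcases neg_one_pow_eq_or ℤ T.card with e | e <;> simp [e]
  · exact Or.inr rfl
  · exact Or.inl rfl

theorem prod_sv (η : ℤ) {T : Finset (Fin m)} (hT : lst m ∉ T) : ∏ i, sv η T i = η := by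
  rw [← mul_prod_erase _ _ (mem_univ (lst m)), sv_lst, prod_congr rfl fun i hi => sv_ne η T (ne_of_mem_erase hi),
    prod_ite, prod_const_one, mul_one, prod_const, show (univ.erase (lst m)).filter (· ∈ T) = T from ?_, mul_assoc,
    ← pow_add, ← two_mul, pow_mul, neg_one_sq, one_pow, mul_one]
  ext i
  simp only [mem_filter, mem_erase, mem_univ, and_true, and_iff_right_iff_imp]
  exact fun h => ne_of_mem_of_not_mem h hT

theorem sv_inj {η : ℤ} {T T' : Finset (Fin m)} (hT : lst m ∉ T) (hT' : lst m ∉ T') (h : sv η T = sv η T') : T = T' := by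
  ext i
  by_cases e : i = lst m
  · rw [e]; exact iff_of_false hT hT'
  have h1 := congrFun h i
  rw [sv_ne _ _ e, sv_ne _ _ e] at h1
  split_ifs at h1 with e1 e2 e2 <;> simp [e1, e2] at h1 ⊢

theorem Sgn.eq_sv {y : Fin m → ℤ} (h : Sgn y) : ∃ T, lst m ∉ T ∧ y = sv (∏ i, y i) T := by
  have h0 : lst m ∉ (univ.erase (lst m)).filter fun i => y i = -1 := by simp
  refine ⟨_, h0, ?_⟩
  generalize hT : ((univ.erase (lst m)).filter fun i => y i = -1) = T at h0
  have h1 : ∀ η i, i ≠ lst m → y i = sv η T i := fun η i e => by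
    rw [sv_ne _ _ e, ← hT]
    rcases h i with e' | e' <;> simp [e, e']
  funext i
  by_cases e : i = lst m
  swap
  · exact h1 _ i e
  have h2 := prod_sv (∏ i, y i) h0
  rw [← mul_prod_erase _ _ (mem_univ (lst m)), ← prod_congr rfl fun i hi => h1 _ i (ne_of_mem_erase hi)] at h2
  nth_rewrite 2 [← mul_prod_erase _ _ (mem_univ (lst m))] at h2
  rw [e]
  exact (mul_right_cancel₀ (prod_ne_zero_iff.2 fun i _ => by have := h i; omega) h2).symm

theorem fw_lst : fw (lst m) = sv 1 ∅ := funext fun i => by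
  have := hm.out
  rw [fw, if_neg (by rw [lst_val]; omega), if_neg (by rw [lst_val]; omega)]
  simp [sv]

theorem fw_pen : fw (pen m) = sv (-1) ∅ := funext fun i => by
  have := hm.out
  have := i.2
  simp only [fw, sv, pen_val, lst_val, card_empty, notMem_empty, Fin.ext_iff, if_false, pow_zero]
  split_ifs <;> omega

theorem fw_fst (h3 : 3 ≤ m) : fw (fst m) = (2 : ℤ) • wv (inl (fst m)) := funext fun i => by
  simp only [fw, wv, fst, Pi.smul_apply, Pi.single_apply, Fin.ext_iff, smul_eq_mul]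
  split_ifs <;> omega

theorem card_pow : (univ.erase (lst m)).powerset.card = 2 ^ (m - 1) := by
  rw [card_powerset, card_erase_of_mem (mem_univ _), card_univ, Fintype.card_fin]

theorem mem_pow {T : Finset (Fin m)} : T ∈ (univ.erase (lst m)).powerset ↔ lst m ∉ T := by
  rw [mem_powerset, subset_erase, and_iff_right (subset_univ _)]

theorem card_image_sv (η : ℤ) {𝒯 : Finset (Finset (Fin m))} (h : ∀ T ∈ 𝒯, lst m ∉ T) :
    (𝒯.image (sv η)).card = 𝒯.card := card_image_of_injOn fun T hT T' hT' e => sv_inj (h T hT) (h T' hT') e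

section HW

variable {p : ℕ} {k L : Type} [Field k] [AddCommGroup L] [Module k L] {H : HW (eD m).rc p k L}

theorem lz_single {i : Fin m} (h : H.lam = Pi.single i 1) : H.lz = Pi.single i 1 := funext fun j => by
  simp only [HW.lz, h, Pi.single_apply]
  split_ifs <;> rfl

theorem e2_lz {i : Fin m} (h : H.lam = Pi.single i 1) : e2 H.lz = fw i := by rw [lz_single h, e2_single]

theorem min_isWt (h : H.Min) {μ : Fin m → ℤ} : H.IsWt μ ↔ WO (e2 H.lz) (e2 μ) :=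
  ⟨fun h1 => (ext_D H).1 (h.ext h1), fun h1 => ((ext_D H).2 h1).isWt⟩

theorem min_d_le (h : H.Min) (A : Finset (Fin m → ℤ)) (hA : ∀ y, WO (e2 H.lz) y → y ∈ A) : H.d ≤ A.card := by
  rw [h.d_eq]
  exact card_le_card_of_injOn e2 (fun μ hμ => hA _ ((min_isWt h).1 (H.mem_Wts.1 hμ))) e2_inj.injOn

theorem min_cG_le (h : H.Min) (S : Finset (PD m)) (A : Finset (Fin m → ℤ))
    (hA : ∀ y, WO (e2 H.lz) y → (∃ b ∈ S, rd b ⬝ᵥ y < 0) → y ∈ A) : H.cG S ≤ A.card := by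
  classical
  refine (h.cG_le S (A.preimage e2 e2_inj.injOn) fun μ h1 h2 => ?_).trans
    (by rw [card_preimage]; exact card_filter_le _ _)
  simp only [pair_neg_iff] at h2
  exact mem_preimage.2 (hA _ ((ext_D H).1 h1) h2)

variable (H) in
theorem ext_le_d (A : Finset (Fin m → ℤ)) (hA : ∀ y ∈ A, WO (e2 H.lz) y) : A.card ≤ H.d :=
  card_le_dD H H.lz_dom (fun _ => le_rfl) A hA

/-! ### the natural module -/

section nat

variable (h3 : 3 ≤ m) (h : Nt H.lam)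
include h3 h

theorem nat_e2 : e2 H.lz = (2 : ℤ) • wv (inl (fst m)) := (e2_lz h).trans (fw_fst h3)

theorem nat_wo {y : Fin m → ℤ} : WO (e2 H.lz) y ↔ ∃ a, y = (2 : ℤ) • wv a := by
  rw [nat_e2 h3 h]
  exact wo_wv (j := lst m) fun e => by
    have : (lst m).1 = 0 := congrArg Fin.val e
    rw [lst_val] at this
    omega

theorem nat_min : H.Min := fun b => by
  have h1 := two_pair_true H.lz b
  have := b.2
  rw [nat_e2 h3 h, rd_dot, xv_smul, xv_smul, xv_wv', xv_wv'] at h1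
  split_ifs at h1 <;> omega

theorem nat_isWt (μ : Fin m → ℤ) : H.IsWt μ ↔ ∃ a, e2 μ = (2 : ℤ) • wv a := (min_isWt (nat_min h3 h)).trans (nat_wo h3 h)

theorem nat_d : H.d = 2 * m := by
  have h1 : (univ.image fun a : II m => (2 : ℤ) • wv a).card = 2 * m := by
    rw [card_image_of_injective _ fun a b => two_wv_inj, card_univ, Fintype.card_sum, Fintype.card_fin, two_mul]
  refine (le_antisymm (min_d_le (nat_min h3 h) _ fun y hy => ?_) (ext_le_d H _ fun y hy => ?_)).trans h1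
  · obtain ⟨a, rfl⟩ := (nat_wo h3 h).1 hy
    exact mem_image_of_mem _ (mem_univ a)
  · obtain ⟨a, -, rfl⟩ := mem_image.1 hy
    exact (nat_wo h3 h).2 ⟨a, rfl⟩

theorem nat_c [Fact p.Prime] [CharP k p] (S : Finset (PD m)) : H.cL S = (Ix S).card ∧ H.cG S = (Ix S).card := by
  have h1 : ((Ix S).image fun a : II m => (2 : ℤ) • wv a.swap).card = (Ix S).card :=
    card_image_of_injective _ fun a b e => swap_inj.1 (two_wv_inj e)
  have h2 : ∀ (a : II m) (b : PD m), rd b ⬝ᵥ (2 : ℤ) • wv a.swap < 0 ↔ a = b.1.1 ∨ a = b.1.2 := fun a b => by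
    have := b.2
    have := ps_swap a
    rw [rd_dot, xv_smul, xv_smul, xv_wv', xv_wv', ps_eq, ps_eq]
    split_ifs <;> omega
  have h4 : (Ix S).card ≤ H.cL S := h1 ▸ card_le_cLD H S H.lz_dom (fun _ => le_rfl) _ fun y hy => by
    obtain ⟨a, ha, rfl⟩ := mem_image.1 hy
    obtain ⟨b, hb, e⟩ := mem_Ix.1 ha
    exact ⟨(nat_wo h3 h).2 ⟨_, rfl⟩, b, hb, (h2 a b).2 e⟩
  have h5 : H.cG S ≤ (Ix S).card := h1 ▸ min_cG_le (nat_min h3 h) S _ fun y hy ⟨b, hb, e⟩ => by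
    obtain ⟨a, rfl⟩ := (nat_wo h3 h).1 hy
    rw [← swap_swap a] at e ⊢
    exact mem_image_of_mem _ (mem_Ix.2 ⟨b, hb, (h2 _ b).1 e⟩)
  have h6 := H.cL_le_cG S
  omega

end nat

/-! ### the half spin modules -/

variable (H) in
/-- the half spin module whose weights are the sign vectors of product `η` -/
def SpnE (η : ℤ) : Prop := (η = 1 ∧ H.lam = Pi.single (lst m) 1) ∨ (η = -1 ∧ H.lam = Pi.single (pen m) 1)

theorem Spn.exists (h : Spn H.lam) : ∃ η, SpnE H η := h.elim (fun h => ⟨_, Or.inr ⟨rfl, h⟩⟩) fun h => ⟨_, Or.inl ⟨rfl, h⟩⟩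

namespace SpnE

variable {η : ℤ} (h : SpnE H η)
include h

theorem spn : Spn H.lam := h.elim (fun h => Or.inr h.2) fun h => Or.inl h.2

theorem sign : η = 1 ∨ η = -1 := h.imp And.left And.left

theorem e2_eq : e2 H.lz = sv η ∅ := by
  rcases h with ⟨rfl, h⟩ | ⟨rfl, h⟩
  exacts [(e2_lz h).trans fw_lst, (e2_lz h).trans fw_pen]

theorem wo {y : Fin m → ℤ} : WO (e2 H.lz) y ↔ Sgn y ∧ ∏ i, y i = η := by
  rw [h.e2_eq, (sgn_sv h.sign _).wo, prod_sv η (notMem_empty _)]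

theorem wo' {y : Fin m → ℤ} : WO (e2 H.lz) y ↔ ∃ T, lst m ∉ T ∧ y = sv η T := by
  rw [h.wo]
  constructor
  · rintro ⟨h1, rfl⟩
    exact h1.eq_sv
  · rintro ⟨T, hT, rfl⟩
    exact ⟨sgn_sv h.sign T, prod_sv η hT⟩

theorem min : H.Min := fun b => by
  have h1 := two_pair_true H.lz b
  have := (sgn_sv h.sign ∅).xv b.1.1
  have := (sgn_sv h.sign ∅).xv b.1.2
  rw [h.e2_eq, rd_dot] at h1
  omega

theorem isWt (μ : Fin m → ℤ) : H.IsWt μ ↔ Sgn (e2 μ) ∧ ∏ i, e2 μ i = η := (min_isWt h.min).trans h.wo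

theorem isWt' (μ : Fin m → ℤ) : H.IsWt μ ↔ ∃ T, lst m ∉ T ∧ e2 μ = sv η T := (min_isWt h.min).trans h.wo'

theorem d_eq : H.d = 2 ^ (m - 1) := by
  rw [← card_pow, ← card_image_sv η fun T hT => mem_pow.1 hT]
  refine le_antisymm (min_d_le h.min _ fun y hy => ?_) (ext_le_d H _ fun y hy => ?_)
  · obtain ⟨T, hT, rfl⟩ := h.wo'.1 hy
    exact mem_image_of_mem _ (mem_pow.2 hT)
  · obtain ⟨T, hT, rfl⟩ := mem_image.1 hy
    exact h.wo'.2 ⟨T, mem_pow.1 hT, rfl⟩

/-- upper bound -/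
theorem cG_le (S : Finset (PD m)) (𝒯 : Finset (Finset (Fin m)))
    (h𝒯 : ∀ T, lst m ∉ T → (∃ b ∈ S, rd b ⬝ᵥ sv η T < 0) → T ∈ 𝒯) : H.cG S ≤ 𝒯.card :=
  (min_cG_le h.min S (𝒯.image (sv η)) fun y hy hb => by
    obtain ⟨T, hT, rfl⟩ := h.wo'.1 hy
    exact mem_image_of_mem _ (h𝒯 T hT hb)).trans card_image_le

variable [Fact p.Prime] [CharP k p]

/-- **the spin lemma** -/
theorem le_cL (S : Finset (PD m)) (𝒯 : Finset (Finset (Fin m)))
    (h𝒯 : ∀ T ∈ 𝒯, lst m ∉ T ∧ ∃ b ∈ S, rd b ⬝ᵥ sv η T < 0) : 𝒯.card ≤ H.cL S := by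
  rw [← card_image_sv η fun T hT => (h𝒯 T hT).1]
  refine card_le_cLD H S H.lz_dom (fun _ => le_rfl) _ fun y hy => ?_
  obtain ⟨T, hT, rfl⟩ := mem_image.1 hy
  exact ⟨h.wo'.2 ⟨T, (h𝒯 T hT).1, rfl⟩, (h𝒯 T hT).2⟩

/-- the spin lemma, with the exceptions -/
theorem le_cL_add (S : Finset (PD m)) (𝒰 : Finset (Finset (Fin m)))
    (h𝒰 : ∀ T, lst m ∉ T → T ∉ 𝒰 → ∃ b ∈ S, rd b ⬝ᵥ sv η T < 0) : 2 ^ (m - 1) ≤ H.cL S + 𝒰.card := by
  rw [← card_pow]
  refine card_le_card_sdiff_add_card.trans (Nat.add_le_add_right (h.le_cL S _ fun T hT => ?_) _)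
  rw [mem_sdiff, mem_pow] at hT
  exact ⟨hT.1, h𝒰 T hT.1 hT.2⟩

end SpnE

theorem Spn.min (h : Spn H.lam) : H.Min := h.exists.elim fun _ h => h.min

theorem Spn.d_eq (h : Spn H.lam) : H.d = 2 ^ (m - 1) := h.exists.elim fun _ h => h.d_eq

theorem Spn.sgn (h : Spn H.lam) {μ : Fin m → ℤ} (hμ : H.IsWt μ) : Sgn (e2 μ) :=
  h.exists.elim fun _ h => ((h.isWt μ).1 hμ).1

/-- **the spin lemma**, both half spin modules: `T` contains `i`, `j` with `ε_i + ε_j ∈ S`, or `i` with `ε_i ± ε_m ∈ S` -/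
theorem Spn.le_cL [Fact p.Prime] [CharP k p] (h : Spn H.lam) (S : Finset (PD m)) (𝒯 : Finset (Finset (Fin m)))
    (h𝒯 : ∀ T ∈ 𝒯, lst m ∉ T ∧ ((∃ i ∈ T, ∃ j ∈ T, ∃ hij, dp i j hij ∈ S) ∨
      ∃ i ∈ T, ∃ hi, dp i (lst m) hi ∈ S ∧ dm i (lst m) hi ∈ S)) : 𝒯.card ≤ H.cL S := by
  obtain ⟨η, h⟩ := h.exists
  refine h.le_cL S 𝒯 fun T hT => ⟨(h𝒯 T hT).1, ?_⟩
  obtain ⟨h0, ⟨i, hi, j, hj, hij, h1⟩ | ⟨i, hi, hi', h1, h2⟩⟩ := h𝒯 T hT
  · exact ⟨_, h1, by rw [dp_dot, sv_mem η h0 hi, sv_mem η h0 hj]; norm_num⟩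
  · rcases sgn_sv h.sign T (lst m) with e | e
    · exact ⟨_, h2, by rw [dm_dot, sv_mem η h0 hi, e]; norm_num⟩
    · exact ⟨_, h1, by rw [dp_dot, sv_mem η h0 hi, e]; norm_num⟩

end HW

end Cfsg.Agent.TwoF.DC.TBD
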