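import Cfsg.Agent.TwoF.DC.TBD.MnA

/-!
# TwoF, defining characteristic, type D: natural and half spin modules (helper93, task 523)

* natural module: `nat_min`, `nat_isWt`, `nat_d`, `nat_cL`, `nat_cG`;
* half spin modules: `sgn l` the product of the signs, `spv s T` the sign vector with the minus signs in `T` (last sign
  forced), `spin_min`, `spin_isWt`, `spin_abs`, `spin_d`, **`spin_le`** (spin lemma), `spin_cG_le`, and the counts
  `spin_pm`, `spin_On`, `spin_Me`, `spin_nine`, `spin_M1`;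
* `boxMin`.
-/

set_option autoImplicit false
set_option linter.unusedSectionVars false

namespace Cfsg.Agent.TwoF.DC.TBD.Mn

open Finset Matrix Sum Cfsg.Agent.TwoF.DC.TC

variable {m : ℕ}

/-! ### sign vectors -/

/-- a sign vector -/
def uv (ε : Fin m → ℤˣ) : Fin m → ℤ := fun i => ε i

theorem uv_inj : Function.Injective (uv (m := m)) := fun _ _ h => funext fun i => Units.ext (congrFun h i)

theorem wo_uv {δ : Fin m → ℤˣ} {y : Fin m → ℤ} : WO (uv δ) y ↔ ∃ ε, ∏ i, ε i = ∏ i, δ i ∧ y = uv ε := by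
  constructor
  · rintro ⟨π, ε, h, rfl⟩
    refine ⟨ε * δ ∘ π, ?_, funext fun i => by simp [sp, uv]⟩
    simp only [Pi.mul_apply, prod_mul_distrib, h, one_mul, Function.comp_apply]
    exact Equiv.prod_comp π δ
  · rintro ⟨ε, h, rfl⟩
    refine ⟨1, ε * δ, ?_, funext fun i => ?_⟩
    · simp only [Pi.mul_apply, prod_mul_distrib, h, Int.units_mul_self]
    · simp only [sp, uv, Pi.mul_apply, Equiv.Perm.one_apply, ← Units.val_mul, mul_assoc, Int.units_mul_self, mul_one]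

theorem xv_uv (ε : Fin m → ℤˣ) (a : II m) : xv (uv ε) a = 1 ∨ xv (uv ε) a = -1 := by
  rcases a with i | i <;> rcases Int.units_eq_one_or (ε i) with h | h <;> simp [xv, uv, h]

variable [hm : Fact (2 ≤ m)]

/-- the signs: minus in `T`, the last sign is such that the product is `s` -/
def spu (s : ℤˣ) (T : Finset (Fin m)) : Fin m → ℤˣ := fun i =>
  if i = lst m then s * (-1) ^ T.card else if i ∈ T then -1 else 1

/-- the sign vector with minus signs in `T` and product `s` -/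
def spv (s : ℤˣ) (T : Finset (Fin m)) : Fin m → ℤ := uv (spu s T)

theorem spv_lst (s : ℤˣ) (T : Finset (Fin m)) : spv s T (lst m) = s * (-1) ^ T.card := by simp [spv, uv, spu]
theorem spv_mem (s : ℤˣ) {T : Finset (Fin m)} {i : Fin m} (h : i ≠ lst m) (hi : i ∈ T) : spv s T i = -1 := by
  simp [spv, uv, spu, h, hi]
theorem spv_notMem (s : ℤˣ) {T : Finset (Fin m)} {i : Fin m} (h : i ≠ lst m) (hi : i ∉ T) : spv s T i = 1 := by
  simp [spv, uv, spu, h, hi]
theorem spv_abs (s : ℤˣ) (T : Finset (Fin m)) (i : Fin m) : spv s T i = 1 ∨ spv s T i = -1 := xv_uv _ (inl i)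

theorem prod_spu (s : ℤˣ) {T : Finset (Fin m)} (hT : lst m ∉ T) : ∏ i, spu s T i = s := by
  rw [← mul_prod_erase _ _ (mem_univ (lst m)),
    prod_congr rfl fun i hi => (show spu s T i = if i ∈ T then -1 else 1 from if_neg (ne_of_mem_erase hi)),
    prod_ite, prod_const, prod_const_one, mul_one, filter_mem_eq_inter,
    inter_eq_right.2 fun i hi => mem_erase.2 ⟨fun h : i = lst m => hT (h ▸ hi), mem_univ i⟩, spu, if_pos rfl, mul_assoc,
    Int.units_mul_self, mul_one]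

theorem spv_inj (s : ℤˣ) {T T' : Finset (Fin m)} (hT : lst m ∉ T) (hT' : lst m ∉ T') (h : spv s T = spv s T') : T = T' := by
  ext i
  by_cases hi : i = lst m
  · rw [hi]; exact iff_of_false hT hT'
  have h1 := congrFun h i
  constructor <;> intro h2 <;> by_contra h3
  · rw [spv_mem s hi h2, spv_notMem s hi h3] at h1; omega
  · rw [spv_mem s hi h2, spv_notMem s hi h3] at h1; omega

theorem exists_spu (ε : Fin m → ℤˣ) : ∃ T, lst m ∉ T ∧ ε = spu (∏ i, ε i) T := by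
  let T := (univ.erase (lst m)).filter fun i => ε i = -1
  have hT : lst m ∉ T := fun h => notMem_erase _ _ (mem_filter.1 h).1
  have h1 : ∀ i ∈ univ.erase (lst m), ε i = spu (∏ i, ε i) T i := fun i hi => by
    rw [spu, if_neg (ne_of_mem_erase hi)]
    split_ifs with h
    · exact (mem_filter.1 h).2
    · exact (Int.units_eq_one_or _).resolve_right fun e => h (mem_filter.2 ⟨hi, e⟩)
  refine ⟨T, hT, funext fun i => ?_⟩
  by_cases hi : i = lst m
  · have h2 := prod_spu (∏ i, ε i) hT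
    rw [← mul_prod_erase _ _ (mem_univ (lst m)), ← prod_congr rfl h1] at h2
    nth_rw 2 [← mul_prod_erase _ _ (mem_univ (lst m))] at h2
    rw [hi]
    exact (mul_right_cancel h2).symm
  · exact h1 i (mem_erase.2 ⟨hi, mem_univ i⟩)

/-- the product of the signs of the weights of a half spin module -/
def sgn (l : Fin m → ℕ) : ℤˣ := if l = Pi.single (lst m) 1 then 1 else -1

theorem pen_ne_lst : pen m ≠ lst m := fun h => by
  have := hm.out
  have := congrArg Fin.val h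
  rw [pen_val, lst_val] at this
  omega

theorem sgn_lst : sgn (Pi.single (lst m) 1 : Fin m → ℕ) = 1 := if_pos rfl
theorem sgn_pen : sgn (Pi.single (pen m) 1 : Fin m → ℕ) = -1 := if_neg fun h => by
  simpa [pen_ne_lst] using congrFun h (pen m)

theorem eq_lst_iff {i : Fin m} : i = lst m ↔ i.1 + 1 = m := by
  have := hm.out
  rw [Fin.ext_iff, lst_val]
  omega

theorem lt_lst {i : Fin m} (h : i ≠ lst m) : i < lst m := by
  have := i.2
  rw [Ne, eq_lst_iff] at h
  rw [Fin.lt_def, lst_val]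
  omega

theorem fw_lst : fw (lst m) = spv 1 ∅ := funext fun i => by
  have := hm.out
  by_cases h : i = lst m
  · rw [h, spv_lst, card_empty, pow_zero, mul_one, Units.val_one]; simp only [fw, lst_val]; split_ifs <;> omega
  · rw [spv_notMem _ h (notMem_empty _)]; simp only [fw, lst_val]; split_ifs <;> omega

theorem fw_pen : fw (pen m) = spv (-1) ∅ := funext fun i => by
  have := hm.out
  by_cases h : i = lst m
  · rw [h, spv_lst, card_empty, pow_zero, mul_one, Units.val_neg, Units.val_one]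
    simp only [fw, lst_val, pen_val]; split_ifs <;> omega
  · rw [spv_notMem _ h (notMem_empty _)]
    rw [eq_lst_iff] at h
    simp only [fw, pen_val]; split_ifs <;> omega

theorem fw_fst (h3 : 3 ≤ m) : fw (fst m) = (2 : ℤ) • wv (inl (fst m)) := funext fun i => by
  simp only [fw, fst_val, wv, Pi.smul_apply, Pi.single_apply, Fin.ext_iff, smul_eq_mul]
  split_ifs <;> omega

omit hm in
theorem wo_wv {j : Fin m} {y : Fin m → ℤ} (h : WO ((2 : ℤ) • wv (inl j)) y) : ∃ a, y = (2 : ℤ) • wv a := by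
  obtain ⟨π, ε, -, rfl⟩ := h
  rcases Int.units_eq_one_or (ε (π.symm j)) with h | h
  · refine ⟨inl (π.symm j), funext fun i => ?_⟩
    simp only [sp, wv, Pi.smul_apply, Pi.single_apply, smul_eq_mul, Equiv.eq_symm_apply]
    split_ifs with e
    · rw [← e, Equiv.symm_apply_apply] at h; simp [h]
    · simp
  · refine ⟨inr (π.symm j), funext fun i => ?_⟩
    simp only [sp, wv, Pi.smul_apply, Pi.neg_apply, Pi.single_apply, smul_eq_mul, Equiv.eq_symm_apply]
    split_ifs with e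
    · rw [← e, Equiv.symm_apply_apply] at h; simp [h]
    · simp

theorem wo_fst (a : II m) : WO ((2 : ℤ) • wv (inl (fst m))) ((2 : ℤ) • wv a) := by
  have h0 : ((2 : ℤ) • wv (inl (fst m) : II m)) (lst m) = 0 := by
    have := hm.out
    simp only [wv, Pi.smul_apply, Pi.single_apply, Fin.ext_iff, fst_val, lst_val, smul_eq_mul]
    split_ifs <;> omega
  have h1 : ∀ i j : Fin m, Equiv.swap (fst m) i j = fst m ↔ j = i := fun i j => by
    rw [Equiv.swap_apply_eq_iff, Equiv.swap_apply_left]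
  rcases a with i | i
  · have h := wo_of_zero h0 (Equiv.swap (fst m) i) 1
    rwa [show sp (Equiv.swap (fst m) i) 1 _ = (2 : ℤ) • wv (inl i) from funext fun j => by
      simp [sp, wv, Pi.single_apply, h1]] at h
  · have h := wo_of_zero h0 (Equiv.swap (fst m) i) fun _ => -1
    rwa [show sp (Equiv.swap (fst m) i) (fun _ => -1) _ = (2 : ℤ) • wv (inr i) from funext fun j => by
      by_cases e : j = i <;> simp [sp, wv, Pi.single_apply, h1, e]] at h

omit hm in
theorem two_wv_inj : Function.Injective fun a : II m => (2 : ℤ) • wv a := fun _ _ h =>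
  wv_inj (smul_right_injective _ two_ne_zero h)

omit hm in
/-- the pairing of a root with a weight of the natural module -/
theorem rd_wv_neg {b : PD m} {a : II m} : rd b ⬝ᵥ ((2 : ℤ) • wv a) < 0 ↔ a.swap = b.1.1 ∨ a.swap = b.1.2 := by
  have := b.2
  have := ps_lt a
  rw [rd_dot, xv_smul, xv_smul, xv_wv', xv_wv', ps_eq, ps_eq, ps_swap']
  split_ifs <;> omega

section HW

variable {p : ℕ} {k L : Type} [Field k] [AddCommGroup L] [Module k L] (H : HW (eD m).rc p k L)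

theorem e2_lz {l : Fin m} (h : H.lam = Pi.single l 1) : e2 H.lz = fw l := by
  rw [← e2_single]
  congr 1
  funext i
  rw [H.lz_apply, h, Pi.single_apply, Pi.single_apply]
  split_ifs <;> rfl

variable {H}

theorem min_isWt (h : H.Min) {μ : Fin m → ℤ} : H.IsWt μ ↔ WO (e2 H.lz) (e2 μ) :=
  ⟨fun h1 => (ext_D H).1 (h.ext h1), fun h1 => ((ext_D H).2 h1).isWt⟩

theorem min_d_le (h : H.Min) (B : Finset (Fin m → ℤ)) (hB : ∀ μ, H.IsWt μ → e2 μ ∈ B) : H.d ≤ B.card := by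
  rw [h.d_eq]
  exact card_le_card_of_injOn e2 (fun μ hμ => hB μ (H.mem_Wts.1 hμ)) e2_inj.injOn

theorem min_cG_le (h : H.Min) (S : Finset (PD m)) (B : Finset (Fin m → ℤ))
    (hB : ∀ μ, H.IsWt μ → (∃ b ∈ S, rd b ⬝ᵥ e2 μ < 0) → e2 μ ∈ B) : H.cG S ≤ B.card := by
  classical
  refine (h.cG_le S (H.Wts.filter fun μ => e2 μ ∈ B) fun μ h1 h2 => ?_).trans
    (card_le_card_of_injOn e2 (fun μ hμ => (mem_filter.1 hμ).2) e2_inj.injOn)
  simp only [pair_neg_iff] at h2
  exact mem_filter.2 ⟨H.mem_Wts.2 h1.isWt, hB μ h1.isWt h2⟩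

theorem min_cG (h : H.Min) (S : Finset (PD m)) : H.cG S = H.cL S := H.cG_eq_cL (h.kerL_le_kerG S)

/-! ### the natural module -/

section nat

variable (h3 : 3 ≤ m) (hN : Nt H.lam)
include h3 hN

theorem nat_lz : e2 H.lz = (2 : ℤ) • wv (inl (fst m)) := (e2_lz H hN).trans (fw_fst h3)

theorem nat_min : H.Min := fun b => by
  have h := two_pair_true H.lz b
  have := b.2
  rw [nat_lz h3 hN, rd_dot, xv_smul, xv_smul, xv_wv', xv_wv'] at h
  split_ifs at h <;> omega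

theorem nat_isWt {μ : Fin m → ℤ} : H.IsWt μ ↔ ∃ a, e2 μ = (2 : ℤ) • wv a := by
  rw [min_isWt (nat_min h3 hN), nat_lz h3 hN]
  exact ⟨wo_wv, fun ⟨a, h⟩ => h ▸ wo_fst a⟩

theorem nat_d : H.d = 2 * m := by
  have h1 : (univ.image fun a : II m => (2 : ℤ) • wv a).card = 2 * m := by
    rw [card_image_of_injective _ two_wv_inj, card_univ, card_II]
  refine (le_antisymm (min_d_le (nat_min h3 hN) _ fun μ hμ => ?_)
    (card_le_dD H H.lz_dom (fun _ => le_rfl) _ fun y hy => ?_)).trans h1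
  · obtain ⟨a, h⟩ := (nat_isWt h3 hN).1 hμ
    exact mem_image.2 ⟨a, mem_univ a, h.symm⟩
  · obtain ⟨a, -, rfl⟩ := mem_image.1 hy
    exact nat_lz h3 hN ▸ wo_fst a

variable [Fact p.Prime] [CharP k p]

theorem nat_cL (S : Finset (PD m)) : H.cL S = (Ix S).card := by
  have h1 : ((Ix S).image fun a : II m => (2 : ℤ) • wv a.swap).card = (Ix S).card :=
    card_image_of_injective _ fun a b h => swap_inj.1 (two_wv_inj h)
  rw [← h1]
  refine le_antisymm ((H.cL_le_cG S).trans (min_cG_le (nat_min h3 hN) S _ fun μ hμ ⟨b, hb, h⟩ => ?_))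
    (card_le_cLD H S H.lz_dom (fun _ => le_rfl) _ fun y hy => ?_)
  · obtain ⟨a, ha⟩ := (nat_isWt h3 hN).1 hμ
    rw [ha] at h ⊢
    exact mem_image.2 ⟨a.swap, mem_Ix'.2 ⟨b, hb, rd_wv_neg.1 h⟩, by rw [swap_swap]⟩
  · obtain ⟨a, ha, rfl⟩ := mem_image.1 hy
    obtain ⟨b, hb, h⟩ := mem_Ix'.1 ha
    exact ⟨nat_lz h3 hN ▸ wo_fst _, b, hb, rd_wv_neg.2 (by rwa [swap_swap])⟩

theorem nat_cG (S : Finset (PD m)) : H.cG S = (Ix S).card := (min_cG (nat_min h3 hN) S).trans (nat_cL h3 hN S)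

end nat

/-! ### the half spin modules -/

section spin

variable (hS : Spn H.lam)
include hS

theorem spin_lz : e2 H.lz = spv (sgn H.lam) ∅ := by
  rcases hS with h | h
  · rw [e2_lz H h, h, sgn_pen, fw_pen]
  · rw [e2_lz H h, h, sgn_lst, fw_lst]

theorem spin_min : H.Min := fun b => by
  have h := two_pair_true H.lz b
  rw [spin_lz hS, rd_dot, spv] at h
  have h1 := xv_uv (spu (sgn H.lam) ∅) b.1.1
  have h2 := xv_uv (spu (sgn H.lam) ∅) b.1.2
  omega

theorem spin_wo {y : Fin m → ℤ} : WO (e2 H.lz) y ↔ ∃ T, lst m ∉ T ∧ y = spv (sgn H.lam) T := by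
  rw [spin_lz hS, spv, wo_uv, prod_spu _ (notMem_empty _)]
  constructor
  · rintro ⟨ε, h, rfl⟩
    obtain ⟨T, h1, h2⟩ := exists_spu ε
    exact ⟨T, h1, by rw [← h, spv, ← h2]⟩
  · rintro ⟨T, h, rfl⟩
    exact ⟨_, prod_spu _ h, rfl⟩

/-- the weights of a half spin module -/
theorem spin_isWt {μ : Fin m → ℤ} : H.IsWt μ ↔ ∃ T, lst m ∉ T ∧ e2 μ = spv (sgn H.lam) T :=
  (min_isWt (spin_min hS)).trans (spin_wo hS)

theorem spin_isWt' {μ : Fin m → ℤ} : H.IsWt μ ↔ ∃ ε, ∏ i, ε i = sgn H.lam ∧ e2 μ = uv ε := by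
  rw [min_isWt (spin_min hS), spin_lz hS, spv, wo_uv, prod_spu _ (notMem_empty _)]

theorem spin_abs {μ : Fin m → ℤ} (h : H.IsWt μ) (i : Fin m) : e2 μ i = 1 ∨ e2 μ i = -1 := by
  obtain ⟨T, -, h1⟩ := (spin_isWt hS).1 h
  rw [h1]
  exact spv_abs _ _ _

omit hS in
theorem card_image_spv (s : ℤˣ) {𝒯 : Finset (Finset (Fin m))} (h : ∀ T ∈ 𝒯, lst m ∉ T) :
    (𝒯.image (spv s)).card = 𝒯.card := card_image_of_injOn fun T hT T' hT' => spv_inj s (h T hT) (h T' hT')

omit hS in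
theorem mem_pw {T : Finset (Fin m)} : T ∈ (univ.erase (lst m)).powerset ↔ lst m ∉ T := by
  rw [mem_powerset, subset_erase, and_iff_right (subset_univ T)]

omit hS in
theorem card_pw : (univ.erase (lst m)).powerset.card = 2 ^ (m - 1) := by
  rw [card_powerset, card_erase_of_mem (mem_univ _), card_univ, Fintype.card_fin]

theorem spin_d : H.d = 2 ^ (m - 1) := by
  rw [← card_pw, ← card_image_spv (sgn H.lam) fun T => mem_pw.1]
  refine le_antisymm (min_d_le (spin_min hS) _ fun μ hμ => ?_) (card_le_dD H H.lz_dom (fun _ => le_rfl) _ fun y hy => ?_)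
  · obtain ⟨T, h1, h2⟩ := (spin_isWt hS).1 hμ
    exact mem_image.2 ⟨T, mem_pw.2 h1, h2.symm⟩
  · obtain ⟨T, hT, rfl⟩ := mem_image.1 hy
    exact (spin_wo hS).2 ⟨T, mem_pw.1 hT, rfl⟩

/-- upper bounds -/
theorem spin_cG_le (S : Finset (PD m)) (𝒯 : Finset (Finset (Fin m)))
    (h : ∀ T, lst m ∉ T → (∃ b ∈ S, rd b ⬝ᵥ spv (sgn H.lam) T < 0) → T ∈ 𝒯) : H.cG S ≤ 𝒯.card := by
  refine (min_cG_le (spin_min hS) S (𝒯.image (spv (sgn H.lam))) fun μ hμ h1 => ?_).trans card_image_le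
  obtain ⟨T, h2, h3⟩ := (spin_isWt hS).1 hμ
  rw [h3] at h1 ⊢
  exact mem_image_of_mem _ (h T h2 h1)

omit hS in
/-- the sets which contain the first index -/
theorem card_fst (h3 : 3 ≤ m) : ((univ.erase (lst m)).powerset.filter fun T => fst m ∈ T).card = 2 ^ (m - 2) := by
  have h0 : fst m ≠ lst m := by rw [Ne, eq_lst_iff, fst_val]; omega
  have h1 : ((univ.erase (lst m)).powerset.filter fun T => fst m ∈ T) =
      ((univ.erase (lst m)).erase (fst m)).powerset.image (insert (fst m)) := by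
    ext T
    simp only [mem_filter, mem_image, mem_powerset, subset_erase, subset_univ, true_and]
    constructor
    · rintro ⟨h1, h2⟩
      exact ⟨T.erase (fst m), ⟨fun h => h1 (mem_of_mem_erase h), notMem_erase _ _⟩, insert_erase h2⟩
    · rintro ⟨U, ⟨h1, -⟩, rfl⟩
      exact ⟨fun h => (mem_insert.1 h).elim h0.symm h1, mem_insert_self _ _⟩
  rw [h1, card_image_of_injOn, card_powerset, card_erase_of_mem (mem_erase.2 ⟨h0, mem_univ _⟩),
    card_erase_of_mem (mem_univ _), card_univ, Fintype.card_fin]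
  · rfl
  · intro U hU V hV h
    rw [← erase_insert (subset_erase.1 (mem_powerset.1 hU)).2, h, erase_insert (subset_erase.1 (mem_powerset.1 hV)).2]

/-- the set `M1` -/
theorem spin_M1 (h3 : 3 ≤ m) : H.cG (M1 m) ≤ 2 ^ (m - 2) := by
  rw [← card_fst h3]
  refine spin_cG_le hS _ _ fun T hT ⟨b, hb, h⟩ => mem_filter.2 ⟨mem_pw.2 hT, ?_⟩
  by_contra h1
  have h2 := xv_uv (spu (sgn H.lam) T) b.1.2
  rw [rd_dot, show b.1.1 = inl (fst m) from ps_inj (mem_M1.1 hb), xv_inl,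
    spv_notMem _ (by rw [Ne, eq_lst_iff, fst_val]; omega) h1, spv] at h
  omega

variable [Fact p.Prime] [CharP k p]

/-- **the spin lemma** -/
theorem spin_le (S : Finset (PD m)) (𝒯 : Finset (Finset (Fin m)))
    (h : ∀ T ∈ 𝒯, lst m ∉ T ∧ ∃ b ∈ S, rd b ⬝ᵥ spv (sgn H.lam) T < 0) : 𝒯.card ≤ H.cL S := by
  rw [← card_image_spv (sgn H.lam) fun T hT => (h T hT).1]
  refine card_le_cLD H S H.lz_dom (fun _ => le_rfl) _ fun y hy => ?_
  obtain ⟨T, hT, rfl⟩ := mem_image.1 hy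
  exact ⟨(spin_wo hS).2 ⟨T, (h T hT).1, rfl⟩, (h T hT).2⟩

omit hS in
theorem neg_of_fst {S : Finset (PD m)} {h : fst m < lst m} (h1 : dp (fst m) (lst m) h ∈ S) (h2 : dm (fst m) (lst m) h ∈ S)
    (s : ℤˣ) {T : Finset (Fin m)} (hT : fst m ∈ T) : ∃ b ∈ S, rd b ⬝ᵥ spv s T < 0 := by
  have h3 := spv_mem s h.ne hT
  rcases spv_abs s T (lst m) with h4 | h4
  · exact ⟨_, h2, by rw [dm_dot]; omega⟩
  · exact ⟨_, h1, by rw [dp_dot]; omega⟩

omit hS in
theorem neg_of_dp (s : ℤˣ) {T : Finset (Fin m)} (hT : lst m ∉ T) {i j : Fin m} (h : i < j) (hi : i ∈ T) (hj : j ∈ T) :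
    rd (dp i j h) ⬝ᵥ spv s T < 0 := by
  rw [dp_dot, spv_mem s (fun e : i = lst m => hT (e ▸ hi)) hi, spv_mem s (fun e : j = lst m => hT (e ▸ hj)) hj]
  omega

omit hS in
theorem neg_of_two {S : Finset (PD m)} (hO : On m ⊆ S) (s : ℤˣ) {T : Finset (Fin m)} (hT : lst m ∉ T) (h2 : 2 ≤ T.card) :
    ∃ b ∈ S, rd b ⬝ᵥ spv s T < 0 := by
  have key : ∀ i ∈ T, ∀ j ∈ T, i < j → ∃ b ∈ S, rd b ⬝ᵥ spv s T < 0 := fun i hi j hj h => by
    refine ⟨dp i j h, hO (mem_On.2 ?_), neg_of_dp s hT h hi hj⟩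
    have h3 : ¬ j.1 + 1 = m := fun e => hT (eq_lst_iff.2 e ▸ hj)
    have := j.2
    show j.1 + 1 < m
    omega
  obtain ⟨i, hi, j, hj, h⟩ := one_lt_card.1 h2
  rcases lt_or_gt_of_ne h with h | h
  exacts [key i hi j hj h, key j hj i hi h]

/-- `S` contains `ε_1 ± ε_m` -/
theorem spin_pm (h3 : 3 ≤ m) {S : Finset (PD m)} {h : fst m < lst m} (h1 : dp (fst m) (lst m) h ∈ S)
    (h2 : dm (fst m) (lst m) h ∈ S) : 2 ^ (m - 2) ≤ H.cL S := by
  rw [← card_fst h3]
  exact spin_le hS S _ fun T hT => ⟨mem_pw.1 (mem_filter.1 hT).1, neg_of_fst h1 h2 _ (mem_filter.1 hT).2⟩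

/-- `S` contains `ε_1 ± ε_m`, `ε_2 + ε_3`, `ε_2 + ε_4`, `ε_2 + ε_5`, `ε_3 + ε_4` -/
theorem spin_nine (h6 : 6 ≤ m) {S : Finset (PD m)} {h : fst m < lst m} (h1 : dp (fst m) (lst m) h ∈ S)
    (h2 : dm (fst m) (lst m) h ∈ S)
    (h3 : ∀ (i j : Fin m) (h : i < j), (i.1 = 1 ∧ j.1 ≤ 4) ∨ (i.1 = 2 ∧ j.1 = 3) → dp i j h ∈ S) :
    2 ^ (m - 2) + 9 ≤ H.cL S := by
  let f : Fin 6 ↪ Fin m := Fin.castLEEmb h6
  let 𝒰 : Finset (Finset (Fin 6)) := univ.filter fun U => 0 ∉ U ∧ 5 ∉ U ∧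
    ∃ i ∈ U, ∃ j ∈ U, i < j ∧ ((i.1 = 1 ∧ j.1 ≤ 4) ∨ (i.1 = 2 ∧ j.1 = 3))
  have h4 : (𝒰.image (Finset.map f)).card = 9 := by
    rw [card_image_of_injective _ (map_injective f)]
    decide
  have h5 : ∀ T ∈ 𝒰.image (Finset.map f), fst m ∉ T ∧ lst m ∉ T ∧ ∃ b ∈ S, rd b ⬝ᵥ spv (sgn H.lam) T < 0 := by
    intro T hT
    obtain ⟨U, hU, rfl⟩ := mem_image.1 hT
    obtain ⟨a1, a2, i, hi, j, hj, hij, a3⟩ := (mem_filter.1 hU).2
    have a4 : lst m ∉ U.map f := fun e => by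
      obtain ⟨x, hx, e⟩ := mem_map.1 e
      have e1 : x.1 + 1 = m := eq_lst_iff.1 e
      exact a2 ((show x = 5 from Fin.ext (by have := x.2; omega)) ▸ hx)
    refine ⟨fun e => ?_, a4, dp (f i) (f j) hij, h3 _ _ _ a3, neg_of_dp _ a4 _ (mem_map_of_mem f hi) (mem_map_of_mem f hj)⟩
    obtain ⟨x, hx, e⟩ := mem_map.1 e
    have e1 : x.1 = 0 := congrArg Fin.val e
    exact a1 ((show x = 0 from Fin.ext e1) ▸ hx)
  rw [← card_fst (by omega), ← h4, ← card_union_of_disjoint (disjoint_left.2 fun T hT hT' =>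
    (h5 T hT').1 (mem_filter.1 hT).2)]
  refine spin_le hS S _ fun T hT => ?_
  rcases mem_union.1 hT with hT | hT
  · exact ⟨mem_pw.1 (mem_filter.1 hT).1, neg_of_fst h1 h2 _ (mem_filter.1 hT).2⟩
  · exact (h5 T hT).2

/-- `S` contains `On m` -/
theorem spin_On {S : Finset (PD m)} (hO : On m ⊆ S) : 2 ^ (m - 1) ≤ H.cL S + m := by
  have := hm.out
  have h1 := spin_le hS S ((univ.erase (lst m)).powerset.filter fun T => 2 ≤ T.card) fun T hT =>
    ⟨mem_pw.1 (mem_filter.1 hT).1, neg_of_two hO _ (mem_pw.1 (mem_filter.1 hT).1) (mem_filter.1 hT).2⟩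
  have h2 : ((univ.erase (lst m)).powerset.filter fun T => ¬ 2 ≤ T.card) ⊆
      insert ∅ ((univ.erase (lst m)).image singleton) := fun T hT => by
    obtain ⟨h3, h4⟩ := mem_filter.1 hT
    rcases T.eq_empty_or_nonempty with rfl | ⟨i, hi⟩
    · exact mem_insert_self _ _
    · exact mem_insert_of_mem (mem_image.2 ⟨i, mem_powerset.1 h3 hi,
        (eq_singleton_iff_unique_mem.2 ⟨hi, fun j hj => card_le_one.1 (by omega) j hj i hi⟩).symm⟩)
  have h3 := (card_le_card h2).trans ((card_insert_le _ _).trans (Nat.add_le_add_right card_image_le 1))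
  have h4 := card_filter_add_card_filter_not (s := (univ.erase (lst m)).powerset) fun T => 2 ≤ T.card
  rw [card_erase_of_mem (mem_univ _), card_univ, Fintype.card_fin] at h3
  rw [card_pw] at h4
  omega

/-- `S` contains `Me a`, the highest weight is the node of `a` -/
theorem spin_Me {S : Finset (PD m)} {a : II m} (ha : (a = inl (lst m) ∧ H.lam = Pi.single (lst m) 1) ∨
    (a = inr (lst m) ∧ H.lam = Pi.single (pen m) 1)) (hO : Me a ⊆ S) : 2 ^ (m - 1) ≤ H.cL S + 1 := by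
  have h1 := spin_le hS S ((univ.erase (lst m)).powerset.erase ∅) fun T hT => by
    have h2 := mem_pw.1 (mem_of_mem_erase hT)
    refine ⟨h2, ?_⟩
    by_cases h3 : 2 ≤ T.card
    · exact neg_of_two ((On_sub_Me a).trans hO) _ h2 h3
    obtain ⟨i, hi⟩ := nonempty_iff_ne_empty.2 (ne_of_mem_erase hT)
    have h4 : T.card = 1 := by have := card_pos.2 ⟨i, hi⟩; omega
    have h5 : i ≠ lst m := fun e => h2 (e ▸ hi)
    rcases ha with ⟨rfl, h6⟩ | ⟨rfl, h6⟩
    · refine ⟨dp i (lst m) (lt_lst h5), hO (mem_Me.2 (Or.inr rfl)), ?_⟩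
      rw [dp_dot, spv_mem _ h5 hi, spv_lst, h4, h6, sgn_lst]
      simp
    · refine ⟨dm i (lst m) (lt_lst h5), hO (mem_Me.2 (Or.inr rfl)), ?_⟩
      rw [dm_dot, spv_mem _ h5 hi, spv_lst, h4, h6, sgn_pen]
      simp
  rw [card_erase_of_mem (empty_mem_powerset _), card_pw] at h1
  omega

end spin

end HW

/-- **Task 523.** -/
theorem boxMin : BoxMin := by
  intro p hp m _ h4
  have h1 : p ≠ 1 := hp.out.ne_one
  refine ⟨⟨card_Me, card_On⟩, fun S hA => ⟨ab_le h1 hA h4, ab_le_Ix h1 hA (by omega), le_Ix S, ab_eq h1 hA h4⟩,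
    fun k L _ _ _ _ H => ⟨fun hN => ?_, fun hS => ⟨spin_min hS, spin_d hS⟩⟩⟩
  have h3 : 3 ≤ m := by omega
  exact ⟨nat_min h3 hN, nat_d h3 hN, fun _ => nat_isWt h3 hN, fun S => ⟨nat_cL h3 hN S, nat_cG h3 hN S⟩⟩

end Cfsg.Agent.TwoF.DC.TBD.Mn
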